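/-
The mapping property as a unique extension property; base change; uniqueness.
-/
import Groth.Prelude.Def_Neron
import Mathlib.AlgebraicGeometry.Morphisms.SchemeTheoreticallyDominant
import Mathlib.AlgebraicGeometry.Morphisms.Separated

universe u

open CategoryTheory CategoryTheory.Limits AlgebraicGeometry

namespace Groth.Agent.NeronL

variable {S U S' U' : Scheme.{u}}

theorem eq_of_fac {P X Y T : Scheme.{u}} (j : P ⟶ X)
    (hj : ∀ {C : Scheme.{u}} (c : C ⟶ X) [IsClosedImmersion c] (l : P ⟶ C), l ≫ c = j → c.ker = ⊥)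
    (f g : X ⟶ Y)
    (h : Y ⟶ T) [IsSeparated h] (w : f ≫ h = g ≫ h) (e : j ≫ f = j ≫ g) : f = g := by
  -- the equalizer of `f` and `g`
  let d := pullback.diagonal h
  let m : X ⟶ pullback h h := pullback.lift f g w
  let q : P ⟶ pullback m d := pullback.lift j (j ≫ f) (by
    apply pullback.hom_ext
    · exact (congrArg (j ≫ ·) (pullback.lift_fst _ _ _)).trans (by simp [d]) |> (Category.assoc _ _ _).trans
    · exact (congrArg (j ≫ ·) (pullback.lift_snd _ _ _)).trans (by simp [d, e]) |> (Category.assoc _ _ _).trans)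
  have hiso : IsIso (pullback.fst m d) :=
    IsClosedImmersion.isIso_iff_ker_eq_bot.2 (hj (pullback.fst m d) q (pullback.lift_fst _ _ _))
  rw [← cancel_epi (pullback.fst m d)]
  have h1 := congrArg (· ≫ pullback.fst h h) (pullback.condition (f := m) (g := d))
  have h2 := congrArg (· ≫ pullback.snd h h) (pullback.condition (f := m) (g := d))
  simp only [Category.assoc, m, d, pullback.lift_fst, pullback.lift_snd, pullback.diagonal_fst,
    pullback.diagonal_snd, Category.comp_id] at h1 h2
  exact h1.trans h2.symm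

theorem eq_of_std {P X Y T : Scheme.{u}} (j : P ⟶ X) [IsSchemeTheoreticallyDominant j] (f g : X ⟶ Y)
    (h : Y ⟶ T) [IsSeparated h] (w : f ≫ h = g ≫ h) (e : j ≫ f = j ≫ g) : f = g :=
  eq_of_fac j (fun c _ l hl => le_bot_iff.1 ((hl ▸ j.ker_eq_bot : (l ≫ c).ker = ⊥) ▸ Scheme.Hom.le_ker_comp l c)) f g h w e

variable (j : U ⟶ S) {Y N : Over S}

theorem pb_map_fst (f : Y ⟶ N) :
    (((Over.pullback j).map f).left : pullback Y.hom j ⟶ pullback N.hom j) ≫ pullback.fst N.hom j =
      pullback.fst Y.hom j ≫ f.left :=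
  pullback.lift_fst _ _ _

theorem pb_map_snd (f : Y ⟶ N) :
    (((Over.pullback j).map f).left : pullback Y.hom j ⟶ pullback N.hom j) ≫ pullback.snd N.hom j =
      pullback.snd Y.hom j :=
  pullback.lift_snd _ _ _

theorem map_eq_iff (f f' : Y ⟶ N) :
    (Over.pullback j).map f = (Over.pullback j).map f' ↔
      pullback.fst Y.hom j ≫ f.left = pullback.fst Y.hom j ≫ f'.left := by
  constructor
  · intro h
    have := congrArg (fun φ : (Over.pullback j).obj Y ⟶ (Over.pullback j).obj N =>
      (φ.left : pullback Y.hom j ⟶ pullback N.hom j) ≫ pullback.fst N.hom j) h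
    exact (pb_map_fst j f).symm.trans (this.trans (pb_map_fst j f'))
  · intro h
    apply Over.OverMorphism.ext
    apply pullback.hom_ext
    · exact (pb_map_fst j f).trans (h.trans (pb_map_fst j f').symm)
    · exact (pb_map_snd j f).trans (pb_map_snd j f').symm

theorem map_injective_iff :
    Function.Injective (fun f : Y ⟶ N => (Over.pullback j).map f) ↔
      ∀ f f' : Y ⟶ N, pullback.fst Y.hom j ≫ f.left = pullback.fst Y.hom j ≫ f'.left → f = f' :=
  ⟨fun h f f' e => h ((map_eq_iff j f f').2 e), fun h f f' e => h f f' ((map_eq_iff j f f').1 e)⟩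

theorem map_bijective_iff :
    Function.Bijective (fun f : Y ⟶ N => (Over.pullback j).map f) ↔
      ∀ v : pullback Y.hom j ⟶ N.left, v ≫ N.hom = pullback.fst Y.hom j ≫ Y.hom →
        ∃! f : Y ⟶ N, pullback.fst Y.hom j ≫ f.left = v := by
  constructor
  · intro h v hv
    let φ : (Over.pullback j).obj Y ⟶ (Over.pullback j).obj N :=
      Over.homMk (pullback.lift v (pullback.snd Y.hom j) (by rw [hv, pullback.condition])) (pullback.lift_snd _ _ _)
    obtain ⟨f, hf⟩ := h.2 φ
    have hfv : pullback.fst Y.hom j ≫ f.left = v := by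
      have := congrArg (fun φ : (Over.pullback j).obj Y ⟶ (Over.pullback j).obj N =>
        (φ.left : pullback Y.hom j ⟶ pullback N.hom j) ≫ pullback.fst N.hom j) hf
      exact (pb_map_fst j f).symm.trans (this.trans (pullback.lift_fst _ _ _))
    exact ⟨f, hfv, fun f' hf' => h.1 ((map_eq_iff j f' f).2 (hf'.trans hfv.symm))⟩
  · intro h
    refine ⟨fun f f' e => ?_, fun φ => ?_⟩
    · obtain ⟨g, -, hu⟩ := h (pullback.fst Y.hom j ≫ f.left) (by rw [Category.assoc, Over.w f])
      exact (hu f rfl).trans (hu f' ((map_eq_iff j f f').1 e).symm).symm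
    · have hv : ((φ.left : pullback Y.hom j ⟶ pullback N.hom j) ≫ pullback.fst N.hom j) ≫ N.hom =
          pullback.fst Y.hom j ≫ Y.hom := by
        have hw : (φ.left : pullback Y.hom j ⟶ pullback N.hom j) ≫ pullback.snd N.hom j = pullback.snd Y.hom j := Over.w φ
        rw [Category.assoc, pullback.condition, reassoc_of% hw, pullback.condition]
      obtain ⟨f, hf, -⟩ := h _ hv
      refine ⟨f, Over.OverMorphism.ext (pullback.hom_ext ?_ ?_)⟩
      · exact (pb_map_fst j f).trans hf
      · exact (Over.w ((Over.pullback j).map f)).trans (Over.w φ).symm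

/-- Base change of the mapping property along `g`. -/
theorem bijective_baseChange (g : S' ⟶ S) {gU : U' ⟶ U} {j' : U' ⟶ S'} (H : IsPullback gU j' j g)
    (Y' : Over S') (hN : Function.Bijective (fun f : Over.mk (Y'.hom ≫ g) ⟶ N => (Over.pullback j).map f)) :
    Function.Bijective (fun f : Y' ⟶ (Over.pullback g).obj N => (Over.pullback j').map f) := by
  rw [map_bijective_iff] at hN ⊢
  intro v hv
  have hP : IsPullback (pullback.fst Y'.hom j') (pullback.snd Y'.hom j' ≫ gU) (Y'.hom ≫ g) j :=
    (IsPullback.of_hasPullback Y'.hom j').paste_vert H.flip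
  let e := hP.isoPullback
  obtain ⟨f, hf, hu⟩ := hN (e.inv ≫ v ≫ pullback.fst N.hom g) (by
    have hv' : v ≫ pullback.snd N.hom g = pullback.fst Y'.hom j' ≫ Y'.hom := hv
    simp only [Category.assoc, pullback.condition, reassoc_of% hv']
    exact (hP.isoPullback_inv_fst_assoc (Y'.hom ≫ g)).trans pullback.condition)
  have hf' : pullback.fst Y'.hom j' ≫ f.left = v ≫ pullback.fst N.hom g := by
    rw [← hP.isoPullback_hom_fst, Category.assoc]
    exact (congrArg (e.hom ≫ ·) hf).trans (e.hom_inv_id_assoc _)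
  refine ⟨Over.homMk (pullback.lift f.left Y'.hom (Over.w f)) (pullback.lift_snd _ _ _), ?_, fun f' hf'' => ?_⟩
  · apply pullback.hom_ext
    · exact (Category.assoc _ _ _).trans ((congrArg _ (pullback.lift_fst _ _ _)).trans hf')
    · exact (Category.assoc _ _ _).trans ((congrArg _ (pullback.lift_snd _ _ _)).trans hv.symm)
  · let f₁ : Over.mk (Y'.hom ≫ g) ⟶ N := Over.homMk ((f'.left : Y'.left ⟶ pullback N.hom g) ≫ pullback.fst N.hom g) (by
      have hw : (f'.left : Y'.left ⟶ pullback N.hom g) ≫ pullback.snd N.hom g = Y'.hom := Over.w f'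
      simp [pullback.condition, reassoc_of% hw])
    have : f₁ = f := hu f₁ (by
      show pullback.fst (Y'.hom ≫ g) j ≫ _ ≫ pullback.fst N.hom g = _
      rw [← hP.isoPullback_inv_fst, Category.assoc, reassoc_of% hf''])
    apply Over.OverMorphism.ext
    apply pullback.hom_ext
    · exact (congrArg (fun φ : Over.mk (Y'.hom ≫ g) ⟶ N => φ.left) this).trans (pullback.lift_fst _ _ _).symm
    · exact (Over.w f').trans (pullback.lift_snd _ _ _).symm

theorem injective_baseChange (g : S' ⟶ S) {gU : U' ⟶ U} {j' : U' ⟶ S'} (H : IsPullback gU j' j g)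
    (Y' : Over S') (hN : Function.Injective (fun f : Over.mk (Y'.hom ≫ g) ⟶ N => (Over.pullback j).map f)) :
    Function.Injective (fun f : Y' ⟶ (Over.pullback g).obj N => (Over.pullback j').map f) := by
  rw [map_injective_iff] at hN ⊢
  intro a b hab
  have hP : IsPullback (pullback.fst Y'.hom j') (pullback.snd Y'.hom j' ≫ gU) (Y'.hom ≫ g) j :=
    (IsPullback.of_hasPullback Y'.hom j').paste_vert H.flip
  let mk (f' : Y' ⟶ (Over.pullback g).obj N) : Over.mk (Y'.hom ≫ g) ⟶ N :=
    Over.homMk ((f'.left : Y'.left ⟶ pullback N.hom g) ≫ pullback.fst N.hom g) (by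
      have hw : (f'.left : Y'.left ⟶ pullback N.hom g) ≫ pullback.snd N.hom g = Y'.hom := Over.w f'
      simp [pullback.condition, reassoc_of% hw])
  have := hN (mk a) (mk b) (by
    show pullback.fst (Y'.hom ≫ g) j ≫ _ ≫ pullback.fst N.hom g = pullback.fst (Y'.hom ≫ g) j ≫ _ ≫ pullback.fst N.hom g
    rw [← hP.isoPullback_inv_fst, Category.assoc, Category.assoc, reassoc_of% hab])
  apply Over.OverMorphism.ext
  apply pullback.hom_ext
  · exact congrArg (fun φ : Over.mk (Y'.hom ≫ g) ⟶ N => φ.left) this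
  · exact (Over.w a).trans (Over.w b).symm

section Dedekind

variable (R : Type u) [CommRing R] [IsDomain R]

instance genPt_std : IsSchemeTheoreticallyDominant (Neron.genPt R) := by
  have : IsDominant (Neron.genPt R) := by
    rw [isDominant_iff]
    exact PrimeSpectrum.denseRange_comap_iff_ker_le_nilRadical _ |>.2 (by
      rw [CommRingCat.hom_ofHom, (RingHom.injective_iff_ker_eq_bot _).1 (IsFractionRing.injective R (FractionRing R))]
      exact bot_le)
  exact .of_isDominant _

theorem eq_of_genericFibre (X Y : Over (Spec (CommRingCat.of R))) [Flat X.hom] [IsSeparated Y.hom] (f g : X ⟶ Y)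
    (h : (Neron.genericFibre R).map f = (Neron.genericFibre R).map g) : f = g :=
  Over.OverMorphism.ext (eq_of_std (pullback.fst X.hom (Neron.genPt R)) f.left g.left Y.hom
    ((Over.w f).trans (Over.w g).symm) ((map_eq_iff _ f g).1 h))

theorem isNeron_of_closed (X G : Over (Spec (CommRingCat.of R)))
    (hX : Neron.IsNeronModelOf R X ((Neron.genericFibre R).obj X) (Iso.refl _))
    (i : G ⟶ X) [IsClosedImmersion i.left] [Smooth G.hom] :
    Neron.IsNeronModelOf R G ((Neron.genericFibre R).obj G) (Iso.refl _) := by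
  obtain ⟨-, hs, hft, hqc, hN⟩ := hX
  have hG : IsSeparated G.hom := by rw [← Over.w i]; infer_instance
  have hG' : QuasiCompact G.hom := by rw [← Over.w i]; infer_instance
  refine ⟨‹_›, hG, inferInstance, hG', fun Y hY => ?_⟩
  have hN' := hN Y hY
  simp only [Iso.refl_hom, Category.comp_id] at hN' ⊢
  rw [map_bijective_iff] at hN' ⊢
  intro v hv
  obtain ⟨h, hh, -⟩ := hN' (v ≫ i.left) (by rw [Category.assoc, Over.w i, hv])
  -- `h` factors through `G`
  let c := pullback.fst h.left i.left
  let q : pullback Y.hom (Neron.genPt R) ⟶ pullback h.left i.left :=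
    pullback.lift (pullback.fst Y.hom _) v hh
  have : IsSchemeTheoreticallyDominant c := by
    rw [isSchemeTheoreticallyDominant_iff]
    have hj : (q ≫ c).ker = ⊥ := by rw [pullback.lift_fst]; exact Scheme.Hom.ker_eq_bot _
    exact le_bot_iff.1 (hj ▸ Scheme.Hom.le_ker_comp q c)
  have : IsIso c := IsClosedImmersion.isIso_iff_ker_eq_bot.2 (Scheme.Hom.ker_eq_bot _)
  let l := inv c ≫ pullback.snd h.left i.left
  have hl : l ≫ i.left = h.left := by
    rw [Category.assoc, ← pullback.condition, IsIso.inv_hom_id_assoc]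
  refine ⟨Over.homMk l (by rw [← Over.w i, ← Category.assoc, hl]; exact Over.w h), ?_, fun f hf => ?_⟩
  · show pullback.fst Y.hom _ ≫ l = v
    rw [← cancel_mono i.left, Category.assoc, hl, hh]
  · refine eq_of_genericFibre R Y G f _ ((map_eq_iff _ _ _).2 (hf.trans ?_))
    show v = pullback.fst Y.hom _ ≫ l
    rw [← cancel_mono i.left, Category.assoc, hl, hh]

theorem neron_unique (A : Over (Spec (CommRingCat.of (FractionRing R))))
    (N₁ N₂ : Over (Spec (CommRingCat.of R)))
    (e₁ : (Neron.genericFibre R).obj N₁ ≅ A) (e₂ : (Neron.genericFibre R).obj N₂ ≅ A)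
    (h₁ : Neron.IsNeronModelOf R N₁ A e₁) (h₂ : Neron.IsNeronModelOf R N₂ A e₂) :
    (∃! ψ : N₁ ⟶ N₂, (Neron.genericFibre R).map ψ ≫ e₂.hom = e₁.hom) ∧
      ∀ ψ : N₁ ⟶ N₂, (Neron.genericFibre R).map ψ ≫ e₂.hom = e₁.hom → IsIso ψ := by
  obtain ⟨hs₁, -, -, -, hb₁⟩ := h₁
  obtain ⟨hs₂, -, -, -, hb₂⟩ := h₂
  refine ⟨(hb₂ N₁ hs₁).existsUnique e₁.hom, fun ψ hψ => ?_⟩
  obtain ⟨χ, hχ⟩ := (hb₁ N₂ hs₂).2 e₂.hom
  simp only at hχ
  refine ⟨⟨χ, (hb₁ N₁ hs₁).1 ?_, (hb₂ N₂ hs₂).1 ?_⟩⟩
  · simp only [Functor.map_comp, Category.assoc, hχ, hψ]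
    erw [CategoryTheory.Functor.map_id, Category.id_comp]
  · simp only [Functor.map_comp, Category.assoc, hψ, hχ]
    erw [CategoryTheory.Functor.map_id, Category.id_comp]

end Dedekind

end Groth.Agent.NeronL
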