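/-
Formal properties of the mapping property: products, composition, group laws.
-/
import Groth.Agent.L26.Neron.Basic
import Mathlib.CategoryTheory.Comma.Over.Pullback
import Mathlib.CategoryTheory.Monoidal.Cartesian.Over
import Mathlib.CategoryTheory.Monoidal.Cartesian.Grp
import Mathlib.AlgebraicGeometry.Morphisms.Smooth
import Mathlib.AlgebraicGeometry.Morphisms.Etale

universe u

open CategoryTheory CategoryTheory.Limits AlgebraicGeometry

namespace Groth.Agent.NeronL

/-- the mapping property of `N` along `j`, against smooth schemes -/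
def MP {U S : Scheme.{u}} (j : U ⟶ S) (N : Over S) : Prop :=
  ∀ Z : Over S, Smooth Z.hom → Function.Bijective (fun g : Z ⟶ N => (Over.pullback j).map g)

variable {U S : Scheme.{u}} {j : U ⟶ S}

theorem MP.existsUnique {N : Over S} (h : MP j N) (Z : Over S) (hZ : Smooth Z.hom)
    (v : pullback Z.hom j ⟶ N.left) (hv : v ≫ N.hom = pullback.fst Z.hom j ≫ Z.hom) :
    ∃! f : Z ⟶ N, pullback.fst Z.hom j ≫ f.left = v :=
  (map_bijective_iff j).1 (h Z hZ) v hv

theorem MP.ext {N : Over S} (h : MP j N) {Z : Over S} (hZ : Smooth Z.hom) {f g : Z ⟶ N}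
    (e : pullback.fst Z.hom j ≫ f.left = pullback.fst Z.hom j ≫ g.left) : f = g :=
  (map_injective_iff j).1 (h Z hZ).1 f g e

theorem MP.prod {N M : Over S} (hN : MP j N) (hM : MP j M) :
    MP j (Over.mk (pullback.fst N.hom M.hom ≫ N.hom)) := by
  intro Z hZ
  rw [map_bijective_iff]
  intro (v : pullback Z.hom j ⟶ pullback N.hom M.hom) (hv : v ≫ pullback.fst N.hom M.hom ≫ N.hom = _)
  obtain ⟨a, ha, -⟩ := hN.existsUnique Z hZ (v ≫ pullback.fst _ _) (by rw [Category.assoc, hv])
  obtain ⟨b, hb, -⟩ := hM.existsUnique Z hZ (v ≫ pullback.snd _ _) (by rw [Category.assoc, ← pullback.condition, hv])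
  refine ⟨Over.homMk (pullback.lift a.left b.left ((Over.w a).trans (Over.w b).symm))
    ((pullback.lift_fst_assoc _ _ _ _).trans (Over.w a)), ?_, fun f hf => ?_⟩
  · apply pullback.hom_ext
    · exact (Category.assoc _ _ _).trans ((congrArg _ (pullback.lift_fst _ _ _)).trans ha)
    · exact (Category.assoc _ _ _).trans ((congrArg _ (pullback.lift_snd _ _ _)).trans hb)
  · let fl : Z.left ⟶ pullback N.hom M.hom := f.left
    have hw : fl ≫ pullback.fst N.hom M.hom ≫ N.hom = Z.hom := Over.w f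
    have h1 : Over.homMk (fl ≫ pullback.fst N.hom M.hom) ((Category.assoc _ _ _).trans hw) = a :=
      hN.ext hZ (by rw [ha]; exact (Category.assoc _ _ _).symm.trans (congrArg (· ≫ pullback.fst _ _) hf))
    have h2 : Over.homMk (fl ≫ pullback.snd N.hom M.hom)
        (by rw [Category.assoc, ← pullback.condition, hw]) = b :=
      hM.ext hZ (by rw [hb]; exact (Category.assoc _ _ _).symm.trans (congrArg (· ≫ pullback.snd _ _) hf))
    apply Over.OverMorphism.ext
    apply pullback.hom_ext
    · exact (congrArg (fun φ : Z ⟶ N => φ.left) h1).trans (pullback.lift_fst _ _ _).symm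
    · exact (congrArg (fun φ : Z ⟶ M => φ.left) h2).trans (pullback.lift_snd _ _ _).symm

theorem MP.fibre {G H : Over S} (hG : MP j G) (hH : MP j H) (f : G ⟶ H) (e : S ⟶ H.left)
    (he : e ≫ H.hom = 𝟙 S) : MP j (Over.mk (pullback.snd f.left e)) := by
  intro Z hZ
  rw [map_bijective_iff]
  intro (v : pullback Z.hom j ⟶ pullback f.left e) (hv : v ≫ pullback.snd f.left e = _)
  have hk : pullback.fst f.left e ≫ G.hom = pullback.snd f.left e := by
    rw [← Over.w f, pullback.condition_assoc, he, Category.comp_id]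
  obtain ⟨a, ha, hau⟩ := hG.existsUnique Z hZ (v ≫ pullback.fst _ _) (by rw [Category.assoc, hk, hv])
  have hc : a.left ≫ f.left = Z.hom ≫ e := by
    have := hH.ext hZ (f := a ≫ f) (g := Over.homMk (Z.hom ≫ e) (by rw [Category.assoc, he, Category.comp_id])) (by
      show pullback.fst Z.hom j ≫ a.left ≫ f.left = pullback.fst Z.hom j ≫ Z.hom ≫ e
      rw [reassoc_of% ha, pullback.condition, reassoc_of% hv])
    exact congrArg (fun φ : Z ⟶ H => φ.left) this
  refine ⟨Over.homMk (pullback.lift a.left Z.hom hc) (pullback.lift_snd _ _ _), ?_, fun g hg => ?_⟩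
  · apply pullback.hom_ext
    · exact (Category.assoc _ _ _).trans ((congrArg _ (pullback.lift_fst _ _ _)).trans ha)
    · exact (Category.assoc _ _ _).trans ((congrArg _ (pullback.lift_snd _ _ _)).trans hv.symm)
  · let gl : Z.left ⟶ pullback f.left e := g.left
    have hw : gl ≫ pullback.snd f.left e = Z.hom := Over.w g
    have h1 := hau (Over.homMk (gl ≫ pullback.fst f.left e) (by rw [Category.assoc, hk, hw]))
      ((Category.assoc _ _ _).symm.trans (congrArg (· ≫ pullback.fst _ _) hg))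
    apply Over.OverMorphism.ext
    apply pullback.hom_ext
    · exact (congrArg (fun φ : Z ⟶ G => φ.left) h1).trans (pullback.lift_fst _ _ _).symm
    · exact hw.trans (pullback.lift_snd _ _ _).symm

theorem smooth_of_comp_etale {X Y Z : Scheme.{u}} (f : X ⟶ Y) (g : Y ⟶ Z) [Smooth (f ≫ g)] [Etale g] :
    Smooth f := by
  have : MorphismProperty.IsMultiplicative @Smooth :=
    { id_mem := fun _ => inferInstanceAs (Smooth (𝟙 _)) }
  have : MorphismProperty.HasOfPostcompProperty @Smooth @Etale := by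
    refine MorphismProperty.hasOfPostcompProperty_iff_le_diagonal.mpr ?_
    intro A B k hk
    show Smooth (pullback.diagonal k)
    infer_instance
  exact MorphismProperty.of_postcomp (W := @Smooth) (W' := @Etale) f g ‹_› ‹_›

theorem MP.comp {T X : Scheme.{u}} {U₀ : Scheme.{u}} {j₀ : U₀ ⟶ T} {f : S ⟶ T} [Etale f] (g : X ⟶ S)
    {fU : U ⟶ U₀} (hP : IsPullback fU j j₀ f) (hS : MP j₀ (Over.mk f)) (hN : MP j (Over.mk g)) :
    MP j₀ (Over.mk (g ≫ f)) := by
  intro Z hZ
  rw [map_bijective_iff]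
  intro (v : pullback Z.hom j₀ ⟶ X) (hv : v ≫ g ≫ f = _)
  obtain ⟨h, hh, -⟩ := hS.existsUnique Z hZ (v ≫ g) (by
    show (v ≫ g) ≫ f = _
    rw [Category.assoc, hv])
  let hl : Z.left ⟶ S := h.left
  have hw : hl ≫ f = Z.hom := Over.w h
  have : Smooth (hl ≫ f) := by rw [hw]; exact hZ
  have hsm : Smooth hl := smooth_of_comp_etale hl f
  have hQ : IsPullback (pullback.fst hl j) (pullback.snd hl j ≫ fU) Z.hom j₀ := by
    have := (IsPullback.of_hasPullback hl j).paste_vert hP.flip
    rwa [hw] at this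
  let e := hQ.isoPullback
  have he : e.hom ≫ pullback.fst Z.hom j₀ = pullback.fst hl j := hQ.isoPullback_hom_fst
  obtain ⟨F, hF, -⟩ := hN.existsUnique (Over.mk hl) hsm (e.hom ≫ v) (by
    show (e.hom ≫ v) ≫ g = pullback.fst hl j ≫ hl
    rw [Category.assoc, ← hh, ← Category.assoc, he])
  let Fl : Z.left ⟶ X := F.left
  have hFw : Fl ≫ g = hl := Over.w F
  have hF' : pullback.fst Z.hom j₀ ≫ Fl = v := by
    rw [← cancel_epi e.hom, reassoc_of% he]; exact hF
  refine ⟨Over.homMk Fl (by show Fl ≫ g ≫ f = Z.hom; rw [reassoc_of% hFw, hw]), hF', fun l hlv => ?_⟩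
  let ll : Z.left ⟶ X := l.left
  have hlw : ll ≫ g ≫ f = Z.hom := Over.w l
  have hlg : ll ≫ g = hl := by
    have := hS.ext hZ (f := Over.homMk (ll ≫ g) ((Category.assoc _ _ _).trans hlw)) (g := h) (by
      show pullback.fst Z.hom j₀ ≫ ll ≫ g = _
      rw [hh]; exact (Category.assoc _ _ _).symm.trans (congrArg (· ≫ g) hlv))
    exact congrArg (fun φ : Z ⟶ Over.mk f => φ.left) this
  have := hN.ext (Z := Over.mk hl) hsm (f := Over.homMk ll hlg) (g := F) (by
    show pullback.fst hl j ≫ ll = pullback.fst hl j ≫ Fl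
    rw [← he, Category.assoc, Category.assoc, hF']
    exact congrArg _ hlv)
  exact Over.OverMorphism.ext (congrArg (fun φ : Over.mk hl ⟶ Over.mk g => φ.left) this)

theorem bijective_map_iff_of_iso {C D : Type*} [Category C] [Category D] {F G : C ⥤ D} (e : F ≅ G) (X Y : C) :
    Function.Bijective (fun f : X ⟶ Y => F.map f) ↔ Function.Bijective (fun f : X ⟶ Y => G.map f) := by
  have : (fun f : X ⟶ Y => G.map f) = ((e.app X).homCongr (e.app Y)) ∘ (fun f : X ⟶ Y => F.map f) :=
    funext fun f => (NatIso.naturality_1 e f).symm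
  rw [this, Function.Bijective.of_comp_iff' (Equiv.bijective _)]

theorem MP.iff_of_iso {U' : Scheme.{u}} (e : U' ⟶ U) [IsIso e] {N : Over S} (Z : Over S) {j' : U' ⟶ S}
    (hj : e ≫ j = j') :
    Function.Bijective (fun f : Z ⟶ N => (Over.pullback j').map f) ↔
      Function.Bijective (fun f : Z ⟶ N => (Over.pullback j).map f) := by
  subst hj
  have : (Over.pullback e).IsEquivalence := (Over.mapPullbackAdj e).isEquivalence_right_of_isEquivalence_left
  rw [bijective_map_iff_of_iso (Over.pullbackComp e j)]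
  exact Function.Bijective.of_comp_iff'
    (f := fun φ : (Over.pullback j).obj Z ⟶ (Over.pullback j).obj N => (Over.pullback e).map φ)
    ⟨(Over.pullback e).map_injective, (Over.pullback e).map_surjective⟩ _

/-- Two steps: restriction to `U₁`, then to `U`. -/
theorem bijective_step_iff {U₁ : Scheme.{u}} (i : U ⟶ U₁) (j₁ : U₁ ⟶ S) {N : Over S} (Z : Over S)
    (h10 : Function.Bijective (fun f : (Over.pullback j₁).obj Z ⟶ (Over.pullback j₁).obj N => (Over.pullback i).map f)) :
    Function.Bijective (fun f : Z ⟶ N => (Over.pullback (i ≫ j₁)).map f) ↔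
      Function.Bijective (fun f : Z ⟶ N => (Over.pullback j₁).map f) := by
  rw [bijective_map_iff_of_iso (Over.pullbackComp i j₁)]
  exact Function.Bijective.of_comp_iff' h10 _

section Opens

variable (S₀ S₁ : S.Opens) (h01 : S₀ ≤ S₁)

include h01

theorem isIso_restrict_le : IsIso (S₁.ι ∣_ S₀) := by
  have : IsOpenImmersion (S₁.ι ∣_ S₀) := MorphismProperty.of_isPullback (P := @IsOpenImmersion) (isPullback_morphismRestrict S₁.ι S₀).flip inferInstance
  have : Surjective (S₁.ι ∣_ S₀) := ⟨fun x => ⟨⟨⟨x.1, h01 x.2⟩, x.2⟩, Subtype.ext (by simp [morphismRestrict_base])⟩⟩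
  exact isIso_of_isOpenImmersion_of_opensRange_eq_top _ (TopologicalSpace.Opens.ext (Set.range_eq_univ.2 Surjective.surj))

theorem bijective_opens_iff {N : Over S} (Z : Over S)
    (h10 : Function.Bijective (fun f : (Over.pullback S₁.ι).obj Z ⟶ (Over.pullback S₁.ι).obj N =>
      (Over.pullback (S₁.ι ⁻¹ᵁ S₀).ι).map f)) :
    Function.Bijective (fun f : Z ⟶ N => (Over.pullback S₀.ι).map f) ↔
      Function.Bijective (fun f : Z ⟶ N => (Over.pullback S₁.ι).map f) := by
  have := isIso_restrict_le S₀ S₁ h01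
  rw [← MP.iff_of_iso (S₁.ι ∣_ S₀) Z (morphismRestrict_ι S₁.ι S₀)]
  exact bijective_step_iff _ _ Z h10

end Opens

open MonoidalCategory MonObj in
theorem isMonHom_of_mul {G H : Over S} [GrpObj G] [GrpObj H] [Smooth H.hom] (hG : MP j G) (f : H ⟶ G)
    (hf : (Over.pullback j).map (μ[H] ≫ f) = (Over.pullback j).map ((f ⊗ₘ f) ≫ μ[G])) : IsMonHom f := by
  have hs : Smooth (H ⊗ H).hom := inferInstanceAs (Smooth (pullback.fst H.hom H.hom ≫ H.hom))
  have hmul : μ[H] ≫ f = (f ⊗ₘ f) ≫ μ[G] := (hG (H ⊗ H) hs).1 hf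
  refine { one_hom := ?_, mul_hom := hmul }
  set x : (𝟙_ (Over S)) ⟶ G := η[H] ≫ f with hx
  suffices x = 1 by rw [this]; rfl
  have : x * x = x := by
    rw [hx, Hom.mul_def, ← CartesianMonoidalCategory.lift_map, Category.assoc, ← hmul, ← Category.assoc,
      ← Hom.mul_def]
    congr 1
    rw [show η[H] = (1 : 𝟙_ (Over S) ⟶ H) from by rw [Hom.one_def]; simp, _root_.mul_one]
  exact (@mul_eq_left _ _ _ x x).1 this

end Groth.Agent.NeronL
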