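/-
Schematically dense opens and schematically dominant inclusions.
-/
import Groth.Prelude.Def_CInt
import Mathlib.AlgebraicGeometry.Morphisms.SchemeTheoreticallyDominant

universe u

open CategoryTheory CategoryTheory.Limits AlgebraicGeometry

namespace Groth.Agent.NeronL

variable {E : Scheme.{u}} {U : E.Opens}

theorem ker_eq_bot_of_schDense (hU : CInt.IsSchematicallyDense U) {C : Scheme.{u}} (c : C ⟶ E)
    [IsClosedImmersion c] (l : (U : Scheme.{u}) ⟶ C) (hl : l ≫ c = U.ι) : c.ker = ⊥ := by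
  refine le_antisymm (fun V => ?_) bot_le
  rw [Scheme.Hom.ker_apply]
  intro s hs
  simp only [Scheme.IdealSheafData.ideal_bot, Pi.bot_apply, Ideal.mem_bot]
  apply hU V.1
  refine Eq.trans ?_ (map_zero _).symm
  rw [RingHom.mem_ker] at hs
  have h0 : U.ι.app V.1 s = 0 := by
    refine (DFunLike.congr_fun (congrArg CommRingCat.Hom.hom (Scheme.Hom.congr_app hl.symm V.1)) s).trans ?_
    exact (congrArg _ ((congrArg (l.app _) hs).trans (map_zero _))).trans
      (map_zero (CommRingCat.Hom.hom ((U : Scheme.{u}).presheaf.map _)))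
  rw [Scheme.Opens.ι_app] at h0
  have h2 := congrArg (E.presheaf.map (homOfLE (show V.1 ⊓ U ≤ U.ι ''ᵁ (U.ι ⁻¹ᵁ V.1) by
    rw [Scheme.Hom.image_preimage_eq_opensRange_inf, Scheme.Opens.opensRange_ι, inf_comm])).op) h0
  erw [map_zero, ← ConcreteCategory.comp_apply, ← Functor.map_comp] at h2
  exact h2

theorem schDense_restrict (hU : CInt.IsSchematicallyDense U) (W : E.Opens) :
    CInt.IsSchematicallyDense (W.ι ⁻¹ᵁ U) := by
  intro V
  have hle : W.ι ''ᵁ (V ⊓ W.ι ⁻¹ᵁ U) = (W.ι ''ᵁ V) ⊓ U := by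
    ext x
    constructor
    · rintro ⟨y, ⟨h1, h2⟩, rfl⟩; exact ⟨⟨y, h1, rfl⟩, h2⟩
    · rintro ⟨⟨y, h1, rfl⟩, h2⟩; exact ⟨y, ⟨h1, h2⟩, rfl⟩
  show Function.Injective (E.presheaf.map _)
  intro a b hab
  apply hU (W.ι ''ᵁ V)
  have := congrArg (E.presheaf.map (eqToHom hle.symm).op) hab
  erw [← ConcreteCategory.comp_apply, ← ConcreteCategory.comp_apply, ← Functor.map_comp] at this
  exact this

end Groth.Agent.NeronL
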