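/-
The schematic closure of a closed subgroup of the generic fibre over a Dedekind domain.
-/
import Groth.Agent.L26.Neron.Basic
import Groth.Agent.L26.AV.Image
import Groth.Prelude.Def_Red
import Groth.Agent.L08.HomLocus
import Mathlib.RingTheory.Flat.TorsionFree
import Mathlib.RingTheory.DedekindDomain.Dvr

set_option autoImplicit false
set_option backward.isDefEq.respectTransparency false
set_option synthInstance.maxHeartbeats 200000
set_option maxHeartbeats 800000

open CategoryTheory CategoryTheory.Limits MonoidalCategory CartesianMonoidalCategory MonObj GrpObj Functor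
  AlgebraicGeometry
open scoped CategoryTheory.Obj

universe u

namespace Groth.Agent.NeronL

variable {R : Type u} [CommRing R]

/-- A scheme over a Dedekind domain in which the generic fibre is dense is flat. -/
theorem flat_spec_of_dominated [IsDedekindDomain R] {A : CommRingCat.{u}}
    (ρ : CommRingCat.of R ⟶ A) {P : Scheme.{u}} (ψ : P ⟶ Spec A)
    [IsSchemeTheoreticallyDominant ψ] [QuasiCompact ψ]
    (s : P ⟶ Spec (CommRingCat.of (FractionRing R)))
    (w : ψ ≫ Spec.map ρ = s ≫ Neron.genPt R) : Flat (Spec.map ρ) := by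
  let a : A ⟶ Γ(P, ⊤) := (Scheme.ΓSpecIso A).inv ≫ ψ.appTop
  let b : CommRingCat.of (FractionRing R) ⟶ Γ(P, ⊤) := (Scheme.ΓSpecIso _).inv ≫ s.appTop
  have hab : ρ ≫ a = CommRingCat.ofHom (algebraMap R (FractionRing R)) ≫ b := by
    have e1 : (Scheme.ΓSpecIso (CommRingCat.of R)).inv ≫ (ψ ≫ Spec.map ρ).appTop = ρ ≫ a := by
      simp [a, Scheme.ΓSpecIso_inv_naturality_assoc]
    have e2 : (Scheme.ΓSpecIso (CommRingCat.of R)).inv ≫ (s ≫ Neron.genPt R).appTop =
        CommRingCat.ofHom (algebraMap R (FractionRing R)) ≫ b := by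
      simp [b, Scheme.ΓSpecIso_inv_naturality_assoc]
    rw [← e1, w, e2]
  have hinj : Function.Injective a.hom :=
    (Scheme.Hom.app_injective ψ ⊤).comp
      (ConcreteCategory.bijective_of_isIso (Scheme.ΓSpecIso A).inv).1
  rw [HasRingHomProperty.Spec_iff (P := @Flat)]
  letI := ρ.hom.toAlgebra
  show Module.Flat R A
  rw [IsDedekindDomain.flat_iff_torsion_eq_bot]
  refine eq_bot_iff.2 fun x hx => ?_
  obtain ⟨⟨r, hr⟩, hrx⟩ := hx
  have hr0 : r ≠ 0 := mem_nonZeroDivisors_iff_ne_zero.1 hr
  have h1 : a.hom (ρ.hom r) * a.hom x = 0 := by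
    rw [← map_mul, show ρ.hom r * x = 0 from hrx, map_zero]
  have h2 : a.hom (ρ.hom r) = b.hom (algebraMap R (FractionRing R) r) := by
    rw [← CommRingCat.comp_apply, hab]; rfl
  have h3 : IsUnit (a.hom (ρ.hom r)) := by
    rw [h2]
    refine IsUnit.map _ (isUnit_iff_ne_zero.2 ?_)
    exact fun h => hr0 (IsFractionRing.injective R (FractionRing R) (h.trans (map_zero _).symm))
  refine (Submodule.mem_bot R).2 (hinj ?_)
  rw [map_zero]
  exact (h3.mul_right_eq_zero).1 h1

/-- The schematic closure of a closed subgroup of the generic fibre is a flat closed subgroup. -/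
theorem exists_closure [IsDedekindDomain R] (G : Over (Spec (CommRingCat.of R))) [GrpObj G]
    (HK : Over (Spec (CommRingCat.of (FractionRing R)))) [GrpObj HK]
    (i : HK ⟶ Red.bc (Neron.genPt R) G) [IsMonHom i] [IsClosedImmersion i.left] :
    ∃ (H : Over (Spec (CommRingCat.of R))) (_ : GrpObj H) (j : H ⟶ G) (φ : HK.left ⟶ H.left),
      IsMonHom j ∧ IsClosedImmersion j.left ∧ Flat H.hom ∧
      IsPullback φ HK.hom H.hom (Neron.genPt R) ∧
      φ ≫ j.left = i.left ≫ pullback.fst G.hom (Neron.genPt R) ∧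
      φ.ker = ⊥ := by
  let gp := Neron.genPt R
  let F := Over.pullback gp
  letI : GrpObj (F.obj G) := inferInstanceAs (GrpObj (Red.bc (Neron.genPt R) G))
  let pr : (F.obj G).left ⟶ G.left := pullback.fst G.hom gp
  have : Flat gp := by
    rw [HasRingHomProperty.Spec_iff (P := @Flat)]
    show RingHom.Flat (algebraMap R (FractionRing R))
    rw [RingHom.flat_algebraMap_iff]
    exact IsLocalization.flat (FractionRing R) (nonZeroDivisors R)
  haveI : IsPreimmersion gp :=
    IsPreimmersion.of_isLocalization (R := R) (S := FractionRing R) (nonZeroDivisors R)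
  haveI : Mono gp := inferInstance
  let g : HK.left ⟶ G.left := i.left ≫ pr
  have : QuasiCompact g := by
    have : QuasiCompact pr := inferInstanceAs (QuasiCompact (pullback.fst G.hom gp))
    infer_instance
  let φ := g.toImage
  have : IsSchemeTheoreticallyDominant φ := Groth.Agent.AV.isSchDom_toImage g
  let H : Over (Spec (CommRingCat.of R)) := Over.mk (g.imageι ≫ G.hom)
  let j : H ⟶ G := Over.homMk g.imageι
  have hjφ : φ ≫ j.left = i.left ≫ pr := Scheme.Hom.toImage_imageι g
  have : IsClosedImmersion j.left := inferInstanceAs (IsClosedImmersion g.imageι)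
  have hw : φ ≫ H.hom = HK.hom ≫ gp := by
    show g.toImage ≫ g.imageι ≫ G.hom = _
    rw [Scheme.Hom.toImage_imageι_assoc, Category.assoc, pullback.condition, ← Category.assoc]
    exact congrArg (· ≫ gp) (Over.w i)
  -- the generic fibre of the closure
  let u : HK.left ⟶ (F.obj H).left := pullback.lift φ HK.hom hw
  let jK := F.map j
  have hu : u ≫ jK.left = i.left := by
    apply pullback.hom_ext
    · rw [Category.assoc, pb_map_fst, reassoc_of% (pullback.lift_fst φ HK.hom hw : u ≫ pullback.fst H.hom gp = φ)]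
      exact hjφ
    · rw [Category.assoc, pb_map_snd]
      exact (pullback.lift_snd _ _ _).trans (Over.w i).symm
  have : IsClosedImmersion jK.left :=
    MorphismProperty.of_isPullback (Groth.L08.HomLocus.isPullback_bc gp j) ‹IsClosedImmersion j.left›
  have : IsClosedImmersion (u ≫ jK.left) := hu ▸ ‹IsClosedImmersion i.left›
  have : IsClosedImmersion u := IsClosedImmersion.of_comp u jK.left
  have hufst : u ≫ pullback.fst H.hom gp = φ := pullback.lift_fst _ _ _
  haveI : Mono (pullback.fst H.hom gp) := inferInstance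
  have sq : IsPullback (𝟙 HK.left) u φ (pullback.fst H.hom gp) :=
    ⟨⟨by rw [Category.id_comp, hufst]⟩, ⟨PullbackCone.IsLimit.mk _ (fun s => s.fst)
      (fun s => Category.comp_id _)
      (fun s => by rw [← cancel_mono (pullback.fst H.hom gp), Category.assoc, hufst, s.condition])
      (fun s m h₁ _ => (Category.comp_id m).symm.trans h₁)⟩⟩
  haveI : Flat (pullback.fst H.hom gp) := inferInstance
  haveI : IsSchemeTheoreticallyDominant u := .of_isPullback sq
  haveI : IsIso u := IsClosedImmersion.isIso_iff_ker_eq_bot.2 (Scheme.Hom.ker_eq_bot u)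
  let u' : HK ⟶ F.obj H := Over.homMk u (pullback.lift_snd _ _ _)
  haveI : IsIso ((Over.forget _).map u') := inferInstanceAs (IsIso u)
  haveI : IsIso u' := isIso_of_reflects_iso u' (Over.forget _)
  have hu' : u' ≫ jK = i := by ext1; exact hu
  have sqH : IsPullback φ HK.hom H.hom gp :=
    (IsPullback.of_hasPullback H.hom gp).of_iso (asIso u).symm (Iso.refl _) (Iso.refl _) (Iso.refl _)
      (by
        rw [Iso.symm_hom, asIso_inv, IsIso.eq_inv_comp, Iso.refl_hom, Category.comp_id, hufst])
      (by
        rw [Iso.symm_hom, asIso_inv, IsIso.eq_inv_comp, Iso.refl_hom, Category.comp_id]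
        exact pullback.lift_snd _ _ _)
      (by simp) (by simp)
  -- flatness
  haveI : QuasiCompact φ := inferInstanceAs (QuasiCompact g.toImage)
  haveI hflat : Flat H.hom := by
    refine IsZariskiLocalAtSource.of_openCover (P := @Flat) H.left.affineCover fun t => ?_
    let c := H.left.affineCover.f t
    obtain ⟨ρ, hρ⟩ := Spec.map_surjective (c ≫ H.hom)
    rw [← hρ]
    refine flat_spec_of_dominated ρ (pullback.snd φ c) (pullback.fst φ c ≫ HK.hom) ?_
    rw [hρ, ← pullback.condition_assoc, hw, Category.assoc]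
  -- the group structure
  haveI : Mono j := by
    haveI : Mono j.left := inferInstance
    exact Over.mono_of_mono_left j
  have fac : ∀ (T : Over (Spec (CommRingCat.of R))) [Flat T.hom] (m : T ⟶ G) (z : F.obj T ⟶ HK),
      z ≫ i = F.map m → ∃ l : T ⟶ H, l ≫ j = m := by
    intro T _ m z hz
    obtain ⟨l, hl⟩ := Groth.Agent.AV.exists_fac_of_schDom j.left (pullback.fst T.hom gp) m.left (z.left ≫ φ) (by
      rw [Category.assoc, hjφ, ← pb_map_fst gp m, ← Category.assoc, ← Over.comp_left, hz])
    exact ⟨Over.homMk l (by rw [← Over.w j, ← Category.assoc, hl, Over.w]), by ext; exact hl⟩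
  let θ : F.obj H ⟶ HK := CategoryTheory.inv u'
  have hθ : θ ≫ i = jK := by rw [IsIso.inv_comp_eq, hu']
  haveI : Flat (𝟙_ (Over (Spec (CommRingCat.of R)))).hom := inferInstanceAs (Flat (𝟙 _))
  haveI : Flat (H ⊗ H).hom := inferInstanceAs (Flat (pullback.fst H.hom H.hom ≫ H.hom))
  have hone : ∃ l, l ≫ j = η[G] := fac _ _ ((Monoidal.εIso F).inv ≫ η[HK]) (by
    rw [Category.assoc, IsMonHom.one_hom, Iso.inv_comp_eq]
    exact Functor.obj.η_def (F := F) (X := G))
  have hmul : ∃ l, l ≫ j = (fst H H ≫ j) * (snd H H ≫ j) :=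
    fac _ _ ((F.map (fst H H) ≫ θ) * (F.map (snd H H) ≫ θ)) (by
      rw [MonObj.mul_comp, Category.assoc, Category.assoc, hθ, Functor.map_mul, ← F.map_comp, ← F.map_comp])
  have hinv : ∃ l, l ≫ j = j⁻¹ := fac _ _ θ⁻¹ (by
    rw [GrpObj.inv_comp, hθ, Functor.map_inv'])
  obtain ⟨inst, hj⟩ := Groth.L08.exists_grpObj_of_mono j hone hmul hinv
  exact ⟨H, inst, j, φ, hj, inferInstance, hflat, sqH, hjφ, Scheme.Hom.ker_eq_bot φ⟩

end Groth.Agent.NeronL
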