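import Groth.Prelude.Def_SGA7IX
import Groth.Agent.L15.NeronExt.Rational

/-!
Components of the special fibre of a group scheme over a local base, and the sections meeting them.
-/

set_option autoImplicit false
set_option linter.style.haveILetI false
set_option backward.isDefEq.respectTransparency.types false
set_option backward.isDefEq.respectTransparency false

universe u

open CategoryTheory CategoryTheory.Limits MonoidalCategory CartesianMonoidalCategory MonObj AlgebraicGeometry

noncomputable section

namespace Groth.L26.CompGroup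

open SGA7

variable {R : Type u} [CommRing R] [IsLocalRing R]

local notation "U1" => 𝟙_ (Over (Spec (CommRingCat.of R)))

theorem mem_fibre (N : Over (Spec (CommRingCat.of R))) (x : U1 ⟶ N) :
    x.left (IsLocalRing.closedPoint R) ∈ specialFibreSet R N := by
  have h := congr(($(Over.w x)) (IsLocalRing.closedPoint R))
  rw [Scheme.Hom.comp_apply] at h
  exact h

theorem mem_secComp (N : Over (Spec (CommRingCat.of R))) (x : U1 ⟶ N) :
    x.left (IsLocalRing.closedPoint R) ∈ secComp R N x :=
  mem_connectedComponentIn (mem_fibre N x)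

theorem secComp_eq_iff (N : Over (Spec (CommRingCat.of R))) (x y : U1 ⟶ N) :
    secComp R N x = secComp R N y ↔ x.left (IsLocalRing.closedPoint R) ∈ secComp R N y :=
  ⟨fun h => h ▸ mem_secComp N x, fun h => (connectedComponentIn_eq h).symm⟩

/-- A morphism maps the component of a section into the component of its image. -/
theorem mapsTo_secComp {N M : Over (Spec (CommRingCat.of R))} (g : N ⟶ M) (x : U1 ⟶ N) :
    Set.MapsTo g.left (secComp R N x) (secComp R M (x ≫ g)) := by
  have hS : Set.MapsTo g.left (specialFibreSet R N) (specialFibreSet R M) := fun z hz => by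
    show (g.left ≫ M.hom) z = _
    rw [Over.w g]
    exact hz
  intro z hz
  refine ((isPreconnected_connectedComponentIn.image g.left g.left.continuous.continuousOn).subset_connectedComponentIn
    ⟨_, mem_secComp N x, (Scheme.Hom.comp_apply _ _ _).symm.trans rfl⟩ ?_) (Set.mem_image_of_mem _ hz)
  exact (Set.image_mono (connectedComponentIn_subset _ _)).trans hS.image_subset

variable (N : Over (Spec (CommRingCat.of R))) [GrpObj N]

theorem mem_secUnitComp_iff (x : U1 ⟶ N) : x ∈ secUnitComp R N ↔ secComp R N x = secComp R N 1 := by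
  rw [secComp_eq_iff, Hom.one_def, toUnit_unique (toUnit U1) (𝟙 _), Category.id_comp]
  rfl

/-- Translation by a section. -/
def tr (y : U1 ⟶ N) : N ⟶ N := 𝟙 N * (toUnit N ≫ y)

theorem comp_tr (x y : U1 ⟶ N) : x ≫ tr N y = x * y := by
  rw [tr, MonObj.comp_mul, Category.comp_id, ← Category.assoc, toUnit_unique (x ≫ toUnit N) (𝟙 _), Category.id_comp]

/-- Two sections lie in the same component iff their quotient meets the unit component. -/
theorem secComp_eq_iff_mem (x y : U1 ⟶ N) :
    secComp R N x = secComp R N y ↔ x * y⁻¹ ∈ secUnitComp R N := by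
  rw [mem_secUnitComp_iff]
  constructor
  · intro h
    have := mapsTo_secComp (tr N y⁻¹) y ((secComp_eq_iff N x y).1 h)
    rw [comp_tr, mul_inv_cancel] at this
    refine (secComp_eq_iff N _ _).2 ?_
    rwa [← comp_tr, Over.comp_left, Scheme.Hom.comp_apply]
  · intro h
    have := mapsTo_secComp (tr N y) 1 ((secComp_eq_iff N _ _).1 h)
    rw [comp_tr, _root_.one_mul] at this
    refine (secComp_eq_iff N x y).2 ?_
    rwa [← Scheme.Hom.comp_apply, ← Over.comp_left, comp_tr, inv_mul_cancel_right] at this

theorem one_mem : (1 : U1 ⟶ N) ∈ secUnitComp R N := (mem_secUnitComp_iff N 1).2 rfl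

theorem mul_inv_mem {x y : U1 ⟶ N} (hx : x ∈ secUnitComp R N) (hy : y ∈ secUnitComp R N) :
    x * y⁻¹ ∈ secUnitComp R N :=
  (secComp_eq_iff_mem N x y).1 (((mem_secUnitComp_iff N x).1 hx).trans ((mem_secUnitComp_iff N y).1 hy).symm)

/-- The sections meeting the unit component form a subgroup. -/
def unitSub : Subgroup (U1 ⟶ N) :=
  Subgroup.ofDiv (secUnitComp R N) ⟨1, one_mem N⟩ fun _ hx _ hy => mul_inv_mem N hx hy

theorem mem_unitSub {x : U1 ⟶ N} : x ∈ unitSub N ↔ x ∈ secUnitComp R N := Iff.rfl

/-- Homomorphisms respect the unit components. -/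
theorem comp_mem {M : Over (Spec (CommRingCat.of R))} [GrpObj M] (g : N ⟶ M) [IsMonHom g] {x : U1 ⟶ N}
    (hx : x ∈ secUnitComp R N) : x ≫ g ∈ secUnitComp R M := by
  have := mapsTo_secComp g 1 ((secComp_eq_iff N x 1).1 ((mem_secUnitComp_iff N x).1 hx))
  rw [MonObj.one_comp] at this
  refine (mem_secUnitComp_iff M _).2 ((secComp_eq_iff M _ _).2 ?_)
  rwa [Over.comp_left, Scheme.Hom.comp_apply]

section Finite

variable (N : Over (Spec (CommRingCat.of R))) [IsNoetherianRing R] [LocallyOfFiniteType N.hom] [QuasiCompact N.hom]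

theorem finite_components :
    (Set.range fun z : specialFibreSet R N => connectedComponentIn (specialFibreSet R N) z.1).Finite := by
  haveI : IsLocallyNoetherian N.left := LocallyOfFiniteType.isLocallyNoetherian N.hom
  haveI : CompactSpace N.left := QuasiCompact.compactSpace_of_compactSpace N.hom
  haveI : IsNoetherian N.left := ⟨⟩
  haveI : TopologicalSpace.NoetherianSpace ↥(specialFibreSet R N) :=
    Topology.IsEmbedding.subtypeVal.isInducing.noetherianSpace
  refine ((TopologicalSpace.NoetherianSpace.finite_irreducibleComponents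
    (α := ↥(specialFibreSet R N))).image fun C =>
      {w : N.left | ∃ z ∈ C, w ∈ connectedComponentIn (specialFibreSet R N) (z : ↥(specialFibreSet R N)).1}).subset ?_
  rintro _ ⟨z, rfl⟩
  refine ⟨irreducibleComponent z, irreducibleComponent_mem_irreducibleComponents z, ?_⟩
  refine Set.Subset.antisymm ?_ fun w hw => ⟨z, mem_irreducibleComponent, hw⟩
  rintro w ⟨z', hz', hw⟩
  have h1 : (z' : N.left) ∈ connectedComponentIn (specialFibreSet R N) z.1 := by
    rw [connectedComponentIn_eq_image z.2]
    exact ⟨z', irreducibleComponent_subset_connectedComponent hz', rfl⟩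
  show w ∈ connectedComponentIn (specialFibreSet R N) z.1
  rwa [connectedComponentIn_eq h1]

theorem finite_secComp : (Set.range (secComp R N)).Finite := by
  refine (finite_components N).subset ?_
  rintro _ ⟨x, rfl⟩
  exact ⟨⟨_, mem_fibre N x⟩, rfl⟩

/-- The component of a point is cut out by an open of the ambient scheme. -/
theorem exists_open_component (z : N.left) (hz : z ∈ specialFibreSet R N) :
    ∃ O : N.left.Opens, z ∈ O ∧ (O : Set N.left) ∩ specialFibreSet R N ⊆ connectedComponentIn (specialFibreSet R N) z := by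
  let S := specialFibreSet R N
  have hS : IsClosed S := (IsLocalRing.isClosed_singleton_closedPoint R).preimage N.hom.continuous
  have hcl : ∀ c : S, IsClosed (connectedComponentIn S c.1) := fun c => by
    rw [connectedComponentIn_eq_image c.2]
    exact hS.isClosedEmbedding_subtypeVal.isClosedMap _ isClosed_connectedComponent
  let others : Set (Set N.left) :=
    (Set.range fun c : S => connectedComponentIn S c.1) \ {connectedComponentIn S z}
  have hcls : IsClosed (⋃₀ others) := by
    rw [Set.sUnion_eq_biUnion]
    refine ((finite_components N).sdiff).isClosed_biUnion ?_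
    rintro _ ⟨⟨c, rfl⟩, -⟩
    exact hcl c
  refine ⟨⟨(⋃₀ others)ᶜ, hcls.isOpen_compl⟩, ?_, ?_⟩
  · rintro ⟨_, ⟨⟨c, rfl⟩, hne⟩, hzc⟩
    exact hne (connectedComponentIn_eq hzc)
  · rintro w ⟨hw, hwS⟩
    by_contra hn
    refine hw ⟨connectedComponentIn S w, ⟨⟨⟨w, hwS⟩, rfl⟩, fun h => hn ?_⟩, mem_connectedComponentIn hwS⟩
    exact (show connectedComponentIn S w = connectedComponentIn S z from h) ▸ mem_connectedComponentIn hwS

end Finite

/-- Over a strictly henselian discrete valuation ring every component is met by a section. -/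
theorem exists_section_secComp {R : Type u} [CommRing R] [IsDomain R] [IsDiscreteValuationRing R] [HenselianLocalRing R]
    [IsSepClosed (IsLocalRing.ResidueField R)] (N : Over (Spec (CommRingCat.of R))) [Smooth N.hom]
    [QuasiCompact N.hom] (z : N.left) (hz : z ∈ specialFibreSet R N) :
    ∃ x : 𝟙_ (Over (Spec (CommRingCat.of R))) ⟶ N, z ∈ secComp R N x := by
  obtain ⟨O, hzO, hO⟩ := exists_open_component N z hz
  obtain ⟨σ, hσ, hσO⟩ := Groth.L15.NeronExt.exists_section_meeting N.hom O z hzO hz
  let x : 𝟙_ (Over (Spec (CommRingCat.of R))) ⟶ N := Over.homMk σ hσ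
  refine ⟨x, ?_⟩
  have h1 := hO ⟨hσO, mem_fibre N x⟩
  show z ∈ connectedComponentIn (specialFibreSet R N) (σ (IsLocalRing.closedPoint R))
  rw [← connectedComponentIn_eq h1]
  exact mem_connectedComponentIn hz

end Groth.L26.CompGroup
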