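/-
Points lift along a quotient by the additive group over a field.
-/
import Groth.Agent.L14.RankOne.Pts
import Groth.Prelude.Def_AlgGrp
import Mathlib.AlgebraicGeometry.Sites.Fpqc
import Mathlib.LinearAlgebra.Basis.VectorSpace

/-!
# Lifting rational points along a quotient by the additive group

A point with values in an extension field is corrected to a rational one by a linear retraction.
-/

set_option autoImplicit false
set_option linter.style.haveILetI false
set_option backward.isDefEq.respectTransparency.types false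

universe u

open CategoryTheory CategoryTheory.Limits MonoidalCategory CartesianMonoidalCategory AlgebraicGeometry
open scoped MonObj TensorProduct

noncomputable section

namespace Groth.Agent.Neron.GaDescent

open Groth.L14.RankOne

variable {S : Scheme.{u}}

/-- The difference of two points with equal images lies in the kernel. -/
theorem exists_ker {N G Q T : Over S} [GrpObj G] [GrpObj Q] (q : G ⟶ Q) [IsMonHom q] (i : N ⟶ G)
    (hker : AlgGrp.IsKernel i q) (a b : T ⟶ G) (h : a ≫ q = b ≫ q) : ∃ t : T ⟶ N, t ≫ i = a / b := by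
  have hd : (a / b) ≫ q = toUnit T ≫ η[Q] := by
    rw [GrpObj.div_comp, h, div_self']
    exact Hom.one_def
  exact ⟨hker.lift (a / b) (toUnit T) hd, hker.lift_fst _ _ _⟩

/-- A kernel has no kernel. -/
theorem ker_cancel {N G Q T : Over S} [GrpObj Q] (q : G ⟶ Q) (i : N ⟶ G) (hker : AlgGrp.IsKernel i q)
    {a b : T ⟶ N} (h : a ≫ i = b ≫ i) : a = b :=
  hker.hom_ext h (Subsingleton.elim _ _)

section Retraction

variable {K L : Type u} [Field K] [Field L] [Algebra K L] (r : L →ₗ[K] K)

/-- The retraction of the last factor. -/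
def ρ (M : Type u) [AddCommGroup M] [Module K M] : M ⊗[K] L →ₗ[K] M :=
  (TensorProduct.rid K M).toLinearMap ∘ₗ r.lTensor M

@[simp] theorem ρ_tmul (M : Type u) [AddCommGroup M] [Module K M] (m : M) (l : L) :
    ρ r M (m ⊗ₜ l) = r l • m := by simp [ρ]

open Algebra.TensorProduct in
/-- An additive cocycle is a coboundary. -/
theorem cocycle (hr : r 1 = 1) (c : L ⊗[K] L)
    (h : (includeLeft : L ⊗[K] L →ₐ[K] (L ⊗[K] L) ⊗[K] L) c +
        Algebra.TensorProduct.map (includeRight : L →ₐ[K] L ⊗[K] L) (AlgHom.id K L) c =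
        Algebra.TensorProduct.map (includeLeft : L →ₐ[K] L ⊗[K] L) (AlgHom.id K L) c) :
    c = (includeLeft : L →ₐ[K] L ⊗[K] L) (ρ r L c) - (includeRight : L →ₐ[K] L ⊗[K] L) (ρ r L c) := by
  have hρ := congrArg (ρ r (L ⊗[K] L)) h
  have h1 : ρ r (L ⊗[K] L) ((includeLeft : L ⊗[K] L →ₐ[K] (L ⊗[K] L) ⊗[K] L) c) = c := by
    simp [hr]
  have h2 : ∀ (e : L →ₐ[K] L ⊗[K] L) (x : L ⊗[K] L),
      ρ r (L ⊗[K] L) (Algebra.TensorProduct.map e (AlgHom.id K L) x) = e (ρ r L x) := by
    intro e x
    induction x using TensorProduct.induction_on with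
    | zero => simp
    | tmul a b => simp [map_smul]
    | add a b ha hb => simp [ha, hb]
  rw [map_add, h1, h2, h2] at hρ
  exact eq_sub_of_add_eq hρ

end Retraction

open Algebra.TensorProduct in
/-- Points lift along a quotient by the additive group over a field. -/
theorem exists_lift {G Q : Over S} [GrpObj G] [GrpObj Q] (q : G ⟶ Q) [IsMonHom q]
    (i : Red.Ga S ⟶ G) [IsMonHom i] (hker : AlgGrp.IsKernel i q)
    {K : Type u} [Field K] (j : Spec (CommRingCat.of K) ⟶ S) (y : Sp j K ⟶ Q)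
    {L : Type u} [Field L] [Algebra K L] (z : Sp j L ⟶ G) (hz : z ≫ q = mor j (Algebra.ofId K L) ≫ y) :
    ∃ x : Sp j K ⟶ G, x ≫ q = y := by
  obtain ⟨r, hr'⟩ := LinearMap.exists_leftInverse_of_injective (Algebra.linearMap K L)
    (LinearMap.ker_eq_bot.2 (algebraMap K L).injective)
  have hr : r 1 = 1 := by simpa using LinearMap.congr_fun hr' 1
  let f1 : L →ₐ[K] L ⊗[K] L := includeLeft
  let f2 : L →ₐ[K] L ⊗[K] L := includeRight
  have hzc : ∀ (C : Type u) [CommRing C] [Algebra K C] (e e' : L →ₐ[K] C),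
      (mor j e ≫ z) ≫ q = (mor j e' ≫ z) ≫ q := by
    intro C _ _ e e'
    rw [Category.assoc, Category.assoc, hz, ← Category.assoc, ← Category.assoc, ← mor_comp, ← mor_comp,
      Subsingleton.elim (e.comp (Algebra.ofId K L)) (e'.comp (Algebra.ofId K L))]
  obtain ⟨t, ht⟩ := exists_ker q i hker (mor j f1 ≫ z) (mor j f2 ≫ z) (hzc _ f1 f2)
  let c := gv t
  have hc : gp j c ≫ i = (mor j f1 ≫ z) / (mor j f2 ≫ z) := by rw [gp_gv]; exact ht
  have hce : ∀ (C : Type u) [CommRing C] [Algebra K C] (e : L ⊗[K] L →ₐ[K] C),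
      gp j (e c) ≫ i = (mor j (e.comp f1) ≫ z) / (mor j (e.comp f2) ≫ z) := by
    intro C _ _ e
    rw [← mor_gp, Category.assoc, hc, GrpObj.comp_div, ← Category.assoc, ← Category.assoc, ← mor_comp, ← mor_comp]
  let e12 : L ⊗[K] L →ₐ[K] (L ⊗[K] L) ⊗[K] L := includeLeft
  let e23 := Algebra.TensorProduct.map (includeRight : L →ₐ[K] L ⊗[K] L) (AlgHom.id K L)
  let e13 := Algebra.TensorProduct.map (includeLeft : L →ₐ[K] L ⊗[K] L) (AlgHom.id K L)
  have hcoc : e12 c + e23 c = e13 c := by
    have : gp j (e12 c + e23 c) = gp j (e13 c) := by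
      refine ker_cancel q i hker ?_
      rw [gp_add, MonObj.mul_comp, hce, hce, hce,
        show e12.comp f2 = e23.comp f1 from AlgHom.ext fun l => by simp [e12, e23, f1, f2],
        show e23.comp f2 = e13.comp f2 from AlgHom.ext fun l => by simp [e13, e23, f1, f2, Algebra.TensorProduct.one_def],
        show e12.comp f1 = e13.comp f1 from AlgHom.ext fun l => by simp [e12, e13, f1, f2],
        div_mul_div_cancel]
    simpa [gv_gp] using congrArg gv this
  obtain ⟨a, ha⟩ : ∃ a : L, c = f1 a - f2 a := ⟨_, cocycle r hr c hcoc⟩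
  let z' := (gp j a ≫ i)⁻¹ * z
  have hz' : z' ≫ q = mor j (Algebra.ofId K L) ≫ y := by
    rw [MonObj.mul_comp, GrpObj.inv_comp, Category.assoc, hker.w, hz, ← Category.assoc,
      Subsingleton.elim (gp j a ≫ toUnit _) (toUnit _), ← Hom.one_def, inv_one, one_mul]
  have hglue : mor j f1 ≫ z' = mor j f2 ≫ z' := by
    have e : ∀ f : L →ₐ[K] L ⊗[K] L, mor j f ≫ z' = (gp j (f a) ≫ i)⁻¹ * (mor j f ≫ z) := fun f => by
      rw [MonObj.comp_mul, GrpObj.comp_inv, ← Category.assoc, mor_gp]
    rw [e, e, ← GrpObj.inv_comp (g := i), ← GrpObj.inv_comp (g := i), ← gp_neg, ← gp_neg,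
      show mor j f1 ≫ z = (gp j c ≫ i) * (mor j f2 ≫ z) by rw [hc, div_mul_cancel],
      ← mul_assoc, ← MonObj.mul_comp, ← gp_add, ha, neg_add_eq_sub]
    congr 3
    abel
  let p : Spec (CommRingCat.of L) ⟶ Spec (CommRingCat.of K) := Spec.map (CommRingCat.ofHom (algebraMap K L))
  haveI : Flat p := by
    rw [Flat.SpecMap_iff]
    exact RingHom.flat_algebraMap_iff.2 inferInstance
  haveI : Surjective p := ⟨fun s => ⟨Classical.arbitrary (PrimeSpectrum L), Subsingleton.elim (α := PrimeSpectrum K) _ _⟩⟩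
  have hkey : ∀ {W : Scheme.{u}} (g1 g2 : W ⟶ Spec (CommRingCat.of L)), g1 ≫ p = g2 ≫ p → g1 ≫ z'.left = g2 ≫ z'.left := by
    intro W g1 g2 hg
    refine (congrArg (· ≫ z'.left) (pullback.lift_fst g1 g2 hg).symm).trans
      (Eq.trans ?_ (congrArg (· ≫ z'.left) (pullback.lift_snd g1 g2 hg)))
    have a1 : pullback.fst p p = (pullbackSpecIso K L L).hom ≫ (mor j f1).left := (pullbackSpecIso_hom_fst K L L).symm
    have a2 : pullback.snd p p = (pullbackSpecIso K L L).hom ≫ (mor j f2).left := (pullbackSpecIso_hom_snd K L L).symm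
    rw [a1, a2]
    simp only [Category.assoc]
    exact congrArg (fun t => pullback.lift g1 g2 hg ≫ (pullbackSpecIso K L L).hom ≫ t)
      (congrArg (fun t : Sp j (L ⊗[K] L) ⟶ G => t.left) hglue)
  let x := EffectiveEpi.desc p z'.left hkey
  have hx : p ≫ x = z'.left := EffectiveEpi.fac _ _ _
  refine ⟨Over.homMk x ?_, ?_⟩
  · rw [← cancel_epi p, ← Category.assoc, hx, Over.w]
    simp [p]
  · apply Over.OverMorphism.ext
    rw [← cancel_epi p]
    show p ≫ x ≫ q.left = p ≫ y.left
    rw [reassoc_of% hx]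
    exact congrArg (fun t : Sp j L ⟶ Q => t.left) hz'

end Groth.Agent.Neron.GaDescent
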