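/-
Torsion of order invertible on the base in smooth commutative group schemes.
-/
import Groth.Agent.L08.MulEtaleBC
import Groth.Agent.L05.Point.FibreGlobal
import Groth.Agent.L00.UnramEq
import Mathlib.AlgebraicGeometry.Morphisms.Smooth

set_option autoImplicit false
set_option linter.style.haveILetI false

universe u

open CategoryTheory CategoryTheory.Limits MonoidalCategory CartesianMonoidalCategory MonObj GrpObj
  AlgebraicGeometry

namespace Groth.Agent.Neron.Torsion

variable {S : Scheme.{u}} (G : Over S) [GrpObj G] [IsCommMonObj G] [Smooth G.hom]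

/-- Multiplication by an integer invertible on the base is etale. -/
theorem etale_pow (d : ℤ) (hd : ∀ s : S, (d : S.residueField s) ≠ 0) : Etale (𝟙 G ^ d).left := by
  refine (Groth.L05.Point.etale_iff_fibres G.hom G.hom _ (Over.w _)).2 fun s => ?_
  let t : Spec (CommRingCat.of (S.residueField s)) ⟶ S := S.fromSpecResidueField s
  let G' := (Over.pullback t).obj G
  letI : GrpObj G' := Functor.grpObjObj
  haveI : IsCommMonObj G' := inferInstanceAs (IsCommMonObj ((Over.pullback t).obj G))
  haveI : Smooth G'.hom := inferInstanceAs (Smooth (pullback.snd G.hom t))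
  have h := Groth.L08.MulEtale.etale_pow G' d (hd s)
  rw [← Groth.L08.MulEtale.map_pow_eq t G d] at h
  have hsq := (Groth.L08.MulEtale.isPullback_map t (𝟙 G ^ d)).flip
  show Etale (pullback.snd (𝟙 G ^ d).left (pullback.fst G.hom t))
  haveI : Etale ((Over.pullback t).map (𝟙 G ^ d)).left := h
  rw [← hsq.isoPullback_inv_snd]
  infer_instance

theorem etale_npow (N : ℕ) (hN : ∀ s : S, (N : S.residueField s) ≠ 0) : Etale (𝟙 G ^ N).left := by
  rw [← zpow_natCast]
  exact etale_pow G N fun s => by simpa using hN s

variable {G}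

/-- Torsion points on a connected scheme that agree somewhere are equal. -/
theorem eq_of_torsion [IsSeparated G.hom] {N : ℕ} (hN : ∀ s : S, (N : S.residueField s) ≠ 0)
    {T : Over S} [ConnectedSpace ↥T.left] (σ τ : T ⟶ G) (hσ : σ ^ N = 1) (hτ : τ ^ N = 1)
    {W : Over S} [Nonempty ↥W.left] (z : W ⟶ T) (h : z ≫ σ = z ≫ τ) : σ = τ := by
  let p := 𝟙 G ^ N
  haveI : Etale p.left := etale_npow G N hN
  haveI : IsSeparated p.left := by
    haveI : IsSeparated (p.left ≫ G.hom) := by rw [Over.w]; infer_instance
    exact IsSeparated.of_comp p.left G.hom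
  have e : σ ≫ p = τ ≫ p := by
    rw [MonObj.comp_pow, MonObj.comp_pow, Category.comp_id, Category.comp_id, hσ, hτ]
  exact Over.OverMorphism.ext (Groth.L00.UnramEq.eq_of_connected p.left σ.left τ.left
    (congrArg CommaMorphism.left e) z.left (congrArg CommaMorphism.left h))

end Groth.Agent.Neron.Torsion

namespace Groth.Agent.Neron.Torsion

/-- Points with values in a field whose composite to an affine base is given by a surjection are
determined by their image. -/
theorem eq_of_apply_eq {R k : Type u} [CommRing R] [Field k] (π : R →+* k) (hπ : Function.Surjective π)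
    {X : Scheme.{u}} (g : X ⟶ Spec (CommRingCat.of R)) {a b : Spec (CommRingCat.of k) ⟶ X}
    (ha : a ≫ g = Spec.map (CommRingCat.ofHom π)) (hb : b ≫ g = Spec.map (CommRingCat.ofHom π))
    (h : a (IsLocalRing.closedPoint k) = b (IsLocalRing.closedPoint k)) : a = b := by
  obtain ⟨⟨x, φ⟩, rfl⟩ := (Scheme.SpecToEquivOfField k X).symm.surjective a
  obtain ⟨⟨y, φ'⟩, rfl⟩ := (Scheme.SpecToEquivOfField k X).symm.surjective b
  change (Spec.map φ ≫ X.fromSpecResidueField x) _ = (Spec.map φ' ≫ X.fromSpecResidueField y) _ at h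
  rw [Scheme.Hom.comp_apply, Scheme.Hom.comp_apply, Scheme.fromSpecResidueField_apply,
    Scheme.fromSpecResidueField_apply] at h
  obtain rfl : x = y := h
  let ψ := Spec.preimage (X.fromSpecResidueField x ≫ g)
  have key : ∀ χ : X.residueField x ⟶ CommRingCat.of k,
      (Spec.map χ ≫ X.fromSpecResidueField x) ≫ g = Spec.map (CommRingCat.ofHom π) →
        ∀ r, χ.hom (ψ.hom r) = π r := by
    intro χ hχ r
    have : ψ ≫ χ = CommRingCat.ofHom π := Spec.map_injective (by
      rw [Spec.map_comp, Spec.map_preimage, ← Category.assoc, hχ])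
    exact congr($this r)
  have h1 := key φ ha
  have h2 := key φ' hb
  have : φ = φ' := by
    refine CommRingCat.hom_ext (RingHom.ext fun c => ?_)
    obtain ⟨r, hr⟩ := hπ (φ.hom c)
    have hc : c = ψ.hom r := φ.hom.injective (by rw [h1, hr])
    rw [hc, h1, h2]
  subst this
  rfl

end Groth.Agent.Neron.Torsion
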