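import Groth.Agent.L05.Hensel.Homs
import Groth.Agent.L08.WeilInsep.Quot
import Groth.Agent.L08.AbelianGrp
import Groth.Agent.L25.TorusNhd.FieldUnip
import Groth.Agent.L26.Neron.Torsion
import Groth.Agent.L26.AV.TateBaseChange
import Groth.Agent.L26.AV.GroupSep
import Groth.Agent.L15.TorsLift.Basic

/-!
Torsion points of commutative groups over separably closed fields and of extensions by unipotent groups.
-/

set_option autoImplicit false
set_option linter.style.haveILetI false
set_option linter.unusedSectionVars false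
set_option backward.isDefEq.respectTransparency.types false
set_option backward.isDefEq.respectTransparency false

universe u

open CategoryTheory CategoryTheory.Limits MonoidalCategory CartesianMonoidalCategory MonObj AlgebraicGeometry
open scoped TensorProduct

noncomputable section

namespace Groth.L26.PseudoTate

/-- A homomorphism of point groups which is bijective on torsion gives an equivalence of Tate modules. -/
theorem nonempty_tateEquiv {S S' : Scheme.{u}} {A : Over S} [GrpObj A] [IsCommMonObj A] {B : Over S'} [GrpObj B]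
    [IsCommMonObj B] {T : Over S} {T' : Over S'} (l : ℕ) [Fact l.Prime] (θ : (T ⟶ A) →* (T' ⟶ B))
    (hinj : ∀ n : ℕ, ∀ x : T ⟶ A, x ^ l ^ n = 1 → θ x = 1 → x = 1)
    (hsurj : ∀ n : ℕ, ∀ y : T' ⟶ B, y ^ l ^ n = 1 → ∃ x, x ^ l ^ n = 1 ∧ θ x = y) :
    Nonempty (AbDual.TateMod A l T ≃ₗ[ℤ_[l]] AbDual.TateMod B l T') := by
  let θa := θ.toAdditive
  let f : AbDual.TateMod A l T →ₗ[ℤ_[l]] AbDual.TateMod B l T' :=
    { toFun := fun x => ⟨fun n => θa ((x : ℕ → Additive (T ⟶ A)) n),
        ⟨fun n => by rw [← map_nsmul, x.torsion n, map_zero], fun n => by rw [← map_nsmul, x.compat n]⟩⟩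
      map_add' := fun x y => AbDual.TateMod.ext fun n => map_add θa _ _
      map_smul' := fun a x => AbDual.TateMod.ext fun n => map_nsmul θa (a.appr n) _ }
  refine ⟨LinearEquiv.ofBijective f ⟨(injective_iff_map_eq_zero f).2 fun x hx => AbDual.TateMod.ext fun n => ?_,
    fun y => ?_⟩⟩
  · exact congrArg Additive.ofMul (hinj n ((x : ℕ → Additive (T ⟶ A)) n).toMul
      (congrArg Additive.toMul (x.torsion n))
      (congrArg Additive.toMul (congrArg (fun z : AbDual.TateMod B l T' => (z : ℕ → Additive (T' ⟶ B)) n) hx)))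
  · choose x hx hθ using fun n => hsurj n ((y : ℕ → Additive (T' ⟶ B)) n).toMul
      (congrArg Additive.toMul (y.torsion n))
    refine ⟨⟨fun n => Additive.ofMul (x n), ⟨fun n => congrArg Additive.ofMul (hx n), fun n => ?_⟩⟩,
      AbDual.TateMod.ext fun n => congrArg Additive.ofMul (hθ n)⟩
    refine congrArg Additive.ofMul (show x (n + 1) ^ l = x n from ?_)
    have hc : ((y : ℕ → Additive (T' ⟶ B)) (n + 1)).toMul ^ l = ((y : ℕ → Additive (T' ⟶ B)) n).toMul :=
      congrArg Additive.toMul (y.compat n)
    refine mul_inv_eq_one.1 (hinj n _ ?_ ?_)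
    · rw [mul_pow, inv_pow, hx n, _root_.inv_one, _root_.mul_one, ← pow_mul, ← pow_succ', hx]
    · rw [map_mul, map_inv, map_pow, hθ, hθ, hc, mul_inv_cancel]

section Sep

variable {k : Type u} [Field k] (Ω K : Type u) [Field Ω] [Algebra k Ω] [Field K] [Algebra k K] [Algebra Ω K]
  [IsScalarTower k Ω K]

/-- The map of geometric points of an extension. -/
def sig : SGA7.pt (K := k) K ⟶ SGA7.pt (K := k) Ω :=
  Over.homMk (Spec.map (CommRingCat.ofHom (algebraMap Ω K))) (by
    show Spec.map _ ≫ Spec.map _ = Spec.map _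
    rw [← Spec.map_comp, ← CommRingCat.ofHom_comp, ← IsScalarTower.algebraMap_eq])

instance : Epi (sig (k := k) Ω K) := by
  haveI : Surjective (sig (k := k) Ω K).left :=
    ⟨fun x => ⟨IsLocalRing.closedPoint K, Subsingleton.elim (α := PrimeSpectrum Ω) _ _⟩⟩
  haveI : Flat (sig (k := k) Ω K).left := by
    show Flat (Spec.map _)
    rw [HasRingHomProperty.Spec_iff (P := @Flat)]
    exact RingHom.flat_algebraMap_iff.2 inferInstance
  haveI : QuasiCompact (sig (k := k) Ω K).left := inferInstanceAs (QuasiCompact (Spec.map _))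
  exact Over.epi_of_epi_left _

/-- Points of an etale scheme are defined over a separably closed subfield. -/
theorem exists_point_etale [IsSepClosed Ω] (G : Over (Spec (CommRingCat.of k))) [Etale G.hom]
    (x : SGA7.pt (K := k) K ⟶ G) : ∃ y : SGA7.pt (K := k) Ω ⟶ G, sig Ω K ≫ y = x := by
  obtain ⟨_, ⟨V, hV, rfl⟩, hxV, -⟩ := G.left.isBasis_affineOpens.exists_subset_of_mem_open
    (Set.mem_univ (x.left (IsLocalRing.closedPoint K))) isOpen_univ
  replace hV : IsAffineOpen V := hV
  have hr : Set.range x.left ⊆ Set.range hV.fromSpec := by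
    rintro _ ⟨t, rfl⟩
    rw [hV.range_fromSpec]
    rw [show t = IsLocalRing.closedPoint K from Subsingleton.elim (α := PrimeSpectrum K) _ _]
    exact hxV
  let xl := IsOpenImmersion.lift hV.fromSpec x.left hr
  have hxl : xl ≫ hV.fromSpec = x.left := IsOpenImmersion.lift_fac _ _ hr
  obtain ⟨φ, hφ⟩ := Spec.map_surjective xl
  obtain ⟨ψ, hψ⟩ := Spec.map_surjective (hV.fromSpec ≫ G.hom)
  let B := Γ(G.left, V)
  letI : Algebra k B := ψ.hom.toAlgebra
  haveI : Algebra.Etale k B := by
    have h : Etale (Spec.map ψ) := by rw [hψ]; infer_instance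
    rw [HasRingHomProperty.Spec_iff (P := @Etale)] at h
    exact h
  have hcomp : φ.hom.comp (algebraMap k B) = algebraMap k K := by
    have h : Spec.map (ψ ≫ φ) = Spec.map (CommRingCat.ofHom (algebraMap k K)) := by
      rw [Spec.map_comp, hφ, hψ, ← Category.assoc, hxl]
      exact Over.w x
    exact congrArg (fun m => CommRingCat.Hom.hom m) (Spec.map_injective h)
  let φk : B →ₐ[k] K := { φ.hom with commutes' := fun r => RingHom.congr_fun hcomp r }
  let p : Ω ⊗[k] B →ₐ[Ω] K :=
    Algebra.TensorProduct.lift (Algebra.ofId Ω K) φk fun _ _ => Commute.all _ _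
  choose c hc using fun b : B => Groth.L05.exists_point_of_isSepClosed p ((1 : Ω) ⊗ₜ[k] b)
  have hc' : ∀ b, algebraMap Ω K (c b) = φ.hom b := fun b => by
    rw [hc]
    refine (Algebra.TensorProduct.lift_tmul _ _ _ 1 b).trans ?_
    rw [map_one, _root_.one_mul]
    rfl
  let χ : B →+* Ω :=
    { toFun := c
      map_one' := (algebraMap Ω K).injective (by rw [hc', map_one, map_one])
      map_zero' := (algebraMap Ω K).injective (by rw [hc', map_zero, map_zero])
      map_add' := fun a b => (algebraMap Ω K).injective (by rw [hc', map_add, map_add, hc', hc'])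
      map_mul' := fun a b => (algebraMap Ω K).injective (by rw [hc', map_mul, map_mul, hc', hc']) }
  have hχ : χ.comp ψ.hom = algebraMap k Ω := RingHom.ext fun r => (algebraMap Ω K).injective (by
    show algebraMap Ω K (c (ψ.hom r)) = _
    rw [hc', ← IsScalarTower.algebraMap_apply]
    exact RingHom.congr_fun hcomp r)
  refine ⟨Over.homMk (Spec.map (CommRingCat.ofHom χ) ≫ hV.fromSpec) ?_, Over.OverMorphism.ext ?_⟩
  · show (_ ≫ _) ≫ G.hom = Spec.map (CommRingCat.ofHom (algebraMap k Ω))
    rw [Category.assoc, ← hψ, ← Spec.map_comp, ← hχ]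
    rfl
  · show Spec.map _ ≫ Spec.map _ ≫ hV.fromSpec = x.left
    rw [← hxl, ← hφ, ← Category.assoc, ← Spec.map_comp]
    congr 2
    exact CommRingCat.hom_ext (RingHom.ext fun b => hc' b)

variable {P : Over (Spec (CommRingCat.of k))} [GrpObj P] [IsCommMonObj P]

/-- Torsion of order invertible in the field is defined over the separable closure. -/
theorem exists_torsion_point [Smooth P.hom] [IsSepClosed Ω] {N : ℕ} (hN : (N : k) ≠ 0) (x : SGA7.pt (K := k) K ⟶ P)
    (hx : x ^ N = 1) : ∃ y : SGA7.pt (K := k) Ω ⟶ P, y ^ N = 1 ∧ sig Ω K ≫ y = x := by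
  let f : P ⟶ P := 𝟙 P ^ N
  haveI : Etale f.left := Groth.Agent.Neron.Torsion.etale_npow P N fun s => by
    intro h0
    obtain ⟨φ, -⟩ := Spec.map_surjective ((Spec (CommRingCat.of k)).fromSpecResidueField s)
    refine hN (φ.hom.injective ?_)
    rw [map_natCast, map_zero]
    exact h0
  let G : Over (Spec (CommRingCat.of k)) := Over.mk (pullback.fst f.left η[P].left ≫ P.hom)
  haveI : Etale G.hom := by
    show Etale (pullback.fst f.left η[P].left ≫ P.hom)
    rw [← Over.w f, ← Category.assoc, pullback.condition, Category.assoc, Over.w η[P]]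
    exact inferInstanceAs (Etale (pullback.snd f.left η[P].left ≫ 𝟙 _))
  let iG : G ⟶ P := Over.homMk (pullback.fst f.left η[P].left) rfl
  have hxf : x ≫ f = 1 := by rw [MonObj.comp_pow, Category.comp_id, hx]
  have hcond : x.left ≫ f.left = (toUnit (SGA7.pt (K := k) K)).left ≫ η[P].left := by
    rw [← Over.comp_left, ← Over.comp_left, hxf, Hom.one_def]
  let x' : SGA7.pt (K := k) K ⟶ G := Over.homMk (pullback.lift x.left (toUnit (SGA7.pt (K := k) K)).left hcond) (by
    show pullback.lift _ _ _ ≫ pullback.fst _ _ ≫ P.hom = _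
    rw [pullback.lift_fst_assoc, Over.w])
  have hx' : x' ≫ iG = x := Over.OverMorphism.ext (pullback.lift_fst _ _ _)
  obtain ⟨y', hy'⟩ := exists_point_etale Ω K G x'
  have hy : sig Ω K ≫ y' ≫ iG = x := by rw [← Category.assoc, hy', hx']
  refine ⟨y' ≫ iG, ?_, hy⟩
  rw [← cancel_epi (sig (k := k) Ω K), MonObj.comp_pow, hy, hx, MonObj.comp_one]

end Sep

section BaseChange

variable {k : Type u} [Field k] {L : Type u} [Field L] [Algebra k L] (K : Type u) [Field K] [Algebra k K]
  [Algebra L K] [IsScalarTower k L K] (P : Over (Spec (CommRingCat.of k))) [GrpObj P]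

/-- The base change map. -/
abbrev j : Spec (CommRingCat.of L) ⟶ Spec (CommRingCat.of k) := Spec.map (CommRingCat.ofHom (algebraMap k L))

/-- The diagonal point. -/
def dia : SGA7.pt (K := L) K ⟶ (Over.pullback (j (k := k) (L := L))).obj (SGA7.pt (K := k) K) :=
  Over.homMk (pullback.lift (𝟙 _) (Spec.map (CommRingCat.ofHom (algebraMap L K))) (by
    show 𝟙 _ ≫ Spec.map _ = Spec.map _ ≫ Spec.map _
    rw [Category.id_comp, ← Spec.map_comp, ← CommRingCat.ofHom_comp, ← IsScalarTower.algebraMap_eq]))
    (pullback.lift_snd _ _ _)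

theorem dia_map_fst (X : Over (Spec (CommRingCat.of k))) (x : SGA7.pt (K := k) K ⟶ X) :
    (dia (k := k) (L := L) K ≫ (Over.pullback (j (k := k) (L := L))).map x).left ≫
      pullback.fst X.hom (j (k := k) (L := L)) = x.left := by
  show (pullback.lift (𝟙 _) _ _ ≫ _) ≫ _ = _
  rw [Category.assoc]
  erw [pullback.lift_fst]
  rw [pullback.lift_fst_assoc, Category.id_comp]

/-- The point below a point of the base change. -/
def down (X : Over (Spec (CommRingCat.of k))) (a : SGA7.pt (K := L) K ⟶ Red.bc (j (k := k) (L := L)) X) :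
    SGA7.pt (K := k) K ⟶ X :=
  Over.homMk (a.left ≫ pullback.fst X.hom (j (k := k) (L := L))) (by
    have := Over.w a
    change a.left ≫ pullback.snd X.hom (j (k := k) (L := L)) = Spec.map _ at this
    rw [Category.assoc, pullback.condition, reassoc_of% this]
    show Spec.map _ ≫ Spec.map _ = Spec.map _
    rw [← Spec.map_comp, ← CommRingCat.ofHom_comp, ← IsScalarTower.algebraMap_eq])

/-- Points with values in `K` of a group and of its base change. -/
def Φ : (SGA7.pt (K := k) K ⟶ P) ≃* (SGA7.pt (K := L) K ⟶ Red.bc (j (k := k) (L := L)) P) where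
  toFun x := dia (k := k) (L := L) K ≫ (Over.pullback (j (k := k) (L := L))).map x
  invFun a := down K P a
  left_inv x := Over.OverMorphism.ext (dia_map_fst K P x)
  right_inv a := Over.OverMorphism.ext (pullback.hom_ext (dia_map_fst K P (down K P a))
    ((Over.w (dia (k := k) (L := L) K ≫ (Over.pullback (j (k := k) (L := L))).map (down K P a))).trans (Over.w a).symm))
  map_mul' x y := by
    show dia K ≫ (Over.pullback (j (k := k) (L := L))).homMonoidHom (x * y) = _
    rw [map_mul, MonObj.comp_mul]
    rfl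

end BaseChange

section Unip

variable {L : Type u} [Field L] (H : Over (Spec (CommRingCat.of L))) [GrpObj H] [IsCommMonObj H] [Smooth H.hom]
  [ConnectedSpace H.left]

/-- Powers prime to the characteristic are surjective on connected smooth groups. -/
theorem surjective_pow [QuasiCompact H.hom] {N : ℕ} (hN : (N : L) ≠ 0) : Surjective (𝟙 H ^ N : H ⟶ H).left := by
  let f : H ⟶ H := 𝟙 H ^ N
  haveI : IsMonHom f := Groth.L15.TorsLift.isMonHom_pow H N
  haveI : Etale f.left := Groth.Agent.Neron.Torsion.etale_npow H N fun s => by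
    intro h0
    obtain ⟨φ, -⟩ := Spec.map_surjective ((Spec (CommRingCat.of L)).fromSpecResidueField s)
    refine hN (φ.hom.injective ?_)
    rw [map_natCast, map_zero]
    exact h0
  obtain ⟨C, gC, p, i, _, _, hpi, _, hps, _, _⟩ := Groth.L08.AbelianGrp.exists_image f
  have hr : Set.range f.left = Set.range i.left := by
    rw [← hpi, Over.comp_left, Scheme.Hom.comp_base, TopCat.coe_comp, Set.range_comp,
      Set.range_eq_univ.2 p.left.surjective, Set.image_univ]
  have hclopen : IsClopen (Set.range f.left) :=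
    ⟨hr ▸ i.left.isClosedEmbedding.isClosed_range, f.left.isOpenMap.isOpen_range⟩
  refine ⟨Set.range_eq_univ.1 (hclopen.eq_univ ?_)⟩
  exact ⟨f.left (η[H].left (IsLocalRing.closedPoint L)), Set.mem_range_self _⟩

/-- A connected unipotent group has no prime-to-`p` torsion points. -/
theorem eq_one_of_pow [IsAffine H.left] (K : Type u) [Field K] [IsAlgClosed K] [Algebra L K]
    [ConnectedSpace (Groth.Agent.AV.TateBaseChange.bc K H).left]
    (hH : Red.HasNoSubtorus K (Groth.Agent.AV.TateBaseChange.bc K H)) {N : ℕ} (hN : (N : L) ≠ 0)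
    (x : SGA7.pt (K := L) K ⟶ H) (hx : x ^ N = 1) : x = 1 := by
  let t := Groth.Agent.AV.TateBaseChange.st (k := L) K
  let H' := Groth.Agent.AV.TateBaseChange.bc K H
  haveI : IsAffineHom t := isAffineHom_of_isAffine t
  haveI : IsAffineHom (pullback.fst H.hom t) := MorphismProperty.pullback_fst (P := @IsAffineHom) _ _ ‹_›
  haveI : IsAffine H'.left := isAffine_of_isAffineHom (pullback.fst H.hom t)
  haveI : Smooth H'.hom := inferInstanceAs (Smooth (pullback.snd H.hom t))
  let e := Groth.Agent.AV.TateBaseChange.ptsEquiv K H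
  refine e.injective ?_
  rw [map_one]
  refine Groth.L25.TorusNhd.eq_one_of_noSubtorus H' hH (e x) (m := N) ?_ ?_
  · rw [← map_natCast (algebraMap L K)]
    exact (map_ne_zero _).2 hN
  · exact (map_pow e x N).symm.trans (by rw [hx, map_one])

end Unip

end Groth.L26.PseudoTate
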