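import Groth.Agent.L26.Neron.CompGroup
import Groth.Agent.L08.IdentityComponent
import Groth.Agent.L26.Neron.PseudoTate
import Groth.Agent.L25.PointsDense
import Groth.Agent.L05.Hensel.SecLift

/-!
Roots in the unit component of a smooth commutative group over a separably closed field and over a
henselian base.
-/

set_option autoImplicit false
set_option linter.style.haveILetI false
set_option backward.isDefEq.respectTransparency.types false
set_option backward.isDefEq.respectTransparency false

universe u

open CategoryTheory CategoryTheory.Limits MonoidalCategory CartesianMonoidalCategory MonObj AlgebraicGeometry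

noncomputable section

namespace Groth.L26.CompGroup

section Field

variable {k : Type u} [Field k]

local notation "U1" => 𝟙_ (Over (Spec (CommRingCat.of k)))

theorem specialFibreSet_field (G : Over (Spec (CommRingCat.of k))) : SGA7.specialFibreSet k G = Set.univ :=
  Set.eq_univ_of_forall fun _ => Subsingleton.elim (α := PrimeSpectrum k) _ _

theorem secComp_field (G : Over (Spec (CommRingCat.of k))) (x : U1 ⟶ G) :
    SGA7.secComp k G x = connectedComponent (x.left (IsLocalRing.closedPoint k)) := by
  rw [SGA7.secComp, specialFibreSet_field, connectedComponentIn_univ]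

variable (G : Over (Spec (CommRingCat.of k))) [GrpObj G]

theorem mem_unitSub_field {x : U1 ⟶ G} :
    x ∈ unitSub G ↔ x.left (IsLocalRing.closedPoint k) ∈ connectedComponent (η[G].left (IsLocalRing.closedPoint k)) := by
  show _ ∈ connectedComponentIn _ _ ↔ _
  rw [specialFibreSet_field, connectedComponentIn_univ]

theorem same_component_field {x y : U1 ⟶ G} :
    y.left (IsLocalRing.closedPoint k) ∈ connectedComponent (x.left (IsLocalRing.closedPoint k)) ↔
      y * x⁻¹ ∈ unitSub G := by
  rw [← secComp_field, ← secComp_eq_iff, secComp_eq_iff_mem]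
  rfl

/-- A point in the image is the image of a rational point. -/
theorem exists_point_preimage [IsAlgClosed k] {G H : Over (Spec (CommRingCat.of k))} [LocallyOfFiniteType G.hom]
    (f : G ⟶ H) [LocallyOfFiniteType f.left] (w : U1 ⟶ H)
    (hw : w.left (IsLocalRing.closedPoint k) ∈ Set.range f.left) : ∃ h : U1 ⟶ G, h ≫ f = w := by
  let Q := pullback f.left w.left
  let q : Q ⟶ Spec (CommRingCat.of k) := pullback.snd f.left w.left
  obtain ⟨v, hv⟩ := hw
  obtain ⟨t, -, -⟩ := Scheme.Pullback.exists_preimage_pullback (f := f.left) (g := w.left) v (IsLocalRing.closedPoint k) hv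
  haveI : LocallyOfFiniteType q := inferInstance
  obtain ⟨x, hx, -⟩ := Groth.L25.PointsDense.dense_of_algClosed (K := k) q ⊤ ⟨t, trivial⟩
  rw [Algebra.algebraMap_self, CommRingCat.ofHom_id, Spec.map_id] at hx
  refine ⟨Over.homMk (x ≫ pullback.fst f.left w.left) ?_, Over.OverMorphism.ext ?_⟩
  · show (x ≫ pullback.fst f.left w.left) ≫ G.hom = 𝟙 _
    rw [← Over.w f, Category.assoc, pullback.condition_assoc, reassoc_of% hx]
    exact Over.w w
  · show (x ≫ pullback.fst f.left w.left) ≫ f.left = w.left
    rw [Category.assoc, pullback.condition, reassoc_of% hx]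

variable {G} [IsCommMonObj G]

theorem exists_neutral_comm [LocallyOfFiniteType G.hom] [QuasiCompact G.hom] :
    ∃ (N : Over (Spec (CommRingCat.of k))) (_ : GrpObj N) (_ : IsCommMonObj N) (j : N ⟶ G), IsMonHom j ∧
      IsOpenImmersion j.left ∧ IsClosedImmersion j.left ∧ ConnectedSpace N.left ∧ QuasiCompact N.hom ∧
      (∀ z ∈ unitSub G, ∃ z' : U1 ⟶ N, z' ≫ j = z) ∧ ∀ z' : U1 ⟶ N, z' ≫ j ∈ unitSub G := by
  obtain ⟨N, gN, j, _, _, _, hr⟩ := Groth.L08.IdComp.exists_identityComponent G
  haveI : Mono j := Over.mono_of_mono_left j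
  haveI := Groth.L15.TorsLift.isCommMonObj_of_mono j
  have hc : _root_.IsConnected (Set.range j.left) := hr ▸ isConnected_connectedComponent
  rw [← Set.image_univ] at hc
  have hu : _root_.IsConnected (Set.univ : Set N.left) :=
    ⟨Set.image_nonempty.1 hc.1, j.left.isOpenEmbedding.isInducing.isPreconnected_image.1 hc.2⟩
  haveI : QuasiCompact N.hom := by rw [← Over.w j]; infer_instance
  refine ⟨N, gN, inferInstance, j, inferInstance, inferInstance, inferInstance, connectedSpace_iff_univ.2 hu, inferInstance,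
    fun z hz => ?_, fun z' => ?_⟩
  · have hs : Set.range z.left ⊆ Set.range j.left := by
      rintro _ ⟨s, rfl⟩
      rw [Subsingleton.elim (α := PrimeSpectrum k) s (IsLocalRing.closedPoint k), hr]
      exact (mem_unitSub_field G).1 hz
    exact ⟨Over.homMk (IsOpenImmersion.lift j.left z.left hs) (by
        rw [← Over.w j, IsOpenImmersion.lift_fac_assoc]; exact Over.w z),
      Over.OverMorphism.ext (IsOpenImmersion.lift_fac _ _ _)⟩
  · refine (mem_unitSub_field G).2 ?_
    show _ ∈ connectedComponent (Groth.L25.Component.one G)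
    rw [← hr]
    exact ⟨_, (Scheme.Hom.comp_apply _ _ _).symm⟩

/-- Roots of order invertible in the field exist in the unit component. -/
theorem exists_root [IsSepClosed k] [Smooth G.hom] [QuasiCompact G.hom] {n : ℕ} (hn : (n : k) ≠ 0) {z : U1 ⟶ G}
    (hz : z ∈ unitSub G) : ∃ h ∈ unitSub G, h ^ n = z := by
  obtain ⟨N, _, _, j, _, _, _, _, _, hl, hm⟩ := exists_neutral_comm (G := G)
  obtain ⟨z', rfl⟩ := hl z hz
  haveI : Smooth N.hom := by rw [← Over.w j]; infer_instance
  let f : N ⟶ N := 𝟙 N ^ n
  haveI : Surjective f.left := Groth.L26.PseudoTate.surjective_pow N hn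
  haveI : Etale f.left := Groth.Agent.Neron.Torsion.etale_npow N n fun s => by
    obtain ⟨φ, -⟩ := Spec.map_surjective ((Spec (CommRingCat.of k)).fromSpecResidueField s)
    rw [← map_natCast φ.hom]
    exact (map_ne_zero φ.hom).2 hn
  let q : pullback f.left z'.left ⟶ Spec (CommRingCat.of k) := pullback.snd f.left z'.left
  obtain ⟨t, -⟩ := q.surjective (IsLocalRing.closedPoint k)
  obtain ⟨x, hx, -⟩ := Groth.L25.PointsDense.dense_of_smooth (K := k) q ⊤ ⟨t, trivial⟩
  rw [Algebra.algebraMap_self, CommRingCat.ofHom_id, Spec.map_id] at hx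
  let h' : U1 ⟶ N := Over.homMk (x ≫ pullback.fst f.left z'.left) (by
    show (x ≫ pullback.fst f.left z'.left) ≫ N.hom = 𝟙 _
    rw [← Over.w f, Category.assoc, pullback.condition_assoc, reassoc_of% hx]
    exact Over.w z')
  have hh : h' ^ n = z' := by
    have h1 : h' ≫ f = z' := Over.OverMorphism.ext (by
      show (x ≫ pullback.fst f.left z'.left) ≫ f.left = z'.left
      rw [Category.assoc, pullback.condition, reassoc_of% hx])
    rwa [MonObj.comp_pow, Category.comp_id] at h1
  exact ⟨h' ≫ j, hm h', by rw [← MonObj.pow_comp, hh]⟩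

/-- In the unit component the images of the powers of `n` stabilise on points. -/
theorem exists_stable [IsAlgClosed k] [LocallyOfFiniteType G.hom] [QuasiCompact G.hom] (n : ℕ) :
    ∃ m : ℕ, ∀ (r : ℕ) (z : U1 ⟶ G), z ∈ unitSub G → ∃ h ∈ unitSub G, h ^ (n ^ (m + r)) = z ^ (n ^ m) := by
  obtain ⟨N, _, _, j, _, _, _, _, _, hl, hm⟩ := exists_neutral_comm (G := G)
  haveI : LocallyOfFiniteType N.hom := by rw [← Over.w j]; infer_instance
  haveI : IsLocallyNoetherian N.left := LocallyOfFiniteType.isLocallyNoetherian N.hom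
  haveI : CompactSpace N.left := QuasiCompact.compactSpace_of_compactSpace N.hom
  haveI : IsNoetherian N.left := ⟨⟩
  let f : ℕ → (N ⟶ N) := fun a => 𝟙 N ^ (n ^ a)
  have hcl : ∀ a, IsClosed (Set.range (f a).left) := fun a => by
    haveI : IsMonHom (f a) := Groth.L15.TorsLift.isMonHom_pow N _
    obtain ⟨C, gC, p, i, _, _, hpi, _, _, _, _⟩ := Groth.L08.AbelianGrp.exists_image (f a)
    rw [← hpi, Over.comp_left, Scheme.Hom.comp_base, TopCat.coe_comp, Set.range_comp,
      Set.range_eq_univ.2 p.left.surjective, Set.image_univ]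
    exact i.left.isClosedEmbedding.isClosed_range
  have hcomp : ∀ a b, f (a + b) = f b ≫ f a := fun a b => by
    simp only [f]
    rw [MonObj.comp_pow, Category.comp_id, ← pow_mul, ← pow_add, Nat.add_comm]
  let C : ℕ → TopologicalSpace.Closeds N.left := fun a => ⟨_, hcl a⟩
  have hanti : Antitone C := antitone_nat_of_succ_le fun a => by
    show Set.range (f (a + 1)).left ⊆ Set.range (f a).left
    rw [hcomp, Over.comp_left]
    rintro _ ⟨s, rfl⟩
    exact ⟨_, (Scheme.Hom.comp_apply _ _ _).symm⟩
  obtain ⟨_, ⟨m, rfl⟩, hmin⟩ := (wellFounded_lt (α := TopologicalSpace.Closeds N.left)).has_min (Set.range C)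
    ⟨_, 0, rfl⟩
  refine ⟨m, fun r z hz => ?_⟩
  obtain ⟨z', rfl⟩ := hl z hz
  have hle : C m ≤ C (m + r) := by
    by_contra h
    exact hmin _ ⟨m + r, rfl⟩ (lt_of_le_not_ge (hanti (Nat.le_add_right m r)) h)
  haveI : LocallyOfFiniteType (f (m + r)).left := by
    haveI : LocallyOfFiniteType ((f (m + r)).left ≫ N.hom) := by rw [Over.w]; infer_instance
    exact locallyOfFiniteType_of_comp _ N.hom
  obtain ⟨h', hh'⟩ := exists_point_preimage (f (m + r)) (z' ≫ f m) (hle ⟨_, (Scheme.Hom.comp_apply _ _ _).symm⟩)
  simp only [f, MonObj.comp_pow, Category.comp_id] at hh'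
  exact ⟨h' ≫ j, hm h', by rw [← MonObj.pow_comp, hh', MonObj.pow_comp]⟩

end Field

section Henselian

variable {R : Type u} [CommRing R] [HenselianLocalRing R]

local notation "κ" => IsLocalRing.ResidueField R
local notation "ρ" => Spec.map (CommRingCat.ofHom (IsLocalRing.residue R))

/-- The reduction of a section. -/
def red (N : Over (Spec (CommRingCat.of R))) (x : 𝟙_ (Over (Spec (CommRingCat.of R))) ⟶ N) :
    𝟙_ (Over (Spec (CommRingCat.of κ))) ⟶ Red.bc ρ N :=
  Functor.LaxMonoidal.ε (Over.pullback ρ) ≫ (Over.pullback ρ).map x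

theorem red_fst (N : Over (Spec (CommRingCat.of R))) (x : 𝟙_ (Over (Spec (CommRingCat.of R))) ⟶ N) :
    (red N x).left ≫ pullback.fst N.hom ρ = ρ ≫ x.left := by
  have h1 : ((Over.pullback ρ).map x).left ≫ pullback.fst N.hom ρ = pullback.fst (𝟙 (Spec (CommRingCat.of R))) ρ ≫ x.left :=
    pullback.lift_fst _ _ _
  show (Functor.LaxMonoidal.ε (Over.pullback ρ)).left ≫ ((Over.pullback ρ).map x).left ≫ pullback.fst N.hom ρ = _
  rw [h1, ← Category.assoc]
  congr 1
  have h2 : (Functor.LaxMonoidal.ε (Over.pullback ρ)).left ≫ pullback.snd (𝟙 (Spec (CommRingCat.of R))) ρ = 𝟙 _ :=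
    Over.w (Functor.LaxMonoidal.ε (Over.pullback ρ))
  have h3 : pullback.fst (𝟙 (Spec (CommRingCat.of R))) ρ = pullback.snd (𝟙 (Spec (CommRingCat.of R))) ρ ≫ ρ :=
    (Category.comp_id _).symm.trans pullback.condition
  rw [h3, reassoc_of% h2]

variable (N : Over (Spec (CommRingCat.of R))) [GrpObj N]

theorem range_fst : Set.range (pullback.fst N.hom ρ) = SGA7.specialFibreSet R N := by
  rw [Scheme.Pullback.range_fst]
  ext w
  constructor
  · rintro ⟨s, hs⟩
    show N.hom w = _
    rw [← hs, Subsingleton.elim (α := PrimeSpectrum κ) s (IsLocalRing.closedPoint κ)]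
    exact IsLocalRing.comap_closedPoint (IsLocalRing.residue R)
  · intro hw
    exact ⟨IsLocalRing.closedPoint κ, (IsLocalRing.comap_closedPoint (IsLocalRing.residue R)).trans (Eq.symm hw)⟩

theorem red_apply (x : 𝟙_ (Over (Spec (CommRingCat.of R))) ⟶ N) :
    pullback.fst N.hom ρ ((red N x).left (IsLocalRing.closedPoint κ)) = x.left (IsLocalRing.closedPoint R) := by
  refine (congr(($(red_fst N x)) (IsLocalRing.closedPoint κ))).trans ?_
  exact congrArg x.left (IsLocalRing.comap_closedPoint (IsLocalRing.residue R))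

/-- A section meets the unit component iff its reduction lies in the unit component. -/
theorem red_mem_iff (x : 𝟙_ (Over (Spec (CommRingCat.of R))) ⟶ N) :
    red N x ∈ unitSub (Red.bc ρ N) ↔ x ∈ unitSub N := by
  haveI : IsClosedImmersion ρ := IsClosedImmersion.spec_of_surjective _ IsLocalRing.residue_surjective
  let i := pullback.fst N.hom ρ
  haveI : IsClosedImmersion i := MorphismProperty.pullback_fst (P := @IsClosedImmersion) _ _ ‹_›
  have he : i (η[Red.bc ρ N].left (IsLocalRing.closedPoint κ)) = η[N].left (IsLocalRing.closedPoint R) :=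
    red_apply N η[N]
  have himg : i '' connectedComponent (η[Red.bc ρ N].left (IsLocalRing.closedPoint κ)) =
      connectedComponentIn (SGA7.specialFibreSet R N) (η[N].left (IsLocalRing.closedPoint R)) := by
    rw [← range_fst N, ← he]
    refine Set.Subset.antisymm ((isPreconnected_connectedComponent.image i i.continuous.continuousOn).subset_connectedComponentIn
      ⟨_, mem_connectedComponent, rfl⟩ (Set.image_subset_range _ _)) ?_
    intro w hw
    obtain ⟨v, rfl⟩ := connectedComponentIn_subset _ _ hw
    refine ⟨v, ?_, rfl⟩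
    have hp : _root_.IsPreconnected (i ⁻¹' connectedComponentIn (Set.range i) (i (η[Red.bc ρ N].left (IsLocalRing.closedPoint κ)))) := by
      rw [← i.isClosedEmbedding.isInducing.isPreconnected_image, Set.image_preimage_eq_inter_range,
        Set.inter_eq_left.2 (connectedComponentIn_subset _ _)]
      exact isPreconnected_connectedComponentIn
    exact hp.subset_connectedComponent (mem_connectedComponentIn (Set.mem_range_self _)) hw
  rw [mem_unitSub_field]
  show _ ↔ x.left (IsLocalRing.closedPoint R) ∈ connectedComponentIn _ _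
  rw [← himg, ← red_apply N x]
  exact i.isClosedEmbedding.injective.mem_set_image.symm

/-- Roots of invertible order exist in the unit component over a strictly henselian base. -/
theorem exists_root_henselian [IsSepClosed κ] [IsCommMonObj N] [Smooth N.hom] [QuasiCompact N.hom] {n : ℕ}
    (hn : (n : κ) ≠ 0) {z : 𝟙_ (Over (Spec (CommRingCat.of R))) ⟶ N} (hz : z ∈ unitSub N) :
    ∃ h ∈ unitSub N, h ^ n = z := by
  haveI : Smooth (Red.bc ρ N).hom := inferInstanceAs (Smooth (pullback.snd N.hom ρ))
  haveI : QuasiCompact (Red.bc ρ N).hom := inferInstanceAs (QuasiCompact (pullback.snd N.hom ρ))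
  obtain ⟨h₀, hh₀, hp⟩ := exists_root (G := Red.bc ρ N) hn ((red_mem_iff N z).2 hz)
  let f : N ⟶ N := 𝟙 N ^ n
  haveI : Etale f.left := Groth.Agent.Neron.Torsion.etale_npow N n fun s => by
    obtain ⟨φ, -⟩ := Spec.map_surjective ((Spec (CommRingCat.of R)).fromSpecResidueField s)
    rw [← map_natCast φ.hom]
    exact (((IsLocalRing.residue_ne_zero_iff_isUnit (n : R)).1 (by rwa [map_natCast])).map φ.hom).ne_zero
  let q : pullback f.left z.left ⟶ Spec (CommRingCat.of R) := pullback.snd f.left z.left
  let F := Over.pullback ρ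
  have e1 : h₀ ≫ F.map f = red N z := by
    have hm : F.map f = (𝟙 (F.obj N)) ^ n := (F.homMonoidHom.map_pow (𝟙 N) n).trans (by
      congr 1; exact F.map_id N)
    rw [hm, MonObj.comp_pow, Category.comp_id, hp]
  let v : Spec (CommRingCat.of κ) ⟶ N.left := h₀.left ≫ pullback.fst N.hom ρ
  have hv : v ≫ f.left = ρ ≫ z.left := by
    have h3 : (F.map f).left ≫ pullback.fst N.hom ρ = pullback.fst N.hom ρ ≫ f.left := pullback.lift_fst _ _ _
    rw [← red_fst N z, ← e1, Category.assoc, Over.comp_left, Category.assoc, h3]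
  obtain ⟨u, hu, hu₀⟩ := Groth.L05.SecLift.exists_section q (pullback.lift v ρ hv) (pullback.lift_snd _ _ _)
  let h : 𝟙_ (Over (Spec (CommRingCat.of R))) ⟶ N := Over.homMk (u ≫ pullback.fst f.left z.left) (by
    show (u ≫ pullback.fst f.left z.left) ≫ N.hom = 𝟙 _
    rw [← Over.w f, Category.assoc, pullback.condition_assoc, reassoc_of% hu]
    exact Over.w z)
  have hz' : h ^ n = z := by
    have h1 : h ≫ f = z := Over.OverMorphism.ext (by
      show (u ≫ pullback.fst f.left z.left) ≫ f.left = z.left
      rw [Category.assoc, pullback.condition, reassoc_of% hu])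
    rwa [MonObj.comp_pow, Category.comp_id] at h1
  refine ⟨h, (red_mem_iff N h).1 ?_, hz'⟩
  convert hh₀
  refine Over.OverMorphism.ext (pullback.hom_ext ?_ ((Over.w (red N h)).trans (Over.w h₀).symm))
  rw [red_fst]
  show ρ ≫ u ≫ pullback.fst f.left z.left = v
  rw [reassoc_of% hu₀, pullback.lift_fst]

end Henselian

end Groth.L26.CompGroup
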