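import Groth.Agent.L19.SpecSub.LineInUnip
import Groth.Agent.L19.SpecSub.NoUnip
import Groth.Agent.L19.SpecSub.SabExponent
import Groth.Agent.L26.DimOne.GaBridge
import Groth.Agent.L26.Neron.UnitDiv
import Groth.Agent.L08.SmallNorm.Stage

/-!
Copies of the additive group in unipotent groups; divisibility of the points of groups without them.
-/

set_option autoImplicit false
set_option backward.isDefEq.respectTransparency.types false
set_option linter.style.haveILetI false
set_option linter.unusedSectionVars false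
set_option maxHeartbeats 800000

universe u

open CategoryTheory CategoryTheory.Limits MonoidalCategory CartesianMonoidalCategory MonObj GrpObj AlgebraicGeometry
open TensorProduct WithConv Groth.L08 Groth.L01.MultConj Groth.L19.SpecSub
open Groth.L25.Bridge (P exists_hopf)

noncomputable section

namespace Groth.L26.GaSub

variable {k : Type u} [Field k] [IsAlgClosed k]

/-- A nontrivial connected unipotent Hopf algebra has the additive group as a closed subgroup. -/
theorem exists_gaHom (A : Type u) [CommRing A] [HopfAlgebra k A] [Algebra.FiniteType k A] [IsDomain A]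
    (hU : HopfRep.IsUnipotent k A) (hne : RingHom.ker (Bialgebra.counitAlgHom k A) ≠ ⊥) :
    ∃ φ : A →ₐc[k] SymmetricAlgebra k k, Function.Surjective φ := by
  classical
  haveI : IsNoetherianRing A := Algebra.FiniteType.isNoetherianRing k A
  let S : Set (Ideal A) := {I | I.IsHopfIdeal k ∧ I.IsPrime ∧ I ≠ RingHom.ker (Bialgebra.counitAlgHom k A)}
  obtain ⟨I, ⟨hI, hIp, hIne⟩, hmax⟩ := set_has_maximal_iff_noetherian.2 inferInstance S
    ⟨⊥, Groth.L01.Unip.isHopfIdeal_bot A, Ideal.isPrime_bot, fun h => hne h.symm⟩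
  haveI := hI
  haveI := hIp
  let C := A ⧸ I
  let π : A →ₐc[k] C := Bialgebra.Quotient.mkBialgHom I
  have hπs : Function.Surjective π := Ideal.Quotient.mk_surjective
  haveI : Algebra.FiniteType k C :=
    Algebra.FiniteType.of_surjective (Ideal.Quotient.mkₐ k I) Ideal.Quotient.mk_surjective
  haveI : IsDomain C := Ideal.Quotient.isDomain I
  have hUC : HopfRep.IsUnipotent k C := (Groth.Agent.S5422.result k A).1 C π hπs hU
  have hker : ∀ x, π x ∈ RingHom.ker (Bialgebra.counitAlgHom k C) ↔
      x ∈ RingHom.ker (Bialgebra.counitAlgHom k A) := fun x => by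
    rw [RingHom.mem_ker, RingHom.mem_ker]
    exact Iff.rfl
  have hCne : RingHom.ker (Bialgebra.counitAlgHom k C) ≠ ⊥ := by
    intro h
    refine hIne (le_antisymm (fun x hx => ?_) fun x hx => ?_)
    · exact hI.toIsCoideal.counit_eq_zero hx
    · refine Ideal.Quotient.eq_zero_iff_mem.1 ?_
      have := (hker x).2 hx
      rwa [h, Ideal.mem_bot] at this
  haveI := Groth.L01.Unip.isDomain_tensor_self (k := k) (C := C)
  obtain ⟨f, hf, hf0, hdom⟩ := exists_good (K := k) hUC hCne
  haveI := isHopfIdeal_span_prim hf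
  have hspan : Ideal.span {f} = RingHom.ker (Bialgebra.counitAlgHom k C) := by
    by_contra hne'
    haveI : IsDomain (C ⧸ Ideal.span {f}) :=
      haveI := hdom
      MulEquiv.isDomain (k ⊗[k] (C ⧸ Ideal.span {f}))
        (Algebra.TensorProduct.lid k (C ⧸ Ideal.span {f})).symm.toMulEquiv
    haveI : (Ideal.span {f}).IsPrime := (Ideal.Quotient.isDomain_iff_prime _).1 inferInstance
    refine hmax ((Ideal.span {f}).comap (π : A →ₐ[k] C))
      ⟨Groth.L01.UnipSplit.isHopfIdeal_comap π _, Ideal.comap_isPrime _ _, fun h => ?_⟩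
      (lt_of_le_of_ne (fun x hx => ?_) fun h => ?_)
    · refine hne' ?_
      rw [← Ideal.map_comap_of_surjective (π : A →ₐ[k] C) hπs (Ideal.span {f}), h]
      refine le_antisymm (Ideal.map_le_iff_le_comap.2 fun x hx => (hker x).2 hx) fun y hy => ?_
      obtain ⟨x, rfl⟩ := hπs y
      exact Ideal.mem_map_of_mem _ ((hker x).1 hy)
    · rw [Ideal.mem_comap]
      show π x ∈ _
      rw [show π x = 0 from Ideal.Quotient.eq_zero_iff_mem.2 hx]
      exact zero_mem _
    · obtain ⟨x, rfl⟩ := hπs f
      refine hf0 (Ideal.Quotient.eq_zero_iff_mem.2 ?_)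
      rw [h]
      exact Ideal.mem_span_singleton_self _
  haveI : IsNoetherianRing C := Algebra.FiniteType.isNoetherianRing k C
  haveI hmC : (RingHom.ker (Bialgebra.counitAlgHom k C)).IsMaximal :=
    RingHom.ker_isMaximal_of_surjective _ fun c => ⟨algebraMap k C c, AlgHom.commutes _ c⟩
  have hdim : ringKrullDim C = 1 := by
    rw [← Groth.L08.HopfDim.height_eq_ringKrullDim k (RingHom.ker (Bialgebra.counitAlgHom k C))]
    have hH : (RingHom.ker (Bialgebra.counitAlgHom k C)).height ≤ 1 := by
      rw [← hspan]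
      refine le_trans (Ideal.height_le_spanFinrank _ (by rw [hspan]; exact RingHom.ker_ne_top _)) ?_
      exact_mod_cast (Submodule.spanFinrank_span_le_ncard_of_finite (Set.finite_singleton f)).trans (by simp)
    have h0 : (RingHom.ker (Bialgebra.counitAlgHom k C)).height ≠ 0 := ne_of_gt
      (lt_of_le_of_lt zero_le (Ideal.height_strict_mono_of_isPrime (I := (⊥ : Ideal C))
        (lt_of_le_of_ne bot_le (Ne.symm hCne))))
    rw [le_antisymm hH (Order.one_le_iff_ne_zero.2 h0)]
    rfl
  rcases Groth.Agent.S7976.result k C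
      (fun e he => (IsIdempotentElem.iff_eq_zero_or_one).1 he) hdim with ⟨⟨e⟩⟩ | ⟨⟨e⟩⟩
  · exfalso
    let t : MonoidAlgebra k (Multiplicative ℤ) := MonoidAlgebra.of k (Multiplicative ℤ) (Multiplicative.ofAdd 1)
    have ht : IsGroupLikeElem k t := MonoidAlgebra.isGroupLikeElem_of _
    have hne1 : t ≠ 1 := fun h => by
      have := (MonoidAlgebra.of_injective (R := k) (M := Multiplicative ℤ))
        (h.trans (map_one (MonoidAlgebra.of k (Multiplicative ℤ))).symm)
      exact absurd this (by decide)
    have h1 := Groth.Agent.S2966.groupLike_eq_one hUC (ht.map e.symm)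
    exact hne1 (e.symm.injective (h1.trans (map_one _).symm))
  · exact ⟨(e : C →ₐc[k] SymmetricAlgebra k k).comp π, e.toAlgEquiv.surjective.comp hπs⟩

/-- A nontrivial connected smooth affine group without subtori contains a copy of the additive group. -/
theorem exists_ga (U : Over (Spec (CommRingCat.of k))) [GrpObj U] [IsAffine U.left]
    [Smooth U.hom] [ConnectedSpace U.left] (hns : Red.HasNoSubtorus k U) (hU : ¬ Red.IsTrivialGrp U) :
    ∃ j : Red.Ga (Spec (CommRingCat.of k)) ⟶ U, IsMonHom j ∧ IsClosedImmersion j.left := by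
  haveI : IsAffineHom U.hom := isAffineHom_of_isAffine _
  obtain ⟨A, _, _, ⟨E⟩⟩ := exists_hopf (R := k) U
  have hiso : IsIso E.inv.hom.hom :=
    ⟨E.hom.hom.hom, congr($(E.inv_hom_id).hom.hom), congr($(E.hom_inv_id).hom.hom)⟩
  haveI : IsIso E.inv.hom.hom.left := inferInstanceAs (IsIso ((Over.forget _).map E.inv.hom.hom))
  haveI : IsMonHom E.inv.hom.hom := E.inv.hom.isMonHom_hom
  haveI hsm : Smooth (P k A).hom := by
    rw [← Over.w E.inv.hom.hom]
    exact inferInstanceAs (Smooth (E.inv.hom.hom.left ≫ U.hom))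
  haveI : Algebra.FiniteType k A := by
    have h : LocallyOfFiniteType (P k A).hom := inferInstance
    change LocallyOfFiniteType (Spec.map (CommRingCat.ofHom (algebraMap k A))) at h
    rw [HasRingHomProperty.Spec_iff (P := @LocallyOfFiniteType), CommRingCat.hom_ofHom,
      RingHom.finiteType_algebraMap] at h
    exact h
  haveI : ConnectedSpace (P k A).left :=
    (Scheme.homeoOfIso (asIso E.inv.hom.hom.left)).symm.surjective.connectedSpace (Homeomorph.continuous _)
  haveI := Groth.L08.Albanese.geometricallyIntegral_of_smooth (P k A)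
  haveI : IsIntegral (P k A).left := GeometricallyIntegral.isIntegral_of_subsingleton (P k A).hom
  haveI : IsIntegral (Spec (CommRingCat.of A)) := ‹IsIntegral (P k A).left›
  haveI : IsDomain A := (affine_isIntegral_iff (CommRingCat.of A)).1 ‹_›
  have hconn : ∀ e : A, IsIdempotentElem e → e = 0 ∨ e = 1 := fun e he => IsIdempotentElem.iff_eq_zero_or_one.1 he
  have hns' : Red.HasNoSubtorus k (P k A) := fun T _ j _ _ hT => hns T (j ≫ E.inv.hom.hom) hT
  have hunip := Groth.L24.Count.isUnipotent_of_noSubtorus (A := A) hconn hns'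
  have hne : RingHom.ker (Bialgebra.counitAlgHom k A) ≠ ⊥ := by
    intro h
    refine hU ?_
    have hbij : Function.Bijective (algebraMap k A) := ⟨(algebraMap k A).injective, fun a =>
      ⟨Bialgebra.counitAlgHom k A a, by
        refine ((RingHom.injective_iff_ker_eq_bot _).2 h) ?_
        simp⟩⟩
    haveI : IsIso (CommRingCat.ofHom (algebraMap k A)) :=
      ((RingEquiv.ofBijective _ hbij).toCommRingCatIso).isIso_hom
    haveI : IsIso (P k A).hom := inferInstanceAs (IsIso (Spec.map (CommRingCat.ofHom (algebraMap k A))))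
    show IsIso U.hom
    have h2 : U.hom = inv E.inv.hom.hom.left ≫ (P k A).hom := by
      rw [IsIso.eq_inv_comp]; exact Over.w E.inv.hom.hom
    rw [h2]
    infer_instance
  obtain ⟨φ, hφ⟩ := exists_gaHom A hunip hne
  let f : Grp.mk (P k (SymmetricAlgebra k k)) ⟶ Grp.mk (P k A) :=
    (hopfSpec (CommRingCat.of k)).map (CommHopfAlgCat.ofHom φ).op
  haveI : IsClosedImmersion f.hom.hom.left :=
    IsClosedImmersion.spec_of_surjective (CommRingCat.ofHom (φ : A →+* SymmetricAlgebra k k)) hφ
  let g := (Groth.L26.DimOne.gaIso k).hom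
  haveI : IsIso g.hom.hom :=
    ⟨(Groth.L26.DimOne.gaIso k).inv.hom.hom, congr($((Groth.L26.DimOne.gaIso k).hom_inv_id).hom.hom),
      congr($((Groth.L26.DimOne.gaIso k).inv_hom_id).hom.hom)⟩
  haveI : IsIso g.hom.hom.left := inferInstanceAs (IsIso ((Over.forget _).map g.hom.hom))
  refine ⟨g.hom.hom ≫ f.hom.hom ≫ E.inv.hom.hom, ?_, ?_⟩
  · haveI := g.hom.isMonHom_hom
    haveI := f.hom.isMonHom_hom
    infer_instance
  · show IsClosedImmersion (g.hom.hom.left ≫ f.hom.hom.left ≫ E.inv.hom.hom.left)
    infer_instance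

/-- Without copies of the additive group the points of the unit component are divisible. -/
theorem exists_root_noGa (G : Over (Spec (CommRingCat.of k))) [GrpObj G] [IsCommMonObj G] [Smooth G.hom]
    [QuasiCompact G.hom]
    (hG : ∀ j : Red.Ga (Spec (CommRingCat.of k)) ⟶ G, IsMonHom j → IsClosedImmersion j.left → False)
    {n : ℕ} (hn : 0 < n) {z : 𝟙_ (Over (Spec (CommRingCat.of k))) ⟶ G} (hz : z ∈ Groth.L26.CompGroup.unitSub G) :
    ∃ h ∈ Groth.L26.CompGroup.unitSub G, h ^ n = z := by
  haveI : LocallyOfFiniteType G.hom := inferInstance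
  obtain ⟨N, gN, _, i, _, _, _, _, _, hl, hm⟩ := Groth.L26.CompGroup.exists_neutral_comm (G := G)
  obtain ⟨z', rfl⟩ := hl z hz
  haveI : Smooth N.hom := by rw [← Over.w i]; infer_instance
  haveI : Mono i := Over.mono_of_mono_left i
  haveI := Groth.L08.AbelianGrp.isSeparated N
  obtain ⟨L, gL, l, A, gA, α, hl', hlc, hLs, hLc, hLa, -, hα, hαs, hαf, hαl, hker, hAp, hAs, hAc⟩ :=
    Groth.L08.Chev.exists_chevalley (G := N)
  haveI := hl'; haveI := hlc; haveI := hLs; haveI := hLc; haveI := hLa; haveI := hα; haveI := hαs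
  haveI := hαf; haveI := hαl; haveI := hAp; haveI := hAs; haveI := hAc
  haveI : Mono l := Over.mono_of_mono_left l
  haveI : IsCommMonObj L := Groth.L15.TorsLift.isCommMonObj_of_mono l
  have hT : Red.IsTorus L := by
    refine isTorus_of_noUnip L fun U _ u _ huc hUs hUc hns => ?_
    by_contra htriv
    haveI := hUc
    haveI := hUs
    haveI := huc
    haveI : IsAffine U.left := isAffine_of_isAffineHom u.left
    obtain ⟨j, hj, hjc⟩ := exists_ga U hns htriv
    haveI := hj; haveI := hjc
    refine hG (j ≫ u ≫ l ≫ i) inferInstance ?_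
    show IsClosedImmersion (j.left ≫ u.left ≫ l.left ≫ i.left)
    infer_instance
  haveI : LocallyOfFiniteType N.hom := inferInstance
  haveI : GeometricallyIntegral A.hom := Groth.L08.Albanese.geometricallyIntegral_of_smooth A
  haveI : Surjective (𝟙 A ^ n).left := Groth.L08.Cube.surjective_pow (A := A) hn
  have hlft : ∀ {X Y : Over (Spec (CommRingCat.of k))} (f : X ⟶ Y) [LocallyOfFiniteType X.hom],
      LocallyOfFiniteType f.left := fun {X Y} f _ => by
    haveI : LocallyOfFiniteType (f.left ≫ Y.hom) := by rw [Over.w f]; infer_instance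
    exact locallyOfFiniteType_of_comp f.left Y.hom
  haveI := hlft (𝟙 A ^ n)
  haveI := hlft α
  obtain ⟨b, hb⟩ := Groth.L26.CompGroup.exists_point_preimage (𝟙 A ^ n) (z' ≫ α) ((𝟙 A ^ n).left.surjective _)
  obtain ⟨g, hg⟩ := Groth.L26.CompGroup.exists_point_preimage α b (α.left.surjective _)
  obtain ⟨t, ht, -⟩ := hker.exists_lift (z' * (g ^ n)⁻¹) (toUnit _) (by
    rw [← Hom.one_def, MonObj.mul_comp, GrpObj.inv_comp, MonObj.pow_comp, hg]
    rw [MonObj.comp_pow, Category.comp_id] at hb
    rw [hb, mul_inv_cancel])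
  haveI : Surjective (𝟙 L ^ n).left := surjective_pow_torus hT n hn
  haveI : LocallyOfFiniteType L.hom := by rw [← Over.w l]; infer_instance
  haveI := hlft (𝟙 L ^ n)
  obtain ⟨s, hs⟩ := Groth.L26.CompGroup.exists_point_preimage (𝟙 L ^ n) t ((𝟙 L ^ n).left.surjective _)
  rw [MonObj.comp_pow, Category.comp_id] at hs
  refine ⟨(g * (s ≫ l)) ≫ i, hm _, ?_⟩
  rw [← MonObj.pow_comp, mul_pow, ← MonObj.pow_comp, hs, ht, mul_inv_cancel_comm_assoc]

end Groth.L26.GaSub
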