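import Groth.Prelude.Def_Red
import Groth.Agent.L25.TorusNhd.FieldUnip
import Groth.Agent.L01.MultDescent.PowPt
import Groth.Agent.L19.SpecSub.CentreUnip
import Groth.Agent.L08.Albanese.ChowImage
import Groth.Agent.L15.TorsLift.Basic

/-!
Connected unipotent groups in characteristic p are killed by a power of p; the resulting retraction
up to a power of p of a commutative extension by such a group.
-/

set_option autoImplicit false
set_option backward.isDefEq.respectTransparency.types false
set_option linter.style.haveILetI false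
set_option linter.unusedSectionVars false
set_option maxHeartbeats 800000

universe u

open CategoryTheory CategoryTheory.Limits MonoidalCategory CartesianMonoidalCategory MonObj AlgebraicGeometry
open Groth.L25

noncomputable section

namespace Groth.L26.PPow

/-- Over an algebraically closed field of characteristic `p` a connected group without subtori is killed by a
power of `p`. -/
theorem exists_pow_eq_one_algClosed {k : Type u} [Field k] [IsAlgClosed k] (p : ℕ) [Fact p.Prime] [CharP k p]
    (U : Over (Spec (CommRingCat.of k))) [GrpObj U] [IsAffine U.left] [Smooth U.hom] [ConnectedSpace U.left]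
    (hns : Red.HasNoSubtorus k U) : ∃ N : ℕ, (𝟙 U : U ⟶ U) ^ p ^ N = 1 := by
  haveI : IsAffineHom U.hom := isAffineHom_of_isAffine _
  obtain ⟨A, _, _, ⟨E⟩⟩ := Bridge.exists_hopf (R := k) U
  let ψ : U ⟶ Bridge.P k A := E.hom.hom.hom
  haveI : IsMonHom ψ := E.hom.hom.isMonHom_hom
  haveI hψ : IsIso ψ :=
    ⟨E.inv.hom.hom, congr($(E.hom_inv_id).hom.hom), congr($(E.inv_hom_id).hom.hom)⟩
  haveI : IsMonHom (inv ψ) := E.inv.hom.isMonHom_hom |> fun h => by
    rwa [show inv ψ = E.inv.hom.hom from IsIso.inv_eq_of_hom_inv_id congr($(E.hom_inv_id).hom.hom)]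
  haveI : IsIso ψ.left := inferInstanceAs (IsIso ((Over.forget _).map ψ))
  haveI hsm : Smooth (Bridge.P k A).hom := by
    rw [show (Bridge.P k A).hom = inv ψ.left ≫ U.hom by rw [IsIso.eq_inv_comp]; exact Over.w ψ]
    infer_instance
  haveI : Algebra.FiniteType k A := by
    have h : LocallyOfFiniteType (Bridge.P k A).hom := inferInstance
    change LocallyOfFiniteType (Spec.map (CommRingCat.ofHom (algebraMap k A))) at h
    rw [HasRingHomProperty.Spec_iff (P := @LocallyOfFiniteType), CommRingCat.hom_ofHom,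
      RingHom.finiteType_algebraMap] at h
    exact h
  haveI : ConnectedSpace (Bridge.P k A).left :=
    (Scheme.homeoOfIso (asIso ψ.left)).surjective.connectedSpace (Homeomorph.continuous _)
  haveI := Groth.L08.Albanese.geometricallyIntegral_of_smooth (Bridge.P k A)
  haveI : IsIntegral (Bridge.P k A).left := GeometricallyIntegral.isIntegral_of_subsingleton (Bridge.P k A).hom
  haveI : IsIntegral (Spec (CommRingCat.of A)) := ‹IsIntegral (Bridge.P k A).left›
  haveI : IsDomain A := (affine_isIntegral_iff (CommRingCat.of A)).1 ‹_›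
  have hconn : ∀ e : A, IsIdempotentElem e → e = 0 ∨ e = 1 := fun e he => IsIdempotentElem.iff_eq_zero_or_one.1 he
  have hns' : Red.HasNoSubtorus k (Bridge.P k A) := fun T _ j _ _ hT => hns T (j ≫ inv ψ) hT
  have hunip : HopfRep.IsUnipotent k A := Groth.L24.Count.isUnipotent_of_noSubtorus (A := A) hconn hns'
  obtain ⟨N, hN⟩ := Groth.L01.MultDescent.exists_pow_char_pow_eq_one hunip p
    (Spec.mapMulEquiv.symm (𝟙 (Bridge.P k A)))
  refine ⟨N, ?_⟩
  rw [← map_pow, MulEquiv.map_eq_one_iff] at hN
  rw [← cancel_mono ψ, MonObj.pow_comp, Category.id_comp, MonObj.one_comp,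
    ← Category.comp_id ψ, ← MonObj.comp_pow, hN, MonObj.comp_one]

/-- In characteristic `p` a connected group without geometric subtori is killed by a power of `p`. -/
theorem exists_pow_eq_one {k : Type u} [Field k] (p : ℕ) [Fact p.Prime] [CharP k p]
    (U : Over (Spec (CommRingCat.of k))) [GrpObj U] [IsAffine U.left] [Smooth U.hom] [ConnectedSpace U.left]
    (hns : Red.HasNoSubtorus (AlgebraicClosure k)
      (Red.bc (Spec.map (CommRingCat.ofHom (algebraMap k (AlgebraicClosure k)))) U)) :
    ∃ N : ℕ, (𝟙 U : U ⟶ U) ^ p ^ N = 1 := by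
  let K := AlgebraicClosure k
  let θ := Spec.map (CommRingCat.ofHom (algebraMap k K))
  let U' := Red.bc θ U
  haveI : CharP K p := charP_of_injective_algebraMap (algebraMap k K).injective p
  haveI : IsAffineHom θ := isAffineHom_of_isAffine _
  haveI : IsAffineHom (pullback.fst U.hom θ) := MorphismProperty.pullback_fst (P := @IsAffineHom) _ _ ‹_›
  haveI : IsAffine U'.left := isAffine_of_isAffineHom (pullback.fst U.hom θ)
  haveI : Smooth U'.hom := inferInstanceAs (Smooth (pullback.snd U.hom θ))
  haveI := Groth.L08.Albanese.geometricallyIntegral_of_smooth U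
  haveI : GeometricallyIntegral U'.hom := inferInstanceAs (GeometricallyIntegral (pullback.snd U.hom θ))
  haveI : ConnectedSpace U'.left := GeometricallyConnected.connectedSpace_of_subsingleton U'.hom
  obtain ⟨N, hN⟩ := exists_pow_eq_one_algClosed p U' hns
  refine ⟨N, Groth.L19.SpecSub.bc_faithful θ ?_⟩
  have h1 := map_pow (Over.pullback θ).homMonoidHom (𝟙 U) (p ^ N)
  have h2 := map_one ((Over.pullback θ).homMonoidHom : (U ⟶ U) →* ((Over.pullback θ).obj U ⟶ (Over.pullback θ).obj U))
  simp only [Functor.homMonoidHom_apply, CategoryTheory.Functor.map_id] at h1 h2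
  rw [h1, h2]
  exact hN

/-- The retraction up to a power of p. -/
theorem exists_retract {k : Type u} [Field k] (p : ℕ) [Fact p.Prime] [CharP k p]
    {E P V : Over (Spec (CommRingCat.of k))} [GrpObj E] [GrpObj P] [IsCommMonObj P] [GrpObj V]
    (jE : E ⟶ P) [IsMonHom jE] (πV : P ⟶ V) [IsMonHom πV] [IsClosedImmersion jE.left]
    (hker : AlgGrp.IsKernel jE πV) [Smooth V.hom] [ConnectedSpace V.left] [IsAffine V.left]
    (hV : Red.HasNoSubtorus (AlgebraicClosure k)
      (Red.bc (Spec.map (CommRingCat.ofHom (algebraMap k (AlgebraicClosure k)))) V)) :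
    ∃ (N : ℕ) (h : P ⟶ E), IsMonHom h ∧ h ≫ jE = (𝟙 P) ^ p ^ N ∧ jE ≫ h = (𝟙 E) ^ p ^ N := by
  obtain ⟨N, hN⟩ := exists_pow_eq_one p V hV
  obtain ⟨h, hh, -⟩ := hker.exists_lift ((𝟙 P) ^ p ^ N) (toUnit P) (by
    rw [← Hom.one_def, MonObj.pow_comp, Category.id_comp, ← Category.comp_id πV, ← MonObj.comp_pow, hN,
      MonObj.comp_one])
  haveI : Mono jE := Over.mono_of_mono_left jE
  haveI : IsMonHom (h ≫ jE) := by rw [hh]; exact Groth.L15.TorsLift.isMonHom_pow P _
  refine ⟨N, h, ?_, hh, ?_⟩
  · constructor
    · rw [← cancel_mono jE, Category.assoc, IsMonHom.one_hom (h ≫ jE), IsMonHom.one_hom]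
    · rw [← cancel_mono jE, Category.assoc, IsMonHom.mul_hom (h ≫ jE), Category.assoc, IsMonHom.mul_hom jE,
        ← Category.assoc (h ⊗ₘ h), tensorHom_comp_tensorHom]
  · rw [← cancel_mono jE, Category.assoc, hh, MonObj.comp_pow, Category.comp_id, MonObj.pow_comp, Category.id_comp]

end Groth.L26.PPow
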