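import Groth.Agent.L26.Neron.CompGroup
import Groth.Agent.L26.Neron.PPow

/-!
Extensions of homomorphisms to Néron models and their effect on components.
-/

set_option autoImplicit false
set_option linter.style.haveILetI false
set_option backward.isDefEq.respectTransparency.types false
set_option backward.isDefEq.respectTransparency false

universe u

open CategoryTheory CategoryTheory.Limits MonoidalCategory CartesianMonoidalCategory MonObj AlgebraicGeometry

noncomputable section

namespace Groth.L26.PseudoNeron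

variable {R K : Type u} [CommRing R] [Field K] [Algebra R K]

local notation "Fg" => Over.pullback (Spec.map (CommRingCat.ofHom (algebraMap R K)))

theorem eq_of_map {M : Over (Spec (CommRingCat.of R))} (hM : SGA7.IsNeron R K M) {Y : Over (Spec (CommRingCat.of R))}
    (hY : Smooth Y.hom) {a b : Y ⟶ M} (h : (Fg).map a = (Fg).map b) : a = b :=
  (hM.2.2.2 Y hY).1 h

theorem smooth_tensor (N : Over (Spec (CommRingCat.of R))) [Smooth N.hom] : Smooth (N ⊗ N).hom := by
  show Smooth (pullback.fst N.hom N.hom ≫ N.hom)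
  infer_instance

/-- A homomorphism of generic fibres extends to a homomorphism into a Néron model. -/
theorem exists_extend {N M : Over (Spec (CommRingCat.of R))} [GrpObj N] [GrpObj M] [Smooth N.hom]
    (hM : SGA7.IsNeron R K M) (f : Red.bc (Spec.map (CommRingCat.ofHom (algebraMap R K))) N ⟶
      Red.bc (Spec.map (CommRingCat.ofHom (algebraMap R K))) M) [IsMonHom f] :
    ∃ g : N ⟶ M, IsMonHom g ∧ (Fg).map g = f := by
  obtain ⟨g, hg⟩ := (hM.2.2.2 N inferInstance).2 f
  change (Fg).map g = f at hg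
  have hU : Smooth (𝟙_ (Over (Spec (CommRingCat.of R)))).hom := inferInstanceAs (Smooth (𝟙 (Spec (CommRingCat.of R))))
  refine ⟨g, ⟨?_, ?_⟩, hg⟩
  · refine eq_of_map hM hU ?_
    have e1 : (η[N] : 𝟙_ _ ⟶ N) = 1 := by rw [Hom.one_def, toUnit_unique (toUnit (𝟙_ _)) (𝟙 _), Category.id_comp]
    have e2 : (η[M] : 𝟙_ _ ⟶ M) = 1 := by rw [Hom.one_def, toUnit_unique (toUnit (𝟙_ _)) (𝟙 _), Category.id_comp]
    rw [e1, e2, Functor.map_comp, Functor.map_one, Functor.map_one, hg, MonObj.one_comp]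
  · refine eq_of_map hM (smooth_tensor N) ?_
    have e1 : (μ[N] : N ⊗ N ⟶ N) = fst N N * snd N N := by rw [Hom.mul_def, lift_fst_snd, Category.id_comp]
    have e2 : (g ⊗ₘ g) ≫ μ[M] = (fst N N ≫ g) * (snd N N ≫ g) := by rw [Hom.mul_def, lift_fst_comp_snd_comp]
    rw [e1, e2, Functor.map_comp, Functor.map_mul, Functor.map_mul, Functor.map_comp, Functor.map_comp, hg,
      MonObj.mul_comp]

theorem map_pow_id (M : Over (Spec (CommRingCat.of R))) [GrpObj M] (n : ℕ) :
    (Fg).map ((𝟙 M) ^ n) = (𝟙 ((Fg).obj M)) ^ n := by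
  refine ((Fg).homMonoidHom.map_pow (𝟙 M) n).trans ?_
  congr 1
  exact (Fg).map_id M

/-- A relation `f ≫ f' = n` on generic fibres extends to the Néron model. -/
theorem comp_eq_pow {N M : Over (Spec (CommRingCat.of R))} [GrpObj N] (hN : SGA7.IsNeron R K N) {g : N ⟶ M}
    {g' : M ⟶ N} {A B : Over (Spec (CommRingCat.of K))} [GrpObj A]
    (eA : (Fg).obj N ≅ A) [IsMonHom eA.hom] (eB : (Fg).obj M ≅ B) {f : A ⟶ B} {f' : B ⟶ A} {n : ℕ}
    (hg : (Fg).map g = eA.hom ≫ f ≫ eB.inv) (hg' : (Fg).map g' = eB.hom ≫ f' ≫ eA.inv)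
    (hff : f ≫ f' = (𝟙 A) ^ n) : g ≫ g' = (𝟙 N) ^ n := by
  refine eq_of_map hN hN.1 ?_
  rw [map_pow_id, Functor.map_comp, hg, hg', ← cancel_mono eA.hom]
  simp only [Category.assoc, Iso.inv_hom_id_assoc, Iso.inv_hom_id, Category.comp_id, hff, MonObj.comp_pow,
    MonObj.pow_comp, Category.id_comp]

end Groth.L26.PseudoNeron
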