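import Groth.Agent.L26.Neron.UnitDiv

/-!
Lifting torsion of the component group of a smooth commutative group over an algebraically closed field.
-/

set_option autoImplicit false
set_option linter.style.haveILetI false
set_option backward.isDefEq.respectTransparency.types false
set_option backward.isDefEq.respectTransparency false

universe u

open CategoryTheory CategoryTheory.Limits MonoidalCategory CartesianMonoidalCategory MonObj AlgebraicGeometry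

noncomputable section

namespace Groth.L26.CompGroup

variable {k : Type u} [Field k] [IsAlgClosed k] {G : Over (Spec (CommRingCat.of k))} [GrpObj G] [IsCommMonObj G]
  [QuasiCompact G.hom]

local notation "U1" => 𝟙_ (Over (Spec (CommRingCat.of k)))

/-- Classes of `n`-power order lift to points of `n`-power order. -/
theorem exists_power_torsion [LocallyOfFiniteType G.hom] (n : ℕ) (x : U1 ⟶ G) (r : ℕ)
    (hx : x ^ (n ^ r) ∈ unitSub G) : ∃ y : U1 ⟶ G, y * x⁻¹ ∈ unitSub G ∧ ∃ s : ℕ, y ^ (n ^ s) = 1 := by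
  obtain ⟨m, hm⟩ := exists_stable (G := G) n
  obtain ⟨h, hh, he⟩ := hm r _ hx
  refine ⟨x * h⁻¹, ?_, m + r, ?_⟩
  · rw [mul_right_comm, mul_inv_cancel, _root_.one_mul]
    exact inv_mem hh
  · rw [mul_pow, inv_pow, he, ← pow_mul, ← pow_add, Nat.add_comm r m, mul_inv_cancel]

/-- If classes of `p`-power order lift to points of the same order then all classes do. -/
theorem exists_split [Smooth G.hom] (p : ℕ) [Fact p.Prime] [CharP k p]
    (H : ∀ x : U1 ⟶ G, (∃ r : ℕ, x ^ (p ^ r) ∈ unitSub G) →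
      ∃ y : U1 ⟶ G, y * x⁻¹ ∈ unitSub G ∧ ∀ n : ℕ, y ^ n = 1 ↔ x ^ n ∈ unitSub G)
    (x : U1 ⟶ G) : ∃ y : U1 ⟶ G, y * x⁻¹ ∈ unitSub G ∧ ∀ n : ℕ, y ^ n = 1 ↔ x ^ n ∈ unitSub G := by
  classical
  haveI : LocallyOfFiniteType G.hom := inferInstance
  have hfin := finite_secComp (R := k) G
  obtain ⟨a, b, hab, hne⟩ : ∃ a b : ℕ, a < b ∧ SGA7.secComp k G (x ^ a) = SGA7.secComp k G (x ^ b) := by
    by_contra hcon
    push Not at hcon
    have hinj : Function.Injective fun a : ℕ => SGA7.secComp k G (x ^ a) := by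
      intro a b h
      rcases lt_trichotomy a b with hlt | heq | hgt
      · exact absurd h (hcon a b hlt)
      · exact heq
      · exact absurd h.symm (hcon b a hgt)
    exact Set.infinite_range_of_injective hinj (hfin.subset (Set.range_comp_subset_range _ (SGA7.secComp k G)))
  have hex : ∃ M : ℕ, 0 < M ∧ x ^ M ∈ unitSub G := by
    refine ⟨b - a, by omega, ?_⟩
    have h1 : x ^ b * (x ^ a)⁻¹ ∈ unitSub G := (secComp_eq_iff_mem G _ _).1 hne.symm
    rwa [← pow_sub x hab.le] at h1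
  let M := Nat.find hex
  obtain ⟨hM0, hM⟩ : 0 < M ∧ x ^ M ∈ unitSub G := Nat.find_spec hex
  have hdvd : ∀ n : ℕ, x ^ n ∈ unitSub G → M ∣ n := fun n hn => by
    refine Nat.dvd_of_mod_eq_zero ?_
    by_contra h0
    refine Nat.find_min hex (Nat.mod_lt n hM0) ⟨Nat.pos_of_ne_zero h0, ?_⟩
    have h1 : x ^ (n % M) = x ^ n * ((x ^ M) ^ (n / M))⁻¹ := by
      rw [eq_mul_inv_iff_mul_eq, ← pow_mul, ← pow_add, Nat.mod_add_div]
    rw [h1]
    exact mul_mem hn (inv_mem (pow_mem hM _))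
  obtain ⟨r, m, hpm, hMe⟩ := Nat.exists_eq_pow_mul_and_not_dvd hM0.ne' p (Fact.out : p.Prime).ne_one
  have hcop : Nat.Coprime (p ^ r) m := ((Fact.out : p.Prime).coprime_iff_not_dvd.2 hpm).pow_left r
  let a' := Nat.gcdA (p ^ r) m
  let b' := Nat.gcdB (p ^ r) m
  have hbez : (1 : ℤ) = (p ^ r : ℕ) * a' + (m : ℤ) * b' := by
    rw [← Nat.gcd_eq_gcd_ab, hcop.gcd_eq_one]
    rfl
  let x₁ := (x ^ m) ^ b'
  let x₂ := (x ^ (p ^ r)) ^ a'
  have hx12 : x₂ * x₁ = x := by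
    show (x ^ (p ^ r)) ^ a' * (x ^ m) ^ b' = x
    rw [← zpow_natCast x (p ^ r), ← zpow_natCast x m, ← zpow_mul, ← zpow_mul, ← zpow_add, ← hbez, zpow_one]
  have hp1 : x₁ ^ (p ^ r) ∈ unitSub G := by
    rw [show x₁ ^ (p ^ r) = (x ^ M) ^ b' by
      show ((x ^ m) ^ b') ^ (p ^ r) = _
      rw [hMe, ← zpow_natCast, ← zpow_mul, mul_comm b', zpow_mul, zpow_natCast, ← pow_mul, Nat.mul_comm]]
    exact zpow_mem hM _
  have hp2 : x₂ ^ m ∈ unitSub G := by
    rw [show x₂ ^ m = (x ^ M) ^ a' by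
      show ((x ^ (p ^ r)) ^ a') ^ m = _
      rw [hMe, ← zpow_natCast, ← zpow_mul, mul_comm a', zpow_mul, zpow_natCast, ← pow_mul]]
    exact zpow_mem hM _
  obtain ⟨y₁, hy₁, hy₁'⟩ := H x₁ ⟨r, hp1⟩
  have hmk : (m : k) ≠ 0 := fun h => hpm ((CharP.cast_eq_zero_iff k p m).1 h)
  obtain ⟨h, hh, he⟩ := exists_root (G := G) hmk hp2
  have hy₂ : (x₂ * h⁻¹) ^ m = 1 := by rw [mul_pow, inv_pow, he, mul_inv_cancel]
  refine ⟨x₂ * h⁻¹ * y₁, ?_, fun n => ⟨fun hn => ?_, fun hn => ?_⟩⟩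
  · rw [show x₂ * h⁻¹ * y₁ * x⁻¹ = h⁻¹ * (y₁ * x₁⁻¹) by
      rw [← hx12, mul_inv]
      calc x₂ * h⁻¹ * y₁ * (x₂⁻¹ * x₁⁻¹) = h⁻¹ * (y₁ * x₁⁻¹) * (x₂ * x₂⁻¹) := by ac_rfl
        _ = h⁻¹ * (y₁ * x₁⁻¹) := by rw [mul_inv_cancel, _root_.mul_one]]
    exact mul_mem (inv_mem hh) hy₁
  · have h2 : x = x₂ * h⁻¹ * y₁ * (h * (y₁ * x₁⁻¹)⁻¹) := by
      rw [mul_inv, inv_inv, ← hx12]
      calc x₂ * x₁ = x₂ * x₁ * (h⁻¹ * h) * (y₁ * y₁⁻¹) := by
            rw [inv_mul_cancel, mul_inv_cancel, _root_.mul_one, _root_.mul_one]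
        _ = x₂ * h⁻¹ * y₁ * (h * (y₁⁻¹ * x₁)) := by ac_rfl
    rw [h2, mul_pow, hn, _root_.one_mul]
    exact pow_mem (mul_mem hh (inv_mem hy₁)) n
  · have h1 : y₁ ^ n = 1 := (hy₁' n).2 (by
      show ((x ^ m) ^ b') ^ n ∈ _
      rw [← zpow_natCast, ← zpow_mul, mul_comm, zpow_mul, zpow_natCast, ← pow_mul, Nat.mul_comm, pow_mul]
      exact zpow_mem (pow_mem hn _) _)
    obtain ⟨c, hc⟩ : m ∣ n := (Dvd.intro_left _ hMe.symm).trans (hdvd n hn)
    rw [mul_pow, h1, _root_.mul_one, hc, pow_mul, hy₂, one_pow]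

end Groth.L26.CompGroup
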