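import Groth.Agent.L26.Neron.GaSub
import Groth.Agent.L26.Neron.SplitRed
import Groth.Agent.L08.SmallNorm.PureInsep

/-!
Over an algebraically closed residue field the special fibre without geometric copies of the additive group
contains none, and then the component group lifts.
-/

set_option autoImplicit false
set_option backward.isDefEq.respectTransparency.types false
set_option linter.style.haveILetI false
set_option maxHeartbeats 800000

universe u

open CategoryTheory CategoryTheory.Limits MonoidalCategory CartesianMonoidalCategory MonObj AlgebraicGeometry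

noncomputable section

namespace Groth.L26.SplitSemistable

variable {R : Type u} [CommRing R] [IsLocalRing R]

/-- A geometric point over the closed point factors through the residue field. -/
theorem exists_residue_factor (Ω : Type u) [Field Ω] (θ : Spec (CommRingCat.of Ω) ⟶ Spec (CommRingCat.of R))
    (hθ : θ (IsLocalRing.closedPoint Ω) = IsLocalRing.closedPoint R) :
    ∃ σ : Spec (CommRingCat.of Ω) ⟶ Spec (CommRingCat.of (IsLocalRing.ResidueField R)),
      σ ≫ Spec.map (CommRingCat.ofHom (IsLocalRing.residue R)) = θ := by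
  obtain ⟨φ, rfl⟩ := Spec.map_surjective θ
  haveI : IsLocalHom φ.hom := ⟨fun r hr => by
    by_contra hn
    have h1 : r ∈ (Spec.map φ (IsLocalRing.closedPoint Ω)).asIdeal := by
      rw [hθ]; exact (IsLocalRing.mem_maximalIdeal r).2 hn
    exact (IsLocalRing.mem_maximalIdeal _).1 h1 hr⟩
  refine ⟨Spec.map (CommRingCat.ofHom (IsLocalRing.ResidueField.lift φ.hom)), ?_⟩
  rw [← Spec.map_comp]
  congr 1

/-- A copy of the additive group in the special fibre gives one in every fibre over the closed point. -/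
theorem noGa_of_point (N : Over (Spec (CommRingCat.of R))) [GrpObj N] (Ω : Type u) [Field Ω]
    (θ : Spec (CommRingCat.of Ω) ⟶ Spec (CommRingCat.of R))
    (hθ : θ (IsLocalRing.closedPoint Ω) = IsLocalRing.closedPoint R)
    (h : ∀ j : Red.Ga (Spec (CommRingCat.of Ω)) ⟶ Red.bc θ N, IsMonHom j → IsClosedImmersion j.left → False)
    (j : Red.Ga (Spec (CommRingCat.of (IsLocalRing.ResidueField R))) ⟶
      Red.bc (Spec.map (CommRingCat.ofHom (IsLocalRing.residue R))) N) (hj : IsMonHom j)
    (hc : IsClosedImmersion j.left) : False := by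
  haveI := hj
  haveI := hc
  obtain ⟨σ, hσ⟩ := exists_residue_factor Ω θ hθ
  obtain ⟨c₂, hc₂, hc₂', -⟩ := Groth.L08.SmallNorm.exists_comparison_gen σ
    (Spec.map (CommRingCat.ofHom (IsLocalRing.residue R))) θ hσ N
  obtain ⟨c₁, hc₁, hc₁', -⟩ := Groth.L08.SmallNorm.exists_comparison_gen σ
    (Limits.IsTerminal.from specULiftZIsTerminal (Spec (CommRingCat.of (IsLocalRing.ResidueField R))))
    (Limits.IsTerminal.from specULiftZIsTerminal (Spec (CommRingCat.of Ω))) (specULiftZIsTerminal.hom_ext _ _) Red.GaZ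
  let F := Over.pullback σ
  haveI : IsClosedImmersion (F.map j).left :=
    MorphismProperty.of_isPullback (P := @IsClosedImmersion) (Groth.L08.SmallNorm.isPullback_bc_map' σ j).flip hc
  haveI : IsMonHom (F.map j) := inferInstance
  haveI : IsMonHom (asIso c₁).hom := hc₁'
  haveI : IsMonHom (inv c₁) := inferInstanceAs (IsMonHom (asIso c₁).inv)
  haveI := hc₂'
  refine h (inv c₁ ≫ F.map j ≫ c₂) inferInstance ?_
  haveI : IsIso (inv c₁).left := inferInstanceAs (IsIso ((Over.forget _).map (inv c₁)))
  haveI : IsIso c₂.left := inferInstanceAs (IsIso ((Over.forget _).map c₂))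
  show IsClosedImmersion ((inv c₁).left ≫ (F.map j).left ≫ c₂.left)
  infer_instance

/-- The geometric point over a point lies over it. -/
theorem geomPt_apply {S : Scheme.{u}} (s : S) (y) : Red.geomPt s y = s :=
  (Scheme.Hom.comp_apply _ _ _).trans (Scheme.fromSpecResidueField_apply _ _)

/-- Without copies of the additive group every component contains a point of the same order. -/
theorem exists_split_noGa {k : Type u} [Field k] [IsAlgClosed k] (G : Over (Spec (CommRingCat.of k))) [GrpObj G]
    [IsCommMonObj G] [Smooth G.hom] [QuasiCompact G.hom]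
    (hG : ∀ j : Red.Ga (Spec (CommRingCat.of k)) ⟶ G, IsMonHom j → IsClosedImmersion j.left → False)
    (x : 𝟙_ (Over (Spec (CommRingCat.of k))) ⟶ G) :
    ∃ y, y * x⁻¹ ∈ Groth.L26.CompGroup.unitSub G ∧ ∀ n : ℕ, y ^ n = 1 ↔ x ^ n ∈ Groth.L26.CompGroup.unitSub G := by
  classical
  haveI : LocallyOfFiniteType G.hom := inferInstance
  let U := Groth.L26.CompGroup.unitSub G
  obtain ⟨M, hM0, hM, hdvd⟩ : ∃ M : ℕ, 0 < M ∧ x ^ M ∈ U ∧ ∀ n, x ^ n ∈ U → M ∣ n := by
    have hinj : ¬ Function.Injective fun a : ℕ => SGA7.secComp k G (x ^ a) := fun hinj =>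
      Set.infinite_range_of_injective hinj
        ((Groth.L26.CompGroup.finite_secComp (R := k) G).subset (Set.range_comp_subset_range _ (SGA7.secComp k G)))
    obtain ⟨a, b, hab, hne⟩ := Function.not_injective_iff.1 hinj
    have key : ∀ {a b : ℕ}, a < b → SGA7.secComp k G (x ^ b) = SGA7.secComp k G (x ^ a) → x ^ (b - a) ∈ U :=
      fun {a b} hlt h => by
        rw [pow_sub x hlt.le]
        exact (Groth.L26.CompGroup.secComp_eq_iff_mem G _ _).1 h
    have hex : ∃ M : ℕ, 0 < M ∧ x ^ M ∈ U := by
      rcases lt_or_gt_of_ne hne with h | h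
      · exact ⟨b - a, by omega, key h hab.symm⟩
      · exact ⟨a - b, by omega, key h hab⟩
    refine ⟨Nat.find hex, (Nat.find_spec hex).1, (Nat.find_spec hex).2, fun n hn => ?_⟩
    refine Nat.dvd_of_mod_eq_zero ?_
    by_contra h0
    refine Nat.find_min hex (Nat.mod_lt n (Nat.find_spec hex).1) ⟨Nat.pos_of_ne_zero h0, ?_⟩
    have h1 : x ^ (n % Nat.find hex) = x ^ n * ((x ^ Nat.find hex) ^ (n / Nat.find hex))⁻¹ := by
      rw [eq_mul_inv_iff_mul_eq, ← pow_mul, ← pow_add, Nat.mod_add_div]
    rw [h1]
    exact mul_mem hn (inv_mem (pow_mem (Nat.find_spec hex).2 _))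
  obtain ⟨h, hh, he⟩ := Groth.L26.GaSub.exists_root_noGa G hG hM0 hM
  have hy : (x * h⁻¹) ^ M = 1 := by rw [mul_pow, inv_pow, he, mul_inv_cancel]
  refine ⟨x * h⁻¹, ?_, fun n => ⟨fun hn => ?_, fun hn => ?_⟩⟩
  · rw [mul_right_comm, mul_inv_cancel, _root_.one_mul]
    exact inv_mem hh
  · rw [show x = x * h⁻¹ * h from (inv_mul_cancel_right x h).symm, mul_pow, hn, _root_.one_mul]
    exact pow_mem hh n
  · obtain ⟨c, rfl⟩ := hdvd n hn
    rw [pow_mul, hy, one_pow]

end Groth.L26.SplitSemistable
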