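import Groth.Prelude.Def_SGA7IX
import Groth.Agent.L26.Neron.SplitSemistable
import Groth.Agent.L26.Neron.PseudoTate
import Groth.Agent.L26.Neron.PseudoNeron
import Groth.Agent.L26.Poincare.Product
import Groth.Agent.L26.AV.CharMin
import Groth.Agent.L18.NeronFlat
import Groth.Agent.L08.Cube.SliceFibre
import Mathlib.AlgebraicGeometry.ZariskisMainTheorem
import Mathlib.Algebra.Polynomial.Inductions

/-!
Homomorphisms of Néron models with semistable reduction are determined on the special identity component.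
-/

set_option autoImplicit false
set_option linter.style.haveILetI false
set_option linter.unusedSectionVars false
set_option synthInstance.maxHeartbeats 100000
set_option backward.isDefEq.respectTransparency.types false
set_option backward.isDefEq.respectTransparency false

universe u

open CategoryTheory CategoryTheory.Limits MonoidalCategory CartesianMonoidalCategory MonObj AlgebraicGeometry
open Groth.L26.CompGroup

noncomputable section

namespace Groth.L26.HomSpecial

/-- A morphism from a reduced scheme with image inside a section factors through it. -/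
theorem eq_comp_section {X Y S : Scheme.{u}} [IsReduced X] (g : Y ⟶ S) [IsSeparated g] (e : S ⟶ Y) (he : e ≫ g = 𝟙 S)
    (a : X ⟶ Y) (h : Set.range a ⊆ Set.range e) : a = (a ≫ g) ≫ e := by
  haveI : IsClosedImmersion e := by
    haveI : IsClosedImmersion (e ≫ g) := by rw [he]; infer_instance
    exact IsClosedImmersion.of_comp e g
  haveI : Surjective (pullback.fst a e) := ⟨fun x => by
    obtain ⟨s, hs⟩ := h ⟨x, rfl⟩
    obtain ⟨w, hw, -⟩ := Scheme.Pullback.exists_preimage_pullback (f := a) (g := e) x s hs.symm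
    exact ⟨w, hw⟩⟩
  haveI : IsIso (pullback.fst a e) := isIso_of_isClosedImmersion_of_surjective _
  have hc : a = (inv (pullback.fst a e) ≫ pullback.snd a e) ≫ e := by
    rw [Category.assoc, ← pullback.condition, IsIso.inv_hom_id_assoc]
  conv_rhs => rw [hc]
  rw [Category.assoc, Category.assoc, reassoc_of% he]
  exact hc.trans (Category.assoc _ _ _)

/-- A closed set with finitely many closed points in a Jacobson space is finite. -/
theorem finite_of_closedPoints {X : Type*} [TopologicalSpace X] [JacobsonSpace X] {s : Set X} (hs : IsClosed s)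
    {t : Set X} (ht : t.Finite) (hsub : s ∩ closedPoints X ⊆ t) : s.Finite := by
  have hfin : (s ∩ closedPoints X).Finite := ht.subset hsub
  have hcl : IsClosed (s ∩ closedPoints X) := by
    rw [show s ∩ closedPoints X = ⋃ p ∈ s ∩ closedPoints X, {p} by ext p; simp]
    exact hfin.isClosed_biUnion fun p hp => hp.2
  rw [← closure_inter_closedPoints hs, hcl.closure_eq]
  exact hfin

section Torsion

variable {Ω : Type u} [Field Ω] [IsAlgClosed Ω] (G : Over (Spec (CommRingCat.of Ω))) [GrpObj G] [IsCommMonObj G]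
  [Smooth G.hom] [QuasiCompact G.hom]

/-- Without copies of the additive group the unit component has finitely many points killed by a positive integer. -/
theorem finite_torsion_noGa
    (hG : ∀ j : Red.Ga (Spec (CommRingCat.of Ω)) ⟶ G, IsMonHom j → IsClosedImmersion j.left → False)
    {c : ℕ} (hc : 0 < c) :
    {z : 𝟙_ (Over (Spec (CommRingCat.of Ω))) ⟶ G | z ∈ unitSub G ∧ z ^ c = 1}.Finite := by
  haveI : LocallyOfFiniteType G.hom := inferInstance
  obtain ⟨N, gN, _, i, _, _, _, _, _, hl, hm⟩ := Groth.L26.CompGroup.exists_neutral_comm (G := G)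
  haveI : Smooth N.hom := by rw [← Over.w i]; infer_instance
  haveI : LocallyOfFiniteType N.hom := inferInstance
  haveI : Mono i := Over.mono_of_mono_left i
  haveI : JacobsonSpace N.left := LocallyOfFiniteType.jacobsonSpace N.hom
  haveI : IsReduced N.left := Groth.Agent.AV.isReduced_of_smooth_field N.hom
  let f : N ⟶ N := 𝟙 N ^ c
  haveI : IsMonHom f := Groth.L15.TorsLift.isMonHom_pow N c
  obtain ⟨C, gC, p, j, _, _, hpi, _, hps, _, _⟩ := Groth.L08.AbelianGrp.exists_image f
  have hr : Set.range f.left = Set.range j.left := by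
    rw [← hpi, Over.comp_left, Scheme.Hom.comp_base, TopCat.coe_comp, Set.range_comp,
      Set.range_eq_univ.2 p.left.surjective, Set.image_univ]
  have hcl : closedPoints N.left ⊆ Set.range f.left := by
    intro y hy
    obtain ⟨b, rfl⟩ := Groth.L08.Cube.exists_kpt y hy
    obtain ⟨h, hh, he⟩ := Groth.L26.GaSub.exists_root_noGa G hG hc (hm b)
    obtain ⟨h', rfl⟩ := hl h hh
    rw [← MonObj.pow_comp, cancel_mono] at he
    refine ⟨Groth.L08.Cube.kpt h', ?_⟩
    show (h' ≫ f).left _ = b.left _
    rw [MonObj.comp_pow, Category.comp_id, he]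
  haveI : Surjective f.left := ⟨fun y => by
    have : y ∈ Set.range f.left := by
      rw [hr]
      refine closure_minimal (hr ▸ hcl) j.left.isClosedEmbedding.isClosed_range ?_
      rw [closure_closedPoints]
      trivial
    exact this⟩
  haveI : Flat f.left := Groth.L08.FlatHom.flat_of_surjective N N f
  haveI := Groth.L18.NeronFlat.locallyQuasiFinite_of_flat_of_dim_eq f rfl
  haveI := Groth.L08.AbelianGrp.quasiCompact_left f
  have hfin := f.left.finite_preimage_singleton (Groth.L08.Cube.kpt (1 : 𝟙_ (Over (Spec (CommRingCat.of Ω))) ⟶ N))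
  refine (((hfin.preimage (Groth.L08.Cube.kpt_injective (A := N)).injOn)).image (· ≫ i)).subset ?_
  rintro z ⟨hz, hzc⟩
  obtain ⟨z', rfl⟩ := hl z hz
  refine ⟨z', ?_, rfl⟩
  show (z' ≫ f).left _ = (1 : 𝟙_ (Over (Spec (CommRingCat.of Ω))) ⟶ N).left _
  rw [← MonObj.pow_comp] at hzc
  rw [MonObj.comp_pow, Category.comp_id, show z' ^ c = 1 by rwa [← cancel_mono i, MonObj.one_comp]]

end Torsion

section QuasiFinite

variable {R Ω : Type u} [CommRing R] [IsLocalRing R] [Field Ω] [IsAlgClosed Ω]
  (θ : Spec (CommRingCat.of Ω) ⟶ Spec (CommRingCat.of R)) [IsIntegralHom θ]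
  (hθ : θ (IsLocalRing.closedPoint Ω) = IsLocalRing.closedPoint R)
  {N : Over (Spec (CommRingCat.of R))} [GrpObj N]

local notation "T" => 𝟙_ (Over (Spec (CommRingCat.of Ω)))

include hθ in
theorem range_eq : Set.range (pullback.fst N.hom θ) = SGA7.specialFibreSet R N := by
  rw [Scheme.Pullback.range_fst]
  ext w
  constructor
  · rintro ⟨s, hs⟩
    show N.hom w = _
    rw [← hs, Subsingleton.elim (α := PrimeSpectrum Ω) s (IsLocalRing.closedPoint Ω), hθ]
  · intro hw
    exact ⟨IsLocalRing.closedPoint Ω, hθ.trans hw.symm⟩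

include hθ in
/-- A point of the geometric special fibre lying over the unit is the unit. -/
theorem eq_one_of_apply [IsSeparated N.hom] (z : T ⟶ Red.bc θ N)
    (h : pullback.fst N.hom θ (z.left (IsLocalRing.closedPoint Ω)) = η[N].left (IsLocalRing.closedPoint R)) : z = 1 := by
  let e : Spec (CommRingCat.of R) ⟶ N.left := η[N].left
  have he : e ≫ N.hom = 𝟙 _ := Over.w η[N]
  have key : ∀ v : T ⟶ Red.bc θ N,
      pullback.fst N.hom θ (v.left (IsLocalRing.closedPoint Ω)) = η[N].left (IsLocalRing.closedPoint R) →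
        v.left ≫ pullback.fst N.hom θ = θ ≫ e := by
    intro v hv
    haveI : IsReduced (T).left := inferInstanceAs (IsReduced (Spec (CommRingCat.of Ω)))
    have h1 := eq_comp_section N.hom e he (v.left ≫ pullback.fst N.hom θ) (by
      rintro _ ⟨p, rfl⟩
      rw [Subsingleton.elim (α := PrimeSpectrum Ω) p (IsLocalRing.closedPoint Ω)]
      exact ⟨_, hv.symm⟩)
    have hw : (v.left ≫ pullback.fst N.hom θ) ≫ N.hom = θ := by
      rw [Category.assoc, pullback.condition]
      exact (Category.assoc _ _ _).symm.trans ((congrArg (· ≫ θ) (Over.w v)).trans (Category.id_comp θ))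
    rw [h1, hw]
  refine Over.OverMorphism.ext (pullback.hom_ext ?_ ((Over.w z).trans (Over.w _).symm))
  refine (key z h).trans ?_
  have e1 : (1 : T ⟶ Red.bc θ N) = Functor.LaxMonoidal.ε (Over.pullback θ) ≫ (Over.pullback θ).map η[N] := by
    rw [Hom.one_def, toUnit_unique (toUnit T) (𝟙 _), Category.id_comp]
    rfl
  let X := (Functor.LaxMonoidal.ε (Over.pullback θ)).left
  have h2 : ((Over.pullback θ).map η[N]).left ≫ pullback.fst N.hom θ = pullback.fst _ θ ≫ η[N].left :=
    pullback.lift_fst _ _ _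
  have h3 : X ≫ pullback.fst (𝟙_ (Over (Spec (CommRingCat.of R)))).hom θ = θ := by
    have h4 : X ≫ pullback.snd (𝟙_ (Over (Spec (CommRingCat.of R)))).hom θ = 𝟙 _ := Over.w _
    calc X ≫ pullback.fst (𝟙_ (Over (Spec (CommRingCat.of R)))).hom θ
        = (X ≫ pullback.fst (𝟙_ (Over (Spec (CommRingCat.of R)))).hom θ) ≫ (𝟙_ (Over (Spec (CommRingCat.of R)))).hom :=
          (Category.comp_id _).symm
      _ = (X ≫ pullback.snd (𝟙_ (Over (Spec (CommRingCat.of R)))).hom θ) ≫ θ := by
          rw [Category.assoc, pullback.condition, ← Category.assoc]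
      _ = θ := by rw [h4]; exact Category.id_comp θ
  rw [e1, Over.comp_left, Category.assoc, h2]
  exact ((Category.assoc _ _ _).symm.trans (congrArg (· ≫ η[N].left) h3)).symm

include hθ in
/-- The unit section is a quasi-finite point of an endomorphism which is a nonzero multiple on the points of the unit
component of the special fibre. -/
theorem quasiFiniteAt_unit [Smooth N.hom] [IsSeparated N.hom] [QuasiCompact N.hom] [IsCommMonObj N]
    (hG : ∀ j : Red.Ga (Spec (CommRingCat.of Ω)) ⟶ Red.bc θ N, IsMonHom j → IsClosedImmersion j.left → False)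
    (q : N ⟶ N) [LocallyOfFiniteType q.left] (hq1 : η[N] ≫ q = η[N]) {c : ℤ} (hc : c ≠ 0)
    (hq : ∀ z ∈ unitSub (Red.bc θ N), z ≫ (Over.pullback θ).map q = z ^ c) :
    q.left.QuasiFiniteAt (η[N].left (IsLocalRing.closedPoint R)) := by
  let G := Red.bc θ N
  haveI : Smooth G.hom := inferInstanceAs (Smooth (pullback.snd N.hom θ))
  haveI : QuasiCompact G.hom := inferInstanceAs (QuasiCompact (pullback.snd N.hom θ))
  haveI : LocallyOfFiniteType G.hom := inferInstance
  haveI : JacobsonSpace G.left := LocallyOfFiniteType.jacobsonSpace G.hom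
  let π : G.left ⟶ N.left := pullback.fst N.hom θ
  haveI : IsIntegralHom π := MorphismProperty.pullback_fst (P := @IsIntegralHom) _ _ ‹_›
  obtain ⟨G₀, _, _, i, _, _, _, _, _, hl, hm⟩ := Groth.L26.CompGroup.exists_neutral_comm (G := G)
  let D : Set G.left := Set.range i.left
  have hD : IsOpen D := i.left.isOpenEmbedding.isOpen_range
  have hDc : IsClosed D := i.left.isClosedEmbedding.isClosed_range
  haveI : LocallyOfFiniteType G₀.hom := by rw [← Over.w i]; infer_instance
  have hDpt : ∀ z : T ⟶ G, z.left (IsLocalRing.closedPoint Ω) ∈ D → z ∈ unitSub G := by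
    rintro z ⟨w, hw⟩
    have hwc : IsClosed ({w} : Set G₀.left) := by
      have hz : IsClosed ({z.left (IsLocalRing.closedPoint Ω)} : Set G.left) := Groth.L08.Cube.isClosed_kpt z
      rw [show ({w} : Set G₀.left) = i.left ⁻¹' {z.left (IsLocalRing.closedPoint Ω)} from Set.ext fun v => by
        rw [Set.mem_preimage, Set.mem_singleton_iff, Set.mem_singleton_iff, ← hw]
        exact ⟨fun h => h ▸ rfl, fun h => i.left.isOpenEmbedding.injective h⟩]
      exact hz.preimage i.left.continuous
    obtain ⟨w', rfl⟩ := Groth.L08.Cube.exists_kpt w hwc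
    rw [show z = w' ≫ i from Groth.L08.Cube.kpt_injective hw.symm]
    exact hm w'
  let e₀ : N.left := η[N].left (IsLocalRing.closedPoint R)
  have hπ1 : π ⁻¹' {e₀} ⊆ {(1 : T ⟶ G).left (IsLocalRing.closedPoint Ω)} := by
    haveI : IsClosedImmersion η[N].left := by
      haveI : IsClosedImmersion (η[N].left ≫ N.hom) := by
        rw [show η[N].left ≫ N.hom = 𝟙 _ from Over.w _]; infer_instance
      exact IsClosedImmersion.of_comp η[N].left N.hom
    have hs : IsClosed ({e₀} : Set N.left) := by
      rw [← Set.image_singleton]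
      exact η[N].left.isClosedMap _ (IsLocalRing.isClosed_singleton_closedPoint R)
    have hcl : IsClosed (π ⁻¹' {e₀}) := hs.preimage π.continuous
    rw [← closure_inter_closedPoints hcl]
    refine closure_minimal ?_ (Groth.L08.Cube.isClosed_kpt (1 : T ⟶ G))
    rintro p ⟨hp, hpc⟩
    obtain ⟨z, rfl⟩ := Groth.L08.Cube.exists_kpt p hpc
    rw [eq_one_of_apply θ hθ z hp]
    rfl
  let O : Set N.left := (π '' Dᶜ)ᶜ
  have hO : IsOpen O := (π.isClosedMap _ hD.isClosed_compl).isOpen_compl
  have heO : e₀ ∈ O := by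
    rintro ⟨p, hp, hpe⟩
    refine hp ?_
    rw [hπ1 hpe]
    obtain ⟨z', hz'⟩ := hl 1 (Subgroup.one_mem _)
    rw [← hz']
    exact ⟨_, rfl⟩
  let qb : G ⟶ G := (Over.pullback θ).map q
  have hqb : qb.left ≫ π = π ≫ q.left := pullback.lift_fst _ _ _
  let P : Set G.left := D ∩ qb.left ⁻¹' {(1 : T ⟶ G).left (IsLocalRing.closedPoint Ω)}
  have hPc : IsClosed P := hDc.inter ((Groth.L08.Cube.isClosed_kpt (1 : T ⟶ G)).preimage qb.left.continuous)
  have hPf : P.Finite := by
    refine finite_of_closedPoints hPc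
      ((finite_torsion_noGa G hG (c := c.natAbs) (Int.natAbs_pos.2 hc)).image Groth.L08.Cube.kpt) ?_
    rintro p ⟨⟨hpD, hpq⟩, hpc⟩
    obtain ⟨z, rfl⟩ := Groth.L08.Cube.exists_kpt p hpc
    have hzU := hDpt z hpD
    have h1 : z ≫ qb = 1 := Groth.L08.Cube.kpt_injective hpq
    rw [hq z hzU] at h1
    refine ⟨z, ⟨hzU, ?_⟩, rfl⟩
    rcases Int.natAbs_eq c with h | h
    · rw [h, zpow_natCast] at h1; exact h1
    · rw [h, zpow_neg, inv_eq_one, zpow_natCast] at h1; exact h1
  have hqe : q.left e₀ = e₀ := congrArg (fun φ : 𝟙_ (Over (Spec (CommRingCat.of R))) ⟶ N => φ.left (IsLocalRing.closedPoint R)) hq1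
  have hF : (O ∩ q.left ⁻¹' {e₀}).Finite := by
    refine (hPf.image π).subset ?_
    rintro y ⟨hyO, hy⟩
    obtain ⟨p, rfl⟩ : y ∈ Set.range π := by
      show y ∈ Set.range (pullback.fst N.hom θ)
      rw [range_eq θ hθ]
      show N.hom y = _
      rw [← Over.w q, Scheme.Hom.comp_apply, show q.left y = e₀ from hy, ← Scheme.Hom.comp_apply,
        show η[N].left ≫ N.hom = 𝟙 _ from Over.w _]
      rfl
    refine ⟨p, ⟨by_contra fun hp => hyO ⟨p, hp, rfl⟩, ?_⟩, rfl⟩
    refine hπ1 ?_
    show π (qb.left p) = e₀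
    exact ((congr(($hqb) p)).trans (Scheme.Hom.comp_apply π q.left p)).trans hy
  let V : N.left.Opens := ⟨O, hO⟩
  let g : V.toScheme ⟶ N.left := V.ι ≫ q.left
  have hg : (g ⁻¹' {g ⟨e₀, heO⟩}).Finite := by
    refine (hF.preimage (f := V.ι) V.ι.isOpenEmbedding.injective.injOn).subset fun v hv => ⟨v.2, ?_⟩
    exact (show g v = g ⟨e₀, heO⟩ from hv).trans hqe
  haveI : Finite (g.fiber (g ⟨e₀, heO⟩)) := (g.fiberHomeo (g ⟨e₀, heO⟩)).finite_iff.mpr hg
  haveI : LocallyOfFiniteType g := inferInstance
  haveI : LocallyOfFiniteType (g.fiberToSpecResidueField (g ⟨e₀, heO⟩)) := MorphismProperty.pullback_snd _ _ inferInstance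
  haveI : JacobsonSpace ↥(g.fiber (g ⟨e₀, heO⟩)) :=
    LocallyOfFiniteType.jacobsonSpace (g.fiberToSpecResidueField (g ⟨e₀, heO⟩))
  have h := Scheme.Hom.quasiFiniteAt_iff_isOpen_singleton_asFiber.mpr (isOpen_discrete ({g.asFiber ⟨e₀, heO⟩} : Set _))
  rwa [Scheme.Hom.quasiFiniteAt_comp_iff_of_isOpenImmersion] at h

end QuasiFinite

end Groth.L26.HomSpecial
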