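import Groth.Agent.L26.Neron.HomSpecial
import Groth.Agent.L26.AV.NonNoethHom

/-!
A homomorphism of semistable Néron models vanishing on the special identity component is trivial.
-/

set_option autoImplicit false
set_option linter.style.haveILetI false
set_option linter.unusedSectionVars false
set_option synthInstance.maxHeartbeats 100000
set_option maxHeartbeats 1000000
set_option backward.isDefEq.respectTransparency.types false
set_option backward.isDefEq.respectTransparency false

universe u

open CategoryTheory CategoryTheory.Limits MonoidalCategory CartesianMonoidalCategory MonObj AlgebraicGeometry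
open Groth.L26.CompGroup

noncomputable section

namespace Groth.L26.HomSpecial

section Points

variable {R Ω : Type u} [CommRing R] [IsLocalRing R] [Field Ω] [IsAlgClosed Ω]
  (θ : Spec (CommRingCat.of Ω) ⟶ Spec (CommRingCat.of R)) [IsIntegralHom θ]
  (hθ : θ (IsLocalRing.closedPoint Ω) = IsLocalRing.closedPoint R)
  {N N' : Over (Spec (CommRingCat.of R))} [GrpObj N] [GrpObj N'] [IsCommMonObj N]

include hθ in
/-- A homomorphism constant on the special identity component kills the points of the geometric identity component. -/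
theorem comp_map_eq_one [Smooth N.hom] [QuasiCompact N.hom] [IsSeparated N'.hom] (u : N ⟶ N') [IsMonHom u]
    (hu : ∀ x ∈ SGA7.secComp R N η[N], ∀ y ∈ SGA7.secComp R N η[N], u.left.base x = u.left.base y)
    (z : 𝟙_ (Over (Spec (CommRingCat.of Ω))) ⟶ Red.bc θ N) (hz : z ∈ unitSub (Red.bc θ N)) :
    z ≫ (Over.pullback θ).map u = 1 := by
  haveI : Smooth (Red.bc θ N).hom := inferInstanceAs (Smooth (pullback.snd N.hom θ))
  haveI : QuasiCompact (Red.bc θ N).hom := inferInstanceAs (QuasiCompact (pullback.snd N.hom θ))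
  haveI : LocallyOfFiniteType (Red.bc θ N).hom := inferInstance
  let π : (Red.bc θ N).left ⟶ N.left := pullback.fst N.hom θ
  obtain ⟨G₀, _, _, i, _, _, _, _, _, hl, -⟩ := Groth.L26.CompGroup.exists_neutral_comm (G := Red.bc θ N)
  let S := Set.range (fun w => π (i.left w))
  have hS : _root_.IsPreconnected S := isPreconnected_range (π.continuous.comp i.left.continuous)
  have hSs : S ⊆ SGA7.specialFibreSet R N := by
    rintro _ ⟨w, rfl⟩
    rw [← range_eq θ hθ]
    exact ⟨i.left w, rfl⟩
  have hmem : ∀ v ∈ unitSub (Red.bc θ N), π (v.left (IsLocalRing.closedPoint Ω)) ∈ S := by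
    intro v hv
    obtain ⟨v', rfl⟩ := hl v hv
    exact ⟨_, rfl⟩
  let e₀ : N.left := η[N].left (IsLocalRing.closedPoint R)
  have he₀ : π ((1 : 𝟙_ (Over (Spec (CommRingCat.of Ω))) ⟶ Red.bc θ N).left (IsLocalRing.closedPoint Ω)) = e₀ := by
    have e1 : (1 : 𝟙_ (Over (Spec (CommRingCat.of Ω))) ⟶ Red.bc θ N) = η[Red.bc θ N] := by
      rw [Hom.one_def, toUnit_unique (toUnit _) (𝟙 _), Category.id_comp]
    have hX : ∀ t : (𝟙_ (Over (Spec (CommRingCat.of R)))).left, t ∈ ((𝟙_ (Over (Spec (CommRingCat.of R)))).hom ⁻¹' {IsLocalRing.closedPoint R}) →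
        η[N].left t = e₀ := fun t ht => congrArg η[N].left ht
    have h2 : ((Over.pullback θ).map η[N]).left ≫ pullback.fst N.hom θ = pullback.fst _ θ ≫ η[N].left :=
      pullback.lift_fst _ _ _
    have h3 : η[Red.bc θ N] = Functor.LaxMonoidal.ε (Over.pullback θ) ≫ (Over.pullback θ).map η[N] := rfl
    rw [e1, h3]
    let p := (Functor.LaxMonoidal.ε (Over.pullback θ)).left (IsLocalRing.closedPoint Ω)
    refine (congr(($h2) p)).trans (hX _ ?_)
    show (pullback.fst _ θ ≫ (𝟙_ (Over (Spec (CommRingCat.of R)))).hom) p = _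
    rw [pullback.condition]
    exact (congrArg θ (Subsingleton.elim (α := PrimeSpectrum Ω) _ (IsLocalRing.closedPoint Ω))).trans hθ
  have hcomp : S ⊆ SGA7.secComp R N η[N] :=
    hS.subset_connectedComponentIn ⟨_, (hmem 1 (Subgroup.one_mem _)).choose_spec.trans he₀⟩ hSs
  refine eq_one_of_apply θ hθ _ ?_
  have hw : ((Over.pullback θ).map u).left ≫ pullback.fst N'.hom θ = π ≫ u.left := pullback.lift_fst _ _ _
  refine (congr(($hw) (z.left (IsLocalRing.closedPoint Ω)))).trans ?_
  show u.left (π _) = _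
  refine (hu _ (hcomp (hmem z hz)) e₀ (mem_connectedComponentIn ?_)).trans ?_
  · show (η[N].left ≫ N.hom) _ = _
    rw [show η[N].left ≫ N.hom = 𝟙 _ from Over.w _]
    rfl
  · exact congrArg (fun φ : 𝟙_ (Over (Spec (CommRingCat.of R))) ⟶ N' => φ.left (IsLocalRing.closedPoint R))
      (IsMonHom.one_hom u)

end Points

section Main

variable {R K : Type u} [CommRing R] [IsDomain R] [IsDiscreteValuationRing R] [Field K] [Algebra R K]
  [IsFractionRing R K]

local notation "Fg" => Over.pullback (Spec.map (CommRingCat.ofHom (algebraMap R K)))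

/-- A morphism killed by an endomorphism for which the unit section is quasi-finite is trivial. -/
theorem eq_one_of_comp_eq_one {N : Over (Spec (CommRingCat.of R))} [GrpObj N] [IsSeparated N.hom]
    (q : N ⟶ N) [LocallyOfFiniteType q.left] (hq1 : η[N] ≫ q = η[N])
    (hqf : q.left.QuasiFiniteAt (η[N].left (IsLocalRing.closedPoint R)))
    {X : Over (Spec (CommRingCat.of K))} [IsReduced X.left] [PreconnectedSpace X.left]
    (t : 𝟙_ (Over (Spec (CommRingCat.of K))) ⟶ X) (f : X ⟶ (Fg).obj N) (ht : t ≫ f = 1)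
    (h : f ≫ (Fg).map q = 1) : f = 1 := by
  let e := Spec.map (CommRingCat.ofHom (algebraMap R K))
  let π : ((Fg).obj N).left ⟶ N.left := pullback.fst N.hom e
  let p₀ : N.left := η[N].left (e (IsLocalRing.closedPoint K))
  have hη : η[N].left ≫ N.hom = 𝟙 _ := Over.w _
  have hone : ∀ {Y : Over (Spec (CommRingCat.of K))}, (1 : Y ⟶ (Fg).obj N).left ≫ π = (Y.hom ≫ e) ≫ η[N].left := by
    intro Y
    have h1 : (1 : Y ⟶ (Fg).obj N) = toUnit Y ≫ Functor.LaxMonoidal.ε (Fg) ≫ (Fg).map η[N] := rfl
    have h2 : ((Fg).map η[N]).left ≫ π = pullback.fst _ e ≫ η[N].left := pullback.lift_fst _ _ _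
    let X := (toUnit Y ≫ Functor.LaxMonoidal.ε (Fg)).left
    have h3 : X ≫ pullback.fst (𝟙_ (Over (Spec (CommRingCat.of R)))).hom e = Y.hom ≫ e := by
      calc X ≫ pullback.fst (𝟙_ (Over (Spec (CommRingCat.of R)))).hom e
          = (X ≫ pullback.fst (𝟙_ (Over (Spec (CommRingCat.of R)))).hom e) ≫ (𝟙_ (Over (Spec (CommRingCat.of R)))).hom :=
            (Category.comp_id _).symm
        _ = (X ≫ pullback.snd (𝟙_ (Over (Spec (CommRingCat.of R)))).hom e) ≫ e := by
            rw [Category.assoc, pullback.condition, ← Category.assoc]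
        _ = Y.hom ≫ e := congrArg (· ≫ e) (Over.w (toUnit Y ≫ Functor.LaxMonoidal.ε (Fg)))
    rw [h1, ← Category.assoc, Over.comp_left, Category.assoc, h2, ← Category.assoc]
    exact congrArg (· ≫ η[N].left) h3
  haveI : Nonempty X.left := ⟨t.left (IsLocalRing.closedPoint K)⟩
  have hz : ∀ v : X.left, q.left (π (f.left v)) = p₀ := fun v => by
    have h1 : f.left ≫ π ≫ q.left = (X.hom ≫ e) ≫ η[N].left := by
      rw [show π ≫ q.left = ((Fg).map q).left ≫ π from (pullback.lift_fst _ _ _).symm, ← Category.assoc,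
        ← Over.comp_left, h, hone]
    refine (congr(($h1) v)).trans ?_
    exact congrArg (fun s => η[N].left (e s)) (Subsingleton.elim (α := PrimeSpectrum K) _ (IsLocalRing.closedPoint K))
  have hp₀ : π (f.left (t.left (IsLocalRing.closedPoint K))) = p₀ := by
    refine (congr(($((congrArg (fun φ => CommaMorphism.left φ ≫ π) ht).trans hone)) (IsLocalRing.closedPoint K))).trans ?_
    exact congrArg (fun s => η[N].left (e s)) (Subsingleton.elim (α := PrimeSpectrum K) _ (IsLocalRing.closedPoint K))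
  have hqp : q.left p₀ = p₀ := congrArg (fun φ : 𝟙_ (Over (Spec (CommRingCat.of R))) ⟶ N =>
    φ.left (e (IsLocalRing.closedPoint K))) hq1
  have hqf' : q.left.QuasiFiniteAt p₀ := Scheme.Hom.mem_quasiFiniteLocus.1
    (((IsLocalRing.specializes_closedPoint (e (IsLocalRing.closedPoint K))).map η[N].left.continuous).mem_open
      q.left.quasiFiniteLocus.2 (Scheme.Hom.mem_quasiFiniteLocus.2 hqf))
  let Φ := q.left.fiberHomeo (q.left p₀)
  let ψ : X.left → q.left.fiber (q.left p₀) := fun v => Φ.symm ⟨π (f.left v), (hz v).trans hqp.symm⟩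
  have hψ : Continuous ψ := Φ.symm.continuous.comp
    ((π.continuous.comp f.left.continuous).subtype_mk _)
  have hcl := hqf'.isClopen_singleton_asFiber
  have hsub : Set.range ψ ⊆ {q.left.asFiber p₀} := (isPreconnected_range hψ).subset_isClopen hcl
    ⟨ψ (t.left (IsLocalRing.closedPoint K)), ⟨_, rfl⟩, congrArg Φ.symm (Subtype.ext hp₀)⟩
  have hr : Set.range (f.left ≫ π) ⊆ Set.range η[N].left := by
    rintro _ ⟨v, rfl⟩
    refine ⟨e (IsLocalRing.closedPoint K), ?_⟩
    have := congrArg Φ (hsub ⟨v, rfl⟩)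
    simp only [ψ, Homeomorph.apply_symm_apply] at this
    exact (congrArg Subtype.val (this.trans (Φ.apply_symm_apply ⟨p₀, rfl⟩))).symm
  refine Over.OverMorphism.ext (pullback.hom_ext ?_ ((Over.w f).trans (Over.w _).symm))
  refine (eq_comp_section N.hom η[N].left hη (f.left ≫ π) hr).trans (Eq.trans ?_ (hone (Y := X)).symm)
  congr 1
  rw [Category.assoc, pullback.condition, ← Category.assoc]
  exact congrArg (· ≫ e) (Over.w f)

/-- A homomorphism of semistable Néron models which is constant on the special identity component is trivial. -/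
theorem eq_one_of_const {Ω : Type u} [Field Ω] [IsAlgClosed Ω]
    (θ : Spec (CommRingCat.of Ω) ⟶ Spec (CommRingCat.of R)) [IsIntegralHom θ]
    (hθ : θ (IsLocalRing.closedPoint Ω) = IsLocalRing.closedPoint R)
    (N N' : Over (Spec (CommRingCat.of R))) [GrpObj N] [GrpObj N'] [IsCommMonObj N] [IsCommMonObj N']
    (hN : SGA7.IsNeron R K N) (hN' : SGA7.IsNeron R K N')
    [IsProper ((Fg).obj N).hom] [GeometricallyIntegral ((Fg).obj N).hom]
    [IsProper ((Fg).obj N').hom] [GeometricallyIntegral ((Fg).obj N').hom]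
    (hG : ∀ j : Red.Ga (Spec (CommRingCat.of Ω)) ⟶ Red.bc θ N, IsMonHom j → IsClosedImmersion j.left → False)
    (u : N ⟶ N') [IsMonHom u]
    (hu : ∀ x ∈ SGA7.secComp R N η[N], ∀ y ∈ SGA7.secComp R N η[N], u.left.base x = u.left.base y) : u = 1 := by
  haveI : Smooth N.hom := hN.1
  haveI : IsSeparated N.hom := hN.2.1
  haveI : QuasiCompact N.hom := hN.2.2.1
  haveI : IsSeparated N'.hom := hN'.2.1
  haveI : Smooth N'.hom := hN'.1
  let A := (Fg).obj N
  let B := (Fg).obj N'
  haveI : IsCommMonObj A := inferInstanceAs (IsCommMonObj ((Fg).obj N))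
  haveI : IsCommMonObj B := inferInstanceAs (IsCommMonObj ((Fg).obj N'))
  let uK : A ⟶ B := (Fg).map u
  haveI : IsMonHom uK := inferInstanceAs (IsMonHom ((Fg).map u))
  by_contra hne
  have huK : uK ≠ 1 := fun h => hne (Groth.L26.PseudoNeron.eq_of_map hN' hN.1 (by rw [Functor.map_one]; exact h))
  obtain ⟨g, hg, hne'⟩ := Groth.Agent.Poincare.Product.exists_comp_ne_one uK huK
  haveI := hg
  obtain ⟨L, hamp⟩ := Groth.Agent.AV.Degree.exists_isAmple A
  obtain ⟨x, hx⟩ := Groth.Agent.Poincare.Adjoint.exists_not_nilpotent L hamp (EndAV.End.of (uK ≫ g)) fun h0 =>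
    hne' (by simpa using congrArg EndAV.End.toHom h0)
  set a : EndAV.End A := x * EndAV.End.of (uK ≫ g) with ha
  refine hx ?_
  haveI : Module.Finite ℤ (EndAV.End A) := Groth.Agent.AV.CharMin.free_end.2
  haveI : Algebra.IsIntegral ℤ (EndAV.End A) := Algebra.IsIntegral.of_finite ℤ _
  have hint : IsIntegral ℤ a := Algebra.IsIntegral.isIntegral a
  obtain ⟨Q, hP, hQ⟩ := Polynomial.exists_eq_pow_rootMultiplicity_mul_and_not_dvd (minpoly ℤ a) (minpoly.ne_zero hint) 0
  rw [Polynomial.C_0, sub_zero] at hP hQ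
  rw [Polynomial.X_dvd_iff] at hQ
  let r := Polynomial.rootMultiplicity 0 (minpoly ℤ a)
  let S : EndAV.End A := Polynomial.aeval a Q.divX
  have hQa : Polynomial.aeval a Q = S * a + (Q.coeff 0 : EndAV.End A) := by
    conv_lhs => rw [← Polynomial.divX_mul_X_add Q]
    rw [map_add, map_mul, Polynomial.aeval_X, Polynomial.aeval_C, eq_intCast]
  have hzero : Polynomial.aeval a Q * a ^ r = 0 := by
    have h := minpoly.aeval ℤ a
    rw [hP, mul_comm, map_mul, map_pow, Polynomial.aeval_X] at h
    exact h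
  -- extend the cofactor to the Néron model
  let hK : B ⟶ A := g ≫ x.toHom ≫ S.toHom
  obtain ⟨h, hh⟩ := (hN.2.2.2 N' hN'.1).2 hK
  change (Fg).map h = hK at hh
  have hU : Smooth (𝟙_ (Over (Spec (CommRingCat.of R)))).hom := inferInstanceAs (Smooth (𝟙 (Spec (CommRingCat.of R))))
  have hh1 : η[N'] ≫ h = η[N] := by
    refine Groth.L26.PseudoNeron.eq_of_map hN hU ?_
    rw [Functor.map_comp, hh]
    rw [← cancel_epi (Functor.LaxMonoidal.ε (Fg)), ← Category.assoc]
    exact IsMonHom.one_hom hK
  let c := Q.coeff 0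
  let q : N ⟶ N := (𝟙 N) ^ c * (u ≫ h)
  haveI : LocallyOfFiniteType q.left := by
    haveI : LocallyOfFiniteType (q.left ≫ N.hom) := by rw [Over.w]; infer_instance
    exact locallyOfFiniteType_of_comp q.left N.hom
  have hone : η[N] = (1 : 𝟙_ (Over (Spec (CommRingCat.of R))) ⟶ N) := by
    rw [Hom.one_def, toUnit_unique (toUnit _) (𝟙 _), Category.id_comp]
  have hq1 : η[N] ≫ q = η[N] := by
    rw [MonObj.comp_mul, GrpObj.comp_zpow, Category.comp_id, IsMonHom.one_hom_assoc u, hh1, hone, one_zpow,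
      _root_.one_mul]
  have hqK : (Fg).map q = (Polynomial.aeval a Q).toHom := by
    rw [hQa, EndAV.End.toHom_add, EndAV.End.toHom_intCast, EndAV.End.toHom_mul, ha, EndAV.End.toHom_mul,
      EndAV.End.toHom_of, mul_comm (_ ≫ _)]
    show (Fg).map ((𝟙 N) ^ c * (u ≫ h)) = _
    rw [Functor.map_mul, Functor.map_comp, hh, show (Fg).map ((𝟙 N) ^ c) = ((Fg).map (𝟙 N)) ^ c from
      map_zpow (Fg).homMonoidHom (𝟙 N) c, CategoryTheory.Functor.map_id]
    congr 1
  have hqf : q.left.QuasiFiniteAt (η[N].left (IsLocalRing.closedPoint R)) := by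
    refine quasiFiniteAt_unit θ hθ hG q hq1 (c := c) hQ fun z hz => ?_
    rw [Functor.map_mul, MonObj.comp_mul, Functor.map_comp, reassoc_of% (comp_map_eq_one θ hθ u hu z hz),
      show (Over.pullback θ).map ((𝟙 N) ^ c) = ((Over.pullback θ).map (𝟙 N)) ^ c from
        map_zpow (Over.pullback θ).homMonoidHom (𝟙 N) c,
      CategoryTheory.Functor.map_id, GrpObj.comp_zpow, Category.comp_id]
    have e : (1 : 𝟙_ (Over (Spec (CommRingCat.of Ω))) ⟶ Red.bc θ N') ≫ (Over.pullback θ).map h = 1 := by
      rw [Hom.one_def, Hom.one_def, Category.assoc]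
      congr 1
      show (Functor.LaxMonoidal.ε (Over.pullback θ) ≫ (Over.pullback θ).map η[N']) ≫ _ =
        Functor.LaxMonoidal.ε (Over.pullback θ) ≫ (Over.pullback θ).map η[N]
      rw [Category.assoc, ← Functor.map_comp, hh1]
    rw [e, _root_.mul_one]
  haveI : IsIntegral A.left := GeometricallyIntegral.isIntegral_of_subsingleton A.hom
  refine ⟨r, EndAV.End.ext ?_⟩
  refine eq_one_of_comp_eq_one q hq1 hqf (1 : 𝟙_ (Over (Spec (CommRingCat.of K))) ⟶ A) _ (MonObj.one_comp _) ?_
  rw [hqK]
  exact congrArg EndAV.End.toHom hzero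

end Main

end Groth.L26.HomSpecial

namespace Groth.L26.HomSpecial

/-- The geometric point over a closed point is integral. -/
theorem isIntegralHom_geomPt {S : Scheme.{u}} {s : S} (hs : IsClosed ({s} : Set S)) : IsIntegralHom (Red.geomPt s) := by
  haveI : IsClosedImmersion (S.fromSpecResidueField s) := isClosed_singleton_iff_isClosedImmersion.1 hs
  haveI : IsIntegralHom (Spec.map (CommRingCat.ofHom (algebraMap (S.residueField s) (AlgebraicClosure (S.residueField s))))) :=
    IsIntegralHom.SpecMap_iff.2 fun x => Algebra.IsIntegral.isIntegral x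
  infer_instance

/-- The case of the geometric closed point. -/
theorem eq_one_of_fibre {R K : Type u} [CommRing R] [IsDomain R] [IsDiscreteValuationRing R] [Field K] [Algebra R K]
    [IsFractionRing R K] (s : ↥(Spec (CommRingCat.of R))) (hs : s = IsLocalRing.closedPoint R)
    (N N' : Over (Spec (CommRingCat.of R))) [GrpObj N] [GrpObj N'] [IsCommMonObj N] [IsCommMonObj N']
    (hN : SGA7.IsNeron R K N) (hN' : SGA7.IsNeron R K N')
    [IsProper ((SGA7.genFib R K).obj N).hom] [GeometricallyIntegral ((SGA7.genFib R K).obj N).hom]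
    [IsProper ((SGA7.genFib R K).obj N').hom] [GeometricallyIntegral ((SGA7.genFib R K).obj N').hom]
    (hG : SGA7.FibreUnipotentRankZero s N) (u : N ⟶ N') [IsMonHom u]
    (hu : ∀ x ∈ SGA7.secComp R N η[N], ∀ y ∈ SGA7.secComp R N η[N], u.left.base x = u.left.base y) : u = 1 := by
  have hi : IsIntegralHom (Red.geomPt s) := isIntegralHom_geomPt (by rw [hs]; exact IsLocalRing.isClosed_singleton_closedPoint R)
  exact @eq_one_of_const R K _ _ _ _ _ _ _ _ _ (Red.geomPt s) hi
    ((Groth.L26.SplitSemistable.geomPt_apply s _).trans hs) N N' _ _ _ _ hN hN' _ _ _ _ hG u _ hu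

end Groth.L26.HomSpecial
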