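import Groth.Agent.L08.SmallNorm.Stage
import Groth.Agent.S4121
import Groth.Agent.L25.MonoClosed.Main
import Groth.Agent.L19.SpecSub.IsogenyProps
import Groth.Agent.L08.Borel.CentBorel
import Groth.Agent.L08.Borel.MaxTori
import Groth.Agent.L24.BorelPair.GeomField
import Groth.Agent.L24.BorelPair.GeomTorus

/-!
Pseudo-abelian varieties have no subtori over an algebraic closure, and become extensions of abelian varieties
by affine groups over a finite purely inseparable extension.
-/

set_option autoImplicit false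
set_option backward.isDefEq.respectTransparency.types false
set_option linter.style.haveILetI false
set_option linter.unusedSectionVars false

universe u

open CategoryTheory CategoryTheory.Limits MonoidalCategory CartesianMonoidalCategory MonObj GrpObj AlgebraicGeometry
open Groth.L08 Groth.L27.FEtField Groth.L08.Chev Groth.L08.SmallNorm

noncomputable section

namespace Groth.L26.PseudoChev

/-- Absence of subtori passes along an isomorphism of groups. -/
theorem noSubtorus_of_mono {K : Type u} [Field K] {G H : Over (Spec (CommRingCat.of K))} [GrpObj G] [GrpObj H]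
    (f : H ⟶ G) [IsMonHom f] [Mono f] (h : Red.HasNoSubtorus K G) : Red.HasNoSubtorus K H := by
  intro T _ j _ _ hT
  haveI : Mono (j ≫ f) := mono_comp j f
  exact h T (j ≫ f) hT

/-- Absence of subtori descends along an isomorphism of bases. -/
theorem noSubtorus_of_bc_iso {K K' : Type u} [Field K] [Field K'] (e : Spec (CommRingCat.of K') ⟶ Spec (CommRingCat.of K))
    [IsIso e] (U : Over (Spec (CommRingCat.of K))) [GrpObj U] (h : Red.HasNoSubtorus K' (Red.bc e U)) :
    Red.HasNoSubtorus K U := by
  intro T _ j _ _ hT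
  haveI := Groth.L25.MonoClosed.isMonHom_pullbackMap e j
  have h1 : IsIso (pullback.snd T.hom e) :=
    h (Red.bc e T) ((Over.pullback e).map j) (Groth.L25.Locus.isTorus_bc hT e)
  show IsIso T.hom
  rw [show T.hom = inv (pullback.fst T.hom e) ≫ pullback.snd T.hom e ≫ e by
    rw [← pullback.condition, IsIso.inv_hom_id_assoc]]
  infer_instance

variable {k : Type u} [Field k] (P : Over (Spec (CommRingCat.of k))) [GrpObj P]

/-- A pseudo-abelian variety has no subtorus over any algebraic closure. -/
theorem noSubtorus_algClosure [Smooth P.hom] [QuasiCompact P.hom]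
    (hP : ∀ (H : Over (Spec (CommRingCat.of k))) [GrpObj H] (j : H ⟶ P) [IsMonHom j],
      IsClosedImmersion j.left → Smooth H.hom → ConnectedSpace ↥H.left → IsAffine H.left → IsIso η[H])
    (Ω : Type u) [Field Ω] [Algebra k Ω] [IsAlgClosure k Ω] :
    Red.HasNoSubtorus Ω (Red.bc (AbVar.ext k Ω) P) := by
  obtain ⟨T, gT, i, hT⟩ := Groth.Agent.S4121.result k P
  haveI := hT.1; haveI := hT.2.1
  haveI : LocallyOfFiniteType P.hom := inferInstance
  haveI : IsSeparated P.hom := AbelianGrp.isSeparated P
  obtain ⟨hTs, hTc⟩ := Groth.L25.Locus.smooth_connected_torus hT.2.2.1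
  have hTa := Groth.L24.BorelPair.isAffine_of_isTorus hT.2.2.1
  have hcl : IsClosedImmersion i.left :=
    Groth.L25.MonoClosed.isClosedImmersion_of_mono (Groth.L25.Locus.isMultTypeFT_of_isTorus hT.2.2.1) i
  haveI : IsIso (η[T] : 𝟙_ _ ⟶ T) := hP T i hcl hTs hTc hTa
  have h1 : i = 1 := by
    rw [← cancel_epi (η[T] : 𝟙_ _ ⟶ T), IsMonHom.one_hom, MonObj.comp_one, Hom.one_def,
      toUnit_unique (toUnit (𝟙_ _)) (𝟙 _), Category.id_comp]
  let s := Groth.L08.Borel.pt0 k
  have hgeo : Red.HasNoSubtorus (AlgebraicClosure ((Spec (CommRingCat.of k)).residueField s))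
      (Red.geomFibre s P) :=
    Groth.L19.SpecSub.hasNoSubtorus_of_maxTorus_one (Groth.L08.Borel.isMaxTorus_geomFibre hT s) (by
      rw [h1]; exact map_one ((Over.pullback (Red.geomPt s)).homMonoidHom))
  letI := Groth.L24.BorelPair.geomAlg k
  haveI : IsAlgClosure k (Groth.L08.Borel.geomField s) := Groth.L24.BorelPair.isAlgClosure k
  let e := IsAlgClosure.equiv k Ω (Groth.L08.Borel.geomField s)
  let σ : Spec (CommRingCat.of (Groth.L08.Borel.geomField s)) ⟶ Spec (CommRingCat.of Ω) :=
    Spec.map (CommRingCat.ofHom (e : Ω →ₐ[k] Groth.L08.Borel.geomField s).toRingHom)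
  haveI : IsIso σ := by
    haveI : IsIso (CommRingCat.ofHom (e : Ω →ₐ[k] Groth.L08.Borel.geomField s).toRingHom) :=
      inferInstanceAs (IsIso e.toRingEquiv.toCommRingCatIso.hom)
    infer_instance
  have hσ : σ ≫ AbVar.ext k Ω = Red.geomPt s := by
    rw [← Groth.L24.BorelPair.pt_hom k]
    show Spec.map _ ≫ Spec.map _ = Spec.map _
    rw [← Spec.map_comp, ← CommRingCat.ofHom_comp, AlgHom.toRingHom_eq_coe, AlgHom.comp_algebraMap]
  obtain ⟨φ, _, _, -⟩ := exists_comparison_gen σ (AbVar.ext k Ω) (Red.geomPt s) hσ P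
  exact noSubtorus_of_bc_iso σ _ (noSubtorus_of_mono φ hgeo)

/-- Chevalley's sequence descends to a finite stage of an algebraic extension with perfect field. -/
theorem exists_chevalley_stage {K : Type u} [Field K] [Algebra k K] [Algebra.IsAlgebraic k K] [PerfectField K]
    [Smooth P.hom] [QuasiCompact P.hom] [ConnectedSpace ↥P.left] :
    ∃ (S : FSub k K) (L A : Over (Spec (CommRingCat.of S.1))) (_ : GrpObj L) (_ : GrpObj A)
      (l : L ⟶ Red.bc (sp S) P) (q : Red.bc (sp S) P ⟶ A),
      IsMonHom l ∧ IsMonHom q ∧ IsClosedImmersion l.left ∧ AlgGrp.IsKernel l q ∧ Surjective q.left ∧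
      Smooth L.hom ∧ ConnectedSpace ↥L.left ∧ IsAffine L.left ∧ IsProper A.hom ∧ Smooth A.hom ∧
      ConnectedSpace ↥A.left := by
  haveI : LocallyOfFiniteType P.hom := inferInstance
  let PK := Red.bc (AbVar.ext k K) P
  haveI : Smooth PK.hom := Groth.L08.ChevPerf.smooth_bc P
  haveI : QuasiCompact PK.hom := inferInstanceAs (QuasiCompact (pullback.snd P.hom (AbVar.ext k K)))
  haveI : ConnectedSpace PK.left := Groth.L08.ChevPerf.connectedSpace_bc P
  obtain ⟨N, gN, i, Q, gQ, q, _, _, _, _, _, hN, _, _, _, _, sq, _, _, _⟩ := Groth.L08.ChevPerf.exists_chevalley PK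
  obtain ⟨S, hS⟩ := Groth.L08.SmallNorm.exists_stage P.hom i.left.ker
  let t := AbVar.ext S.1 K
  let F := Over.pullback t
  let G' := Red.bc (sp S) P
  obtain ⟨φ, _, _, hfst⟩ := exists_comparison_gen t (sp S) (AbVar.ext k K) (ext_comp_sp S) P
  obtain ⟨L, l, f, g, _, hf, hg⟩ := exists_descend_stage i φ hfst hS
  haveI : Mono φ := inferInstance
  let i' : N ⟶ Red.bc t G' := i ≫ CategoryTheory.inv φ
  have hi' : i' ≫ φ = i := by simp [i']
  haveI : IsMonHom i' := by
    haveI : IsMonHom (i' ≫ φ) := by rw [hi']; infer_instance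
    exact isMonHom_of_comp i' φ
  have hi'n : AlgGrp.IsNormalHom i' := fun T a b => by
    obtain ⟨c, hc'⟩ := hN T (a ≫ φ) b
    refine ⟨c, ?_⟩
    rw [← cancel_mono φ, MonObj.mul_comp, MonObj.mul_comp, GrpObj.inv_comp, Category.assoc b, hi',
      Category.assoc c, hi']
    exact hc'
  have hf' : f ≫ i' = F.map l := by rw [← cancel_mono φ, Category.assoc, hi']; exact hf
  have hg' : g ≫ F.map l = i' := by rw [← cancel_mono φ, Category.assoc, hi']; exact hg
  obtain ⟨gL, _, hnL⟩ := exists_grp_descend i' hi'n l f g hf' hg'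
  haveI : Mono l := Over.mono_of_mono_left l
  haveI : Mono i := Over.mono_of_mono_left i
  haveI : Mono i' := by
    haveI : Mono (i' ≫ φ) := by rw [hi']; infer_instance
    exact mono_of_mono i' φ
  haveI : Mono (F.map l) := inferInstance
  haveI hfi : IsIso f := ⟨g, by rw [← cancel_mono (F.map l), Category.assoc, hg', hf', Category.id_comp],
    by rw [← cancel_mono i', Category.assoc, hf', hg', Category.id_comp]⟩
  haveI : IsIso f.left := inferInstanceAs (IsIso ((Over.forget _).map f))
  haveI : IsAffine (Red.bc t L).left := IsAffine.of_isIso f.left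
  haveI : IsAffineHom L.hom := Groth.L08.ChevPerf.descends (K := K) @IsAffineHom L inferInstance
  haveI : IsAffine L.left := isAffine_of_isAffineHom L.hom
  haveI : Smooth (Red.bc t L).hom := by
    rw [← Over.w f]; infer_instance
  haveI : Smooth L.hom := Groth.L08.ChevPerf.descends (K := K) @Smooth L inferInstance
  haveI : ConnectedSpace ↥(pullback L.hom t) :=
    (CategoryTheory.inv f.left).surjective.connectedSpace (CategoryTheory.inv f.left).continuous
  haveI : Surjective t := Groth.L08.ChevPerf.ext_props.1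
  haveI : Surjective (pullback.fst L.hom t) := inferInstance
  haveI : ConnectedSpace L.left :=
    (pullback.fst L.hom t).surjective.connectedSpace (pullback.fst L.hom t).continuous
  haveI : LocallyOfFiniteType L.hom := inferInstance
  haveI : Smooth G'.hom := inferInstanceAs (Smooth (pullback.snd P.hom (sp S)))
  haveI : QuasiCompact G'.hom := inferInstanceAs (QuasiCompact (pullback.snd P.hom (sp S)))
  haveI : LocallyOfFiniteType G'.hom := inferInstance
  haveI : ConnectedSpace G'.left := Groth.L08.ChevPerf.connectedSpace_bc P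
  obtain ⟨Y, p₀, _, _, _, sqp⟩ := GQuot.exists_quotient_field l
  obtain ⟨Q', q', _, _, _, sqq, hlft, -, hqc, hsm, -⟩ := GQuot.exists_struct p₀ sqp
  obtain ⟨gQ', _, hker⟩ := GQuot.exists_grp hnL q' sqq
  haveI := hlft inferInstance
  haveI := hqc inferInstance
  haveI := hsm inferInstance
  haveI : ConnectedSpace Q'.left := q'.left.surjective.connectedSpace q'.left.continuous
  let q₁ : Red.bc t G' ⟶ Q := φ ≫ q
  haveI : IsMonHom q₁ := inferInstance
  haveI : IsIso φ.left := inferInstanceAs (IsIso ((Over.forget _).map φ))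
  haveI : Surjective q₁.left := inferInstanceAs (Surjective (φ.left ≫ q.left))
  haveI : Flat q₁.left := inferInstanceAs (Flat (φ.left ≫ q.left))
  haveI : LocallyOfFinitePresentation q₁.left := inferInstanceAs (LocallyOfFinitePresentation (φ.left ≫ q.left))
  have sq₁ : AlgGrp.IsKernel i' q₁ := by
    refine IsPullback.mk' ?_ (fun T a b e _ => (cancel_mono i').1 e) (fun T a b e => ?_)
    · simp only [q₁, ← Category.assoc, hi']; exact sq.w
    · obtain ⟨c, hc', -⟩ := sq.exists_lift (a ≫ φ) b (by rw [Category.assoc]; exact e)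
      exact ⟨c, by rw [← cancel_mono φ, Category.assoc, hi', hc'], toUnit_unique _ _⟩
  have h1 : i' ≫ F.map q' = 1 := by
    rw [← hg', Category.assoc, ← F.map_comp, hker.w, ← Hom.one_def, Functor.map_one, MonObj.comp_one]
  obtain ⟨ψ, _, hψ⟩ := Groth.L08.ChevPerf.exists_hom_desc i' q₁ sq₁ (F.map q') h1
  haveI : Surjective (F.map q').left :=
    MorphismProperty.of_isPullback (P := @Surjective) (Groth.L08.Albanese.isPullback_bc_map q').flip ‹_›
  haveI : Surjective ψ.left := by
    haveI : Surjective (q₁.left ≫ ψ.left) := by rw [← Over.comp_left, hψ]; infer_instance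
    exact Surjective.of_comp q₁.left ψ.left
  haveI : IsSeparated (Red.bc t Q').hom := AbelianGrp.isSeparated _
  haveI : LocallyOfFiniteType (Red.bc t Q').hom :=
    inferInstanceAs (LocallyOfFiniteType (pullback.snd Q'.hom t))
  have hQ : IsProper (Red.bc t Q').hom := Groth.L08.Chev.isProper_of_surjective ψ
  haveI : MorphismProperty.DescendsAlong @IsProper
      (@Surjective ⊓ @Flat ⊓ @QuasiCompact : MorphismProperty Scheme.{u}) := Groth.Agent.S0086.result
  haveI : IsProper Q'.hom := Groth.L08.ChevPerf.descends (K := K) @IsProper Q' hQ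
  exact ⟨S, L, Q', gL, gQ', l, q', inferInstance, inferInstance, inferInstance, hker, inferInstance, inferInstance,
    inferInstance, inferInstance, inferInstance, inferInstance, inferInstance⟩

end Groth.L26.PseudoChev
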