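/-
Flat algebras over a domain: fibre dimensions are bounded by the generic one.
-/
import Mathlib.RingTheory.Flat.EquationalCriterion
import Mathlib.RingTheory.QuasiFinite.Basic
import Mathlib.LinearAlgebra.Matrix.Nondegenerate
import Mathlib.LinearAlgebra.Matrix.ToLin
import Mathlib.RingTheory.Localization.Module

universe u v

open TensorProduct

namespace Groth.Agent.NeronL

variable {R : Type u} [CommRing R] [IsDomain R] {A : Type v} [CommRing A] [Algebra R A] [Module.Flat R A]

/-- Elements independent in a fibre are independent over the base. -/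
theorem linearIndependent_of_fiber (P : Ideal R) [P.IsPrime] {n : ℕ} (a : Fin n → A)
    (h : LinearIndependent P.ResidueField (fun i => (1 : P.ResidueField) ⊗ₜ[R] a i)) :
    LinearIndependent R a := by
  rw [Fintype.linearIndependent_iff]
  intro r hr
  obtain ⟨m, M, y, hy, hM⟩ := Module.Flat.isTrivialRelation_of_sum_smul_eq_zero hr
  let Mb : Fin n → (Fin m → P.ResidueField) := fun i j => algebraMap R P.ResidueField (M i j)
  let L : (Fin m → P.ResidueField) →ₗ[P.ResidueField] P.ResidueField ⊗[R] A :=
    Fintype.linearCombination P.ResidueField (fun j => (1 : P.ResidueField) ⊗ₜ[R] y j)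
  have hMb : LinearIndependent P.ResidueField Mb := by
    refine LinearIndependent.of_comp L ?_
    convert h with i
    simp only [Function.comp_apply, L, Fintype.linearCombination_apply, Mb, hy i, tmul_sum, tmul_smul]
    exact Finset.sum_congr rfl fun j _ => algebraMap_smul P.ResidueField (M i j) _
  obtain ⟨G, hG⟩ := (Fintype.linearCombination P.ResidueField Mb).exists_leftInverse_of_injective
    (LinearMap.ker_eq_bot.2 (linearIndependent_iff_injective_fintypeLinearCombination.1 hMb))
  let b : Fin m × Fin n → P.ResidueField := fun p => G (Pi.single p.1 1) p.2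
  obtain ⟨s, hs⟩ := IsLocalization.exist_integer_multiples_of_finite (nonZeroDivisors (R ⧸ P)) b
  have hb : ∀ p, ∃ x : R, algebraMap R P.ResidueField x = algebraMap (R ⧸ P) P.ResidueField s.1 * b p := fun p => by
    obtain ⟨q, hq⟩ := hs p
    obtain ⟨x, rfl⟩ := Ideal.Quotient.mk_surjective q
    exact ⟨x, by rw [IsScalarTower.algebraMap_apply R (R ⧸ P) P.ResidueField, Ideal.Quotient.algebraMap_eq, hq, Algebra.smul_def]⟩
  choose B hB using hb
  let N : Matrix (Fin n) (Fin n) R := Matrix.of M * Matrix.of (fun j i => B (j, i))
  set c : P.ResidueField := algebraMap (R ⧸ P) P.ResidueField s.1 with hc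
  have hGMb : ∀ i i', ∑ j, Mb i j * b (j, i') = (1 : Matrix (Fin n) (Fin n) P.ResidueField) i i' := by
    intro i i'
    have h1 := LinearMap.congr_fun hG (Pi.single i 1)
    rw [LinearMap.comp_apply, Fintype.linearCombination_apply_single, one_smul, LinearMap.id_apply] at h1
    rw [Matrix.one_apply, eq_comm]
    calc (if i = i' then 1 else 0) = G (Mb i) i' := by rw [h1]; simp [Pi.single_apply, eq_comm]
      _ = _ := by
        conv_lhs => rw [pi_eq_sum_univ' (Mb i)]
        simp only [map_sum, map_smul, Finset.sum_apply, Pi.smul_apply, smul_eq_mul, b]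
  have hN : (algebraMap R P.ResidueField).mapMatrix N = c • (1 : Matrix (Fin n) (Fin n) P.ResidueField) := by
    ext i i'
    simp only [RingHom.mapMatrix_apply, Matrix.map_apply, N, Matrix.mul_apply, Matrix.of_apply, map_sum, map_mul, hB,
      Matrix.smul_apply, smul_eq_mul, ← hGMb i i', Finset.mul_sum, Mb]
    exact Finset.sum_congr rfl fun j _ => by ring
  have hdet : N.det ≠ 0 := by
    intro h0
    have := (algebraMap R P.ResidueField).map_det N
    rw [h0, map_zero, hN, Matrix.det_smul, Matrix.det_one, mul_one] at this
    have hc0 : c ≠ 0 := fun e => nonZeroDivisors.coe_ne_zero s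
      ((FaithfulSMul.algebraMap_injective (R ⧸ P) P.ResidueField) (by rw [map_zero]; exact e))
    exact pow_ne_zero _ hc0 this.symm
  have : Matrix.vecMul r N = 0 := by
    rw [← Matrix.vecMul_vecMul, show Matrix.vecMul r (Matrix.of M) = 0 from funext fun j => hM j, Matrix.zero_vecMul]
  exact fun i => congrFun (Matrix.eq_zero_of_vecMul_eq_zero hdet this) i

/-- If the generic fibre is finite, so is every fibre. -/
theorem quasiFinite_of_flat (K : Type*) [Field K] [Algebra R K] [IsFractionRing R K]
    [Module.Finite K (K ⊗[R] A)] : Algebra.QuasiFinite R A := by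
  refine ⟨fun P _ => ?_⟩
  let v : A → P.Fiber A := fun a => (1 : P.ResidueField) ⊗ₜ[R] a
  obtain ⟨b, hb, hspan, hind⟩ := exists_linearIndependent P.ResidueField (Set.range v)
  have htop : Submodule.span P.ResidueField (Set.range v) = ⊤ := by
    rw [eq_top_iff]
    intro x hx0
    clear hx0
    induction x using TensorProduct.induction_on with
    | zero => exact zero_mem _
    | tmul c a =>
      rw [show c ⊗ₜ[R] a = c • v a by simp [v, TensorProduct.smul_tmul']]
      exact Submodule.smul_mem _ _ (Submodule.subset_span ⟨a, rfl⟩)
    | add x y hx hy => exact add_mem hx hy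
  have hfin : b.Finite := by
    by_contra hinf
    let f : Fin (Module.finrank K (K ⊗[R] A) + 1) → b := fun i => Set.Infinite.natEmbedding b hinf i
    have hf : Function.Injective f := (Set.Infinite.natEmbedding b hinf).injective.comp Fin.val_injective
    have ha : ∀ i, ∃ a, v a = f i := fun i => hb (f i).2
    choose a ha using ha
    have hi : LinearIndependent P.ResidueField (fun i => v (a i)) := by
      simp only [ha]; exact hind.comp f hf
    have hR := linearIndependent_of_fiber P a hi
    let g := (TensorProduct.mk R K A 1)
    have hg : Function.Injective g := by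
      have := Module.Flat.rTensor_preserves_injective_linearMap (M := A) (Algebra.linearMap R K) (IsFractionRing.injective R K)
      have e : g = ((Algebra.linearMap R K).rTensor A).comp (TensorProduct.lid R A).symm.toLinearMap := by
        ext x; simp [g]
      rw [e, LinearMap.coe_comp]
      exact this.comp (TensorProduct.lid R A).symm.injective
    have hK := (LinearIndependent.iff_fractionRing R K).1 (hR.map' g (LinearMap.ker_eq_bot.2 hg))
    have := hK.fintype_card_le_finrank
    simp at this
  exact ⟨⟨hfin.toFinset, by rw [hfin.coe_toFinset, hspan, htop]⟩⟩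

end Groth.Agent.NeronL
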