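/-
Stalks of smooth schemes over a regular base are regular.
-/
import Groth.Agent.L26.Weil.Basic

set_option autoImplicit false
set_option linter.style.haveILetI false

universe u

open CategoryTheory AlgebraicGeometry

namespace Groth.Agent.NeronL.RegularBase

theorem regular_stalk {X S : Scheme.{u}} (f : X ⟶ S) [Smooth f] [IsLocallyNoetherian S]
    (hS : ∀ s : S, IsRegularLocalRing (S.presheaf.stalk s)) (x : X) :
    IsRegularLocalRing (X.presheaf.stalk x) := by
  obtain ⟨W, hW, hxW, -⟩ := exists_isAffineOpen_mem_and_subset (TopologicalSpace.Opens.mem_top (f x))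
  haveI : IsNoetherianRing Γ(S, W) := IsLocallyNoetherian.component_noetherian ⟨W, hW⟩
  haveI : IsRegularRing Γ(S, W) := by
    refine { isRegularLocalRing_localization := fun p hp => ?_ }
    letI := TopCat.Presheaf.algebra_section_stalk S.presheaf ⟨hW.fromSpec ⟨p, hp⟩, hW.range_fromSpec.le ⟨_, rfl⟩⟩
    haveI : IsLocalization p.primeCompl (S.presheaf.stalk (hW.fromSpec ⟨p, hp⟩)) :=
      hW.isLocalization_stalk' ⟨p, hp⟩ (hW.range_fromSpec.le ⟨_, rfl⟩)
    haveI := hS (hW.fromSpec ⟨p, hp⟩)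
    exact IsRegularLocalRing.of_ringEquiv (IsLocalization.algEquiv p.primeCompl
      (S.presheaf.stalk (hW.fromSpec ⟨p, hp⟩)) (Localization.AtPrime p)).toRingEquiv
  have h := Groth.L26.Weil.regular_stalk (f ∣_ W ≫ hW.isoSpec.hom) ⟨x, hxW⟩
  haveI := h
  exact IsRegularLocalRing.of_ringEquiv (asIso ((f ⁻¹ᵁ W).ι.stalkMap ⟨x, hxW⟩)).commRingCatIsoToRingEquiv.symm

theorem isDomain_stalk {X S : Scheme.{u}} (f : X ⟶ S) [Smooth f] [IsLocallyNoetherian S]
    (hS : ∀ s : S, IsRegularLocalRing (S.presheaf.stalk s)) (x : X) :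
    IsDomain (X.presheaf.stalk x) := by
  haveI := regular_stalk f hS x
  exact Groth.L01.isDomain_of_regular _

end Groth.Agent.NeronL.RegularBase
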