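import Groth.Prelude.Def_SGA7IX
import Groth.Agent.L26.Neron.Torsion
import Mathlib.AlgebraicGeometry.ValuativeCriterion
import Mathlib.RingTheory.Valuation.ValuationSubring

/-!
Torsion points of order invertible on the base of a proper smooth group scheme are unramified.
-/

set_option autoImplicit false
set_option linter.style.haveILetI false
set_option backward.isDefEq.respectTransparency.types false
set_option backward.isDefEq.respectTransparency false

universe u

open CategoryTheory CategoryTheory.Limits MonoidalCategory CartesianMonoidalCategory MonObj AlgebraicGeometry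

noncomputable section

namespace Groth.L26.Unramified

variable {R K Ω : Type u} [CommRing R] [IsLocalRing R] [Field K] [Algebra R K] [Field Ω] [Algebra K Ω]

/-- A torsion point of order invertible on the base which extends over the valuation ring is fixed by inertia. -/
theorem galAct_eq_of_lift (W : ValuationSubring Ω) (hW : SGA7.LiesOver K R W) (B : Over (Spec (CommRingCat.of R))) [GrpObj B]
    [IsCommMonObj B] [Smooth B.hom] [IsSeparated B.hom] {n : ℕ} (hn : IsUnit (n : R)) (σ : Ω ≃ₐ[K] Ω)
    (hσ : SGA7.IsInertia W σ)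
    (y : SGA7.Pts Ω (Red.bc (Spec.map (CommRingCat.ofHom (algebraMap R K))) B)) (hy : y ^ n = 1)
    (l : Spec (CommRingCat.of W) ⟶ B.left)
    (hl₁ : Spec.map (CommRingCat.ofHom W.subtype) ≫ l =
      y.left ≫ pullback.fst B.hom (Spec.map (CommRingCat.ofHom (algebraMap R K))))
    (hl₂ : l ≫ B.hom = Spec.map (CommRingCat.ofHom
      (RingHom.codRestrict ((algebraMap K Ω).comp (algebraMap R K)) W.toSubring hW.1))) :
    SGA7.galAct σ y = y := by
  let e := Spec.map (CommRingCat.ofHom (algebraMap R K))
  let F := Over.pullback e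
  let ρ₀ : R →+* Ω := (algebraMap K Ω).comp (algebraMap R K)
  let ρ : R →+* W := RingHom.codRestrict ρ₀ W.toSubring hW.1
  let σW : W →+* W := RingHom.codRestrict ((σ : Ω →+* Ω).comp W.subtype) W.toSubring fun a => (hσ a a.2).1
  let U : Over (Spec (CommRingCat.of R)) :=
    Over.mk (Spec.map (CommRingCat.ofHom (algebraMap K Ω)) ≫ e)
  let T : Over (Spec (CommRingCat.of R)) := Over.mk (Spec.map (CommRingCat.ofHom ρ))
  let κ := IsLocalRing.ResidueField W
  let Z : Over (Spec (CommRingCat.of R)) :=
    Over.mk (Spec.map (CommRingCat.ofHom (IsLocalRing.residue W)) ≫ Spec.map (CommRingCat.ofHom ρ))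
  let z : Z ⟶ T := Over.homMk (Spec.map (CommRingCat.ofHom (IsLocalRing.residue W))) rfl
  let j : U ⟶ T := Over.homMk (Spec.map (CommRingCat.ofHom W.subtype)) (by
    show Spec.map _ ≫ Spec.map _ = Spec.map _ ≫ Spec.map _
    rw [← Spec.map_comp, ← Spec.map_comp]
    rfl)
  let s : T ⟶ T := Over.homMk (Spec.map (CommRingCat.ofHom σW)) (by
    show Spec.map _ ≫ Spec.map _ = Spec.map _
    rw [← Spec.map_comp]
    congr 1
    ext r
    exact σ.commutes (algebraMap R K r))
  let G : SGA7.Pts Ω (F.obj B) → (U ⟶ B) := fun v => Over.homMk (v.left ≫ pullback.fst B.hom e) (by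
    show (v.left ≫ pullback.fst B.hom e) ≫ B.hom = _ ≫ e
    rw [Category.assoc, pullback.condition, ← Category.assoc]
    exact congrArg (· ≫ e) (Over.w v))
  have hGinj : ∀ v v', G v = G v' → v = v' := fun v v' h => Over.OverMorphism.ext (pullback.hom_ext
    (congrArg CommaMorphism.left h) ((Over.w v).trans (Over.w v').symm))
  have hGcomp : ∀ v (φ : B ⟶ B), G (v ≫ F.map φ) = G v ≫ φ := fun v φ => Over.OverMorphism.ext (by
    show (v.left ≫ (F.map φ).left) ≫ pullback.fst B.hom e = (v.left ≫ pullback.fst B.hom e) ≫ φ.left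
    rw [Category.assoc, Category.assoc]
    exact congrArg (v.left ≫ ·) (pullback.lift_fst _ _ _))
  let t : T ⟶ B := Over.homMk l hl₂
  have ht : j ≫ t = G y := Over.OverMorphism.ext hl₁
  haveI : IsDominant j.left := by
    constructor
    show DenseRange (Spec.map (CommRingCat.ofHom W.subtype))
    refine (PrimeSpectrum.denseRange_comap_iff_ker_le_nilRadical W.subtype).2 ?_
    rw [(RingHom.injective_iff_ker_eq_bot _).1 Subtype.val_injective]
    exact bot_le
  haveI : IsReduced T.left := inferInstanceAs (IsReduced (Spec (CommRingCat.of W)))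
  have hn1 : t ^ n = 1 := by
    have h1 : G y ^ n = 1 := by
      have hp : G y ≫ (𝟙 B) ^ n = G y ≫ (1 : B ⟶ B) := by
        rw [← hGcomp, ← hGcomp]
        congr 1
        rw [Functor.map_one, MonObj.comp_one,
          show F.map ((𝟙 B) ^ n) = (F.map (𝟙 B)) ^ n from F.homMonoidHom.map_pow (𝟙 B) n,
          CategoryTheory.Functor.map_id, MonObj.comp_pow, Category.comp_id, hy]
      rwa [MonObj.comp_pow, Category.comp_id, MonObj.comp_one] at hp
    refine Over.OverMorphism.ext (ext_of_isDominant_of_isSeparated B.hom ((Over.w _).trans (Over.w _).symm) j.left ?_)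
    rw [← Over.comp_left, ← Over.comp_left, MonObj.comp_pow, MonObj.comp_one, ht, h1]
  have hzs : z ≫ s = z := by
    refine Over.OverMorphism.ext ?_
    show Spec.map _ ≫ Spec.map _ = Spec.map _
    rw [← Spec.map_comp]
    congr 1
    ext a
    show IsLocalRing.residue W (σW a) = IsLocalRing.residue W a
    rw [← sub_eq_zero, ← map_sub, IsLocalRing.residue_eq_zero_iff, ValuationSubring.valuation_lt_one_iff]
    exact (hσ a a.2).2
  haveI : ConnectedSpace T.left := inferInstanceAs (ConnectedSpace (PrimeSpectrum W))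
  haveI : Nonempty Z.left := inferInstanceAs (Nonempty (PrimeSpectrum κ))
  have hst : s ≫ t = t := by
    refine Groth.Agent.Neron.Torsion.eq_of_torsion (N := n) ?_ _ _ ?_ hn1 z (by rw [reassoc_of% hzs])
    · intro x
      obtain ⟨φ, -⟩ := Spec.map_surjective ((Spec (CommRingCat.of R)).fromSpecResidueField x)
      rw [← map_natCast φ.hom]
      exact (hn.map φ.hom).ne_zero
    · rw [← MonObj.comp_pow, hn1, MonObj.comp_one]
  refine hGinj _ _ ?_
  rw [← ht]
  refine Over.OverMorphism.ext ?_
  have h2 : (SGA7.specAut σ).left ≫ j.left = j.left ≫ s.left := by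
    show Spec.map _ ≫ Spec.map _ = Spec.map _ ≫ Spec.map _
    rw [← Spec.map_comp, ← Spec.map_comp]
    rfl
  show ((SGA7.specAut σ).left ≫ y.left) ≫ pullback.fst B.hom e = j.left ≫ t.left
  have h3 : y.left ≫ pullback.fst B.hom e = j.left ≫ t.left := (congrArg CommaMorphism.left ht).symm
  rw [Category.assoc, h3, reassoc_of% h2, ← Over.comp_left, hst]

theorem galAct_eq (W : ValuationSubring Ω) (hW : SGA7.LiesOver K R W) (B : Over (Spec (CommRingCat.of R))) [GrpObj B]
    [IsCommMonObj B] [Smooth B.hom] [IsProper B.hom] {n : ℕ} (hn : IsUnit (n : R)) (σ : Ω ≃ₐ[K] Ω)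
    (hσ : SGA7.IsInertia W σ)
    (y : SGA7.Pts Ω (Red.bc (Spec.map (CommRingCat.ofHom (algebraMap R K))) B)) (hy : y ^ n = 1) :
    SGA7.galAct σ y = y := by
  have hval : ValuativeCriterion.Existence B.hom := by
    have h : UniversallyClosed B.hom := inferInstance
    rw [UniversallyClosed.eq_valuativeCriterion] at h
    exact h.1
  let e := Spec.map (CommRingCat.ofHom (algebraMap R K))
  let ρ : R →+* W := RingHom.codRestrict ((algebraMap K Ω).comp (algebraMap R K)) W.toSubring hW.1
  have h0 : (y.left ≫ pullback.fst B.hom e) ≫ B.hom =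
      Spec.map (CommRingCat.ofHom W.subtype) ≫ Spec.map (CommRingCat.ofHom ρ) := by
    rw [Category.assoc, pullback.condition, ← Category.assoc, ← Spec.map_comp]
    exact (congrArg (· ≫ e) (Over.w y)).trans (Spec.map_comp _ _).symm
  let S : ValuativeCommSq B.hom :=
    { R := W, K := Ω, i₁ := y.left ≫ pullback.fst B.hom e, i₂ := Spec.map (CommRingCat.ofHom ρ), commSq := ⟨h0⟩ }
  obtain ⟨⟨l⟩⟩ := hval S
  exact galAct_eq_of_lift W hW B hn σ hσ y hy l.l l.fac_left l.fac_right

end Groth.L26.Unramified
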