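import Groth.Prelude.Def_SGA7IX
import Groth.Agent.L26.Neron.Unramified
import Groth.Agent.L27.OlivierMain
import Groth.Agent.L05.InertiaEtale.Main
import Groth.Agent.S17447
import Mathlib.FieldTheory.Galois.Profinite
import Mathlib.FieldTheory.IsSepClosed
import Mathlib.RingTheory.DedekindDomain.IntegralClosure
import Mathlib.RingTheory.DedekindDomain.PID
import Mathlib.RingTheory.Localization.BaseChange

/-!
Inertia invariants among torsion points of a Néron model are the points which specialise.
-/

set_option autoImplicit false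
set_option linter.style.haveILetI false
set_option backward.isDefEq.respectTransparency.types false
set_option backward.isDefEq.respectTransparency false

universe u

open CategoryTheory CategoryTheory.Limits MonoidalCategory CartesianMonoidalCategory MonObj AlgebraicGeometry

noncomputable section

namespace Groth.L26.Specialise

/-! ### The finite part lifts points over the valuation ring -/

/-- A point with values in a valuation ring's fraction field which specialises into the closed fibre of a
quasi-finite separated scheme over a henselian local ring extends over the valuation ring. -/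
theorem exists_lift_of_specializes {R V L : Type u} [CommRing R] [HenselianLocalRing R] [CommRing V] [IsDomain V]
    [ValuationRing V] [Field L] [Algebra V L] [IsFractionRing V L] (ρ : R →+* V) {Z : Scheme.{u}}
    (g : Z ⟶ Spec (CommRingCat.of R)) [LocallyQuasiFinite g] [LocallyOfFiniteType g] [QuasiCompact g] [IsSeparated g]
    (a : Spec (CommRingCat.of L) ⟶ Z)
    (ha : a ≫ g = Spec.map (CommRingCat.ofHom (algebraMap V L)) ≫ Spec.map (CommRingCat.ofHom ρ))
    (z : Z) (hz : g z = IsLocalRing.closedPoint R) (hs : a (IsLocalRing.closedPoint L) ⤳ z) :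
    ∃ l : Spec (CommRingCat.of V) ⟶ Z,
      Spec.map (CommRingCat.ofHom (algebraMap V L)) ≫ l = a ∧ l ≫ g = Spec.map (CommRingCat.ofHom ρ) := by
  obtain ⟨W, ⟨-, hfin, hW⟩, -⟩ := Groth.Agent.S17447.result R g
  haveI := hfin
  have hr : Set.range a ⊆ Set.range W.ι := by
    rintro _ ⟨p, rfl⟩
    rw [Scheme.Opens.range_ι, Subsingleton.elim p (IsLocalRing.closedPoint L)]
    exact hs.mem_open W.2 (hW z hz)
  let a' := IsOpenImmersion.lift W.ι a hr
  have ha' : a' ≫ W.ι = a := IsOpenImmersion.lift_fac _ _ _
  have hval : ValuativeCriterion.Existence (W.ι ≫ g) := by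
    have h : UniversallyClosed (W.ι ≫ g) := inferInstance
    rw [UniversallyClosed.eq_valuativeCriterion] at h
    exact h.1
  let S : ValuativeCommSq (W.ι ≫ g) :=
    { R := V, K := L, i₁ := a', i₂ := Spec.map (CommRingCat.ofHom ρ), commSq := ⟨by rw [reassoc_of% ha', ha]⟩ }
  obtain ⟨⟨l⟩⟩ := hval S
  exact ⟨l.l ≫ W.ι, by rw [← Category.assoc]; exact (congrArg (· ≫ W.ι) l.fac_left).trans ha',
    by rw [Category.assoc]; exact l.fac_right⟩

/-! ### Field of definition of a point -/

section Def

variable {K Ω : Type u} [Field K] [Field Ω] [Algebra K Ω]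

/-- A point with values in an algebraic extension is defined over a finite subextension fixed by its stabiliser. -/
theorem exists_field_def [Algebra.IsAlgebraic K Ω] (A : Over (Spec (CommRingCat.of K))) [LocallyOfFiniteType A.hom]
    (x : SGA7.Pts Ω A) :
    ∃ (E : IntermediateField K Ω) (_ : FiniteDimensional K E) (y : Spec (CommRingCat.of E) ⟶ A.left),
      y ≫ A.hom = Spec.map (CommRingCat.ofHom (algebraMap K E)) ∧
      Spec.map (CommRingCat.ofHom (algebraMap E Ω)) ≫ y = x.left ∧
      ∀ σ : Ω ≃ₐ[K] Ω, SGA7.galAct σ x = x → σ ∈ E.fixingSubgroup := by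
  obtain ⟨U, hU, hxU, -⟩ := exists_isAffineOpen_mem_and_subset (X := A.left)
    (x := x.left (IsLocalRing.closedPoint Ω)) (U := ⊤) trivial
  haveI : IsAffine U := hU
  haveI : LocallyOfFiniteType (U.ι ≫ A.hom) := inferInstance
  let i : Spec Γ(U, ⊤) ⟶ A.left := (Scheme.isoSpec (U : Scheme)).inv ≫ U.ι
  let ψ : CommRingCat.of K ⟶ Γ(U, ⊤) := Spec.preimage (i ≫ A.hom)
  have hψ : Spec.map ψ = i ≫ A.hom := Spec.map_preimage _
  haveI : IsOpenImmersion i := inferInstance
  have hr : Set.range x.left ⊆ Set.range i := by
    rintro _ ⟨p, rfl⟩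
    rw [show p = IsLocalRing.closedPoint Ω from Subsingleton.elim (α := PrimeSpectrum Ω) _ _]
    refine ⟨(Scheme.isoSpec (U : Scheme)).hom ⟨_, hxU⟩, ?_⟩
    show ((Scheme.isoSpec (U : Scheme)).hom ≫ i) ⟨_, hxU⟩ = _
    simp [i]
  let φ : Γ(U, ⊤) ⟶ CommRingCat.of Ω := Spec.preimage (IsOpenImmersion.lift i x.left hr)
  have hφ : Spec.map φ ≫ i = x.left := by rw [Spec.map_preimage, IsOpenImmersion.lift_fac]
  have hφK : ψ ≫ φ = CommRingCat.ofHom (algebraMap K Ω) := Spec.map_injective (by
    rw [Spec.map_comp, hψ, reassoc_of% hφ]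
    exact Over.w x)
  letI : Algebra K Γ(U, ⊤) := ψ.hom.toAlgebra
  haveI : Algebra.FiniteType K Γ(U, ⊤) := by
    have h : LocallyOfFiniteType (Spec.map ψ) := by rw [hψ]; infer_instance
    rw [HasRingHomProperty.Spec_iff (P := @LocallyOfFiniteType)] at h
    exact h
  let φA : Γ(U, ⊤) →ₐ[K] Ω := { toRingHom := φ.hom, commutes' := fun r => congr($hφK r) }
  obtain ⟨s, hs⟩ := (inferInstance : Algebra.FiniteType K Γ(U, ⊤)).out
  classical
  let E := IntermediateField.adjoin K ((s.image φA : Finset Ω) : Set Ω)
  haveI : FiniteDimensional K E := IntermediateField.finiteDimensional_adjoin fun y _ => Algebra.IsIntegral.isIntegral y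
  have hle : ⊤ ≤ E.toSubalgebra.comap φA := by
    rw [← hs]
    refine Algebra.adjoin_le fun b hb => ?_
    exact IntermediateField.subset_adjoin K _ (Finset.mem_coe.2 (Finset.mem_image_of_mem _ hb))
  let φE : Γ(U, ⊤) →ₐ[K] E.toSubalgebra := φA.codRestrict E.toSubalgebra fun b => hle trivial
  let φE' : Γ(U, ⊤) →+* E := φE.toRingHom
  refine ⟨E, inferInstance, Spec.map (CommRingCat.ofHom φE') ≫ i, ?_, ?_, fun σ hσ => ?_⟩
  · rw [Category.assoc, ← hψ, ← Spec.map_comp]
    congr 1
    ext r
    exact congr($hφK r)
  · rw [← Category.assoc, ← Spec.map_comp]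
    exact hφ
  · have h : φ ≫ CommRingCat.ofHom (σ : Ω →+* Ω) = φ := Spec.map_injective (by
      rw [← cancel_mono i, Spec.map_comp, Category.assoc, hφ]
      exact congrArg CommaMorphism.left hσ)
    have h1 : E ≤ IntermediateField.fixedField (Subgroup.zpowers σ) := by
      refine IntermediateField.adjoin_le_iff.2 fun y hy => ?_
      obtain ⟨b, -, rfl⟩ := Finset.mem_image.1 (Finset.mem_coe.1 hy)
      rw [SetLike.mem_coe, IntermediateField.mem_fixedField_iff]
      intro τ hτ
      obtain ⟨n, rfl⟩ := Subgroup.mem_zpowers_iff.1 hτ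
      have h2 : σ ∈ MulAction.stabilizer (Ω ≃ₐ[K] Ω) (φA b) := congr($h b)
      exact Subgroup.zpow_mem _ h2 n
    exact (IntermediateField.le_iff_le _ _).1 h1 (Subgroup.mem_zpowers σ)

/-- The stabiliser of a point contains the automorphisms fixing a field of definition. -/
theorem galAct_eq_of_mem {A : Over (Spec (CommRingCat.of K))} (x : SGA7.Pts Ω A) (E : IntermediateField K Ω)
    (y : Spec (CommRingCat.of E) ⟶ A.left) (hy : Spec.map (CommRingCat.ofHom (algebraMap E Ω)) ≫ y = x.left)
    {σ : Ω ≃ₐ[K] Ω} (hσ : σ ∈ E.fixingSubgroup) : SGA7.galAct σ x = x := by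
  refine Over.OverMorphism.ext ?_
  show Spec.map _ ≫ x.left = x.left
  rw [← hy, ← Category.assoc, ← Spec.map_comp]
  congr 2
  ext a
  exact (IntermediateField.mem_fixingSubgroup_iff _ _).1 hσ a a.2

end Def

/-! ### Valuation rings over a henselian discrete valuation ring -/

section Val

variable {R K Ω : Type u} [CommRing R] [IsDomain R] [IsDiscreteValuationRing R] [HenselianLocalRing R]
  [Field K] [Algebra R K] [IsFractionRing R K] [Field Ω] [Algebra K Ω] [Algebra R Ω] [IsScalarTower R K Ω]
  [IsSepClosure K Ω]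

theorem valuationRing_integralClosure (E : IntermediateField K Ω) [FiniteDimensional K E] :
    ValuationRing (integralClosure R E) := by
  haveI : Algebra.IsSeparable K Ω := IsSepClosure.separable
  haveI : Algebra.IsSeparable K E := Algebra.isSeparable_tower_bot_of_isSeparable K E Ω
  haveI : IsDedekindDomain (integralClosure R E) := IsIntegralClosure.isDedekindDomain R K E _
  haveI : IsLocalRing (integralClosure R E) := Groth.L27.Olivier.isLocalRing_integralClosure R E
  haveI : IsPrincipalIdealRing (integralClosure R E) := IsPrincipalIdealRing.of_finite_maximals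
    ((Set.finite_singleton (IsLocalRing.maximalIdeal (integralClosure R E))).subset
      fun I hI => IsLocalRing.eq_maximalIdeal hI)
  infer_instance

/-- The valuation ring over a henselian DVR is the integral closure. -/
theorem mem_iff_isIntegral (W : ValuationSubring Ω) (hW : SGA7.LiesOver K R W) (a : Ω) :
    a ∈ W ↔ IsIntegral R a := by
  have hR : ∀ r : R, algebraMap R Ω r ∈ W := fun r => by
    rw [IsScalarTower.algebraMap_apply R K Ω]; exact hW.1 r
  letI : Algebra R W := (RingHom.codRestrict (algebraMap R Ω) W.toSubring hR).toAlgebra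
  haveI : IsScalarTower R W Ω := IsScalarTower.of_algebraMap_eq fun _ => rfl
  have hint : ∀ b : Ω, IsIntegral R b → b ∈ W := fun b hb => by
    obtain ⟨c, hc⟩ := IsIntegrallyClosed.isIntegral_iff.1 (hb.tower_top (A := W))
    exact hc ▸ c.2
  refine ⟨fun ha => ?_, hint a⟩
  rcases eq_or_ne a 0 with rfl | ha0
  · exact isIntegral_zero
  haveI : Algebra.IsSeparable K Ω := IsSepClosure.separable
  let E := IntermediateField.adjoin K ({a} : Set Ω)
  haveI : FiniteDimensional K E := IntermediateField.adjoin.finiteDimensional (Algebra.IsIntegral.isIntegral a)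
  haveI : IsScalarTower R E Ω := IsScalarTower.of_algebraMap_eq fun _ => rfl
  haveI := valuationRing_integralClosure (R := R) E
  haveI : IsFractionRing (integralClosure R E) E := integralClosure.isFractionRing_of_finite_extension K E
  let a' : E := ⟨a, IntermediateField.subset_adjoin K _ rfl⟩
  rcases ValuationRing.isInteger_or_isInteger (integralClosure R E) a' with ⟨c, hc⟩ | ⟨c, hc⟩
  · have := c.2.map (IsScalarTower.toAlgHom R E Ω)
    rwa [show (c : E) = a' from hc] at this
  · by_cases hu : IsUnit c
    · obtain ⟨d, rfl⟩ := hu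
      have h1 : ((d⁻¹ : (integralClosure R E)ˣ) : integralClosure R E).1 = a' := by
        have h2 : algebraMap (integralClosure R E) E ((d⁻¹ : (integralClosure R E)ˣ) : integralClosure R E) = a' := by
          rw [map_units_inv, hc, inv_inv]
        exact h2
      have := ((d⁻¹ : (integralClosure R E)ˣ) : integralClosure R E).2.map (IsScalarTower.toAlgHom R E Ω)
      rwa [h1] at this
    · -- a nonunit of the local integral closure cannot have an inverse in `W`
      exfalso
      haveI : Algebra.IsIntegral R (integralClosure R E) := inferInstance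
      let j : integralClosure R E →+* W := RingHom.codRestrict ((algebraMap E Ω).comp (algebraMap _ E)) W.toSubring
        fun b => hint _ (b.2.map (IsScalarTower.toAlgHom R E Ω))
      have hj : IsUnit (j c) := by
        refine IsUnit.of_mul_eq_one ⟨a, ha⟩ (Subtype.ext ?_)
        show (algebraMap E Ω (algebraMap _ E c)) * a = 1
        rw [hc, map_inv₀]
        exact inv_mul_cancel₀ ha0
      let p := (IsLocalRing.maximalIdeal W).comap j
      haveI : p.IsPrime := Ideal.comap_isPrime _ _
      have hcomp : p.comap (algebraMap R (integralClosure R E)) = IsLocalRing.maximalIdeal R := by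
        refine IsLocalRing.eq_maximalIdeal ?_
        refine Ideal.IsPrime.isMaximal inferInstance fun h => ?_
        obtain ⟨ϖ, hϖ⟩ := IsDiscreteValuationRing.exists_irreducible R
        have hmem : ϖ ∈ p.comap (algebraMap R (integralClosure R E)) := by
          show j (algebraMap R _ ϖ) ∈ IsLocalRing.maximalIdeal W
          rw [ValuationSubring.valuation_lt_one_iff]
          have e : ((j (algebraMap R _ ϖ) : W) : Ω) = algebraMap K Ω (algebraMap R K ϖ) := by
            rw [← IsScalarTower.algebraMap_apply R K Ω]; rfl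
          rw [e]
          exact hW.2 ϖ hϖ.not_isUnit
        rw [h, Ideal.mem_bot] at hmem
        exact hϖ.ne_zero hmem
      haveI : p.IsMaximal := Ideal.isMaximal_of_isIntegral_of_isMaximal_comap (R := R) p
        (by rw [hcomp]; infer_instance)
      haveI : IsLocalRing (integralClosure R E) := Groth.L27.Olivier.isLocalRing_integralClosure R E
      have : c ∈ p := by rw [IsLocalRing.eq_maximalIdeal ‹p.IsMaximal›]; exact hu
      exact this hj

/-- A finite Galois level at which the inertia group fixes a given finite subextension. -/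
theorem exists_level [IsGalois K Ω] (W : ValuationSubring Ω) (E : IntermediateField K Ω) [FiniteDimensional K E]
    (hE : ∀ σ : Ω ≃ₐ[K] Ω, SGA7.IsInertia W σ → σ ∈ E.fixingSubgroup) :
    ∃ L : IntermediateField K Ω, FiniteDimensional K L ∧ IsGalois K L ∧ E ≤ L ∧
      ∀ σ : Ω ≃ₐ[K] Ω, (∀ a : Ω, a ∈ W → a ∈ L → W.valuation (σ a - a) < 1) → σ ∈ E.fixingSubgroup := by
  classical
  let C : W → Set (Ω ≃ₐ[K] Ω) := fun a => {σ | W.valuation (σ a - a) < 1}
  have hclosed : ∀ a : W, IsClosed (C a) := fun a => by
    let M := IntermediateField.adjoin K ({(a : Ω)} : Set Ω)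
    haveI : FiniteDimensional K M := IntermediateField.adjoin.finiteDimensional (Algebra.IsIntegral.isIntegral _)
    have key : ∀ σ τ : Ω ≃ₐ[K] Ω, τ ∈ M.fixingSubgroup → (σ * τ) a = σ a := fun σ τ hτ => by
      rw [AlgEquiv.mul_apply, (IntermediateField.mem_fixingSubgroup_iff _ _).1 hτ _
        (IntermediateField.subset_adjoin K _ rfl)]
    refine ⟨isOpen_iff_mem_nhds.2 fun σ hσ => ?_⟩
    refine Filter.mem_of_superset (((Homeomorph.mulLeft σ).isOpenMap _ M.fixingSubgroup_isOpen).mem_nhds
      ⟨1, one_mem _, mul_one σ⟩) ?_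
    rintro _ ⟨τ, hτ, rfl⟩ h
    exact hσ (show W.valuation (σ a - a) < 1 by rw [← key σ τ hτ]; exact h)
  have hsub : Set.univ ∩ (⋂ a, C a) ⊆ (E.fixingSubgroup : Set (Ω ≃ₐ[K] Ω)) := fun σ ⟨_, hσ⟩ => hE σ fun y hy => by
    have h : W.valuation (σ y - y) < 1 := Set.mem_iInter.1 hσ ⟨y, hy⟩
    refine ⟨?_, h⟩
    simpa using W.add_mem _ _ ((W.valuation_le_one_iff _).1 h.le) hy
  obtain ⟨t, ht⟩ := (isCompact_univ.diff E.fixingSubgroup_isOpen).elim_finite_subfamily_closed C hclosed (by
    rw [Set.eq_empty_iff_forall_notMem]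
    rintro σ ⟨⟨-, hσ⟩, hσ'⟩
    exact hσ (hsub ⟨trivial, hσ'⟩))
  let E₁ := E ⊔ IntermediateField.adjoin K ((t.image (fun a : W => (a : Ω)) : Finset Ω) : Set Ω)
  haveI : FiniteDimensional K (IntermediateField.adjoin K ((t.image (fun a : W => (a : Ω)) : Finset Ω) : Set Ω)) :=
    IntermediateField.finiteDimensional_adjoin fun y _ => Algebra.IsIntegral.isIntegral y
  haveI : FiniteDimensional K E₁ := IntermediateField.finiteDimensional_sup _ _
  haveI : Normal K (IntermediateField.normalClosure K E₁ Ω) := inferInstance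
  refine ⟨IntermediateField.normalClosure K E₁ Ω, inferInstance, { },
    le_sup_left.trans (IntermediateField.le_normalClosure _), fun σ hσ => by_contra fun hσE => ?_⟩
  refine Set.eq_empty_iff_forall_notMem.1 ht σ ⟨⟨trivial, hσE⟩, Set.mem_iInter₂.2 fun a ha => ?_⟩
  exact hσ a a.2 ((le_sup_right.trans (IntermediateField.le_normalClosure E₁))
    (IntermediateField.subset_adjoin K _ (Finset.mem_coe.2 (Finset.mem_image_of_mem _ ha))))

end Val

end Groth.L26.Specialise
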