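import Groth.Agent.L26.Neron.Specialise
import Mathlib.AlgebraicGeometry.Morphisms.Etale

/-!
Inertia invariants among torsion points of a Néron model: both directions.
-/

set_option autoImplicit false
set_option linter.style.haveILetI false
set_option synthInstance.maxHeartbeats 200000
set_option backward.isDefEq.respectTransparency.types false
set_option backward.isDefEq.respectTransparency false

universe u

open CategoryTheory CategoryTheory.Limits MonoidalCategory CartesianMonoidalCategory MonObj AlgebraicGeometry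
open scoped nonZeroDivisors

noncomputable section

namespace Groth.L26.Specialise

variable {R K Ω : Type u} [CommRing R] [IsDomain R] [IsDiscreteValuationRing R] [HenselianLocalRing R]
  [Field K] [Algebra R K] [IsFractionRing R K] [Field Ω] [Algebra K Ω]

/-- A torsion point which specialises into the special fibre is fixed by inertia. -/
theorem fixed_of_specializes (W : ValuationSubring Ω) (hW : SGA7.LiesOver K R W)
    (N : Over (Spec (CommRingCat.of R))) [GrpObj N] [IsCommMonObj N] [Smooth N.hom] [IsSeparated N.hom]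
    [QuasiCompact N.hom] {m : ℕ} (hm : IsUnit (m : R))
    (y : SGA7.Pts Ω ((SGA7.genFib R K).obj N)) (hy : y ^ m = 1) (z : N.left) (hz : z ∈ SGA7.specialFibreSet R N)
    (hs : (y.left ≫ pullback.fst N.hom (Spec.map (CommRingCat.ofHom (algebraMap R K)))).base
      (IsLocalRing.closedPoint Ω) ⤳ z) (σ : Ω ≃ₐ[K] Ω) (hσ : SGA7.IsInertia W σ) : SGA7.galAct σ y = y := by
  let e := Spec.map (CommRingCat.ofHom (algebraMap R K))
  let F := Over.pullback e
  let ρ : R →+* W := RingHom.codRestrict ((algebraMap K Ω).comp (algebraMap R K)) W.toSubring hW.1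
  let U : Over (Spec (CommRingCat.of R)) := Over.mk (Spec.map (CommRingCat.ofHom (algebraMap K Ω)) ≫ e)
  let G : SGA7.Pts Ω (F.obj N) → (U ⟶ N) := fun v => Over.homMk (v.left ≫ pullback.fst N.hom e) (by
    show (v.left ≫ pullback.fst N.hom e) ≫ N.hom = _ ≫ e
    rw [Category.assoc, pullback.condition, ← Category.assoc]
    exact congrArg (· ≫ e) (Over.w v))
  have hGcomp : ∀ v (φ : N ⟶ N), G (v ≫ F.map φ) = G v ≫ φ := fun v φ => Over.OverMorphism.ext (by
    show (v.left ≫ (F.map φ).left) ≫ pullback.fst N.hom e = (v.left ≫ pullback.fst N.hom e) ≫ φ.left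
    rw [Category.assoc, Category.assoc]
    exact congrArg (v.left ≫ ·) (pullback.lift_fst _ _ _))
  let p : N ⟶ N := (𝟙 N) ^ m
  have hGp : G y ≫ p = toUnit U ≫ η[N] := by
    have hp : G y ≫ (𝟙 N) ^ m = G y ≫ (1 : N ⟶ N) := by
      rw [← hGcomp, ← hGcomp]
      congr 1
      rw [Functor.map_one, MonObj.comp_one,
        show F.map ((𝟙 N) ^ m) = (F.map (𝟙 N)) ^ m from F.homMonoidHom.map_pow (𝟙 N) m,
        CategoryTheory.Functor.map_id, MonObj.comp_pow, Category.comp_id, hy]
    rw [show G y ≫ p = _ from hp, MonObj.comp_one]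
    rfl
  haveI : Etale p.left := Groth.Agent.Neron.Torsion.etale_npow N m fun x => by
    obtain ⟨φ, -⟩ := Spec.map_surjective ((Spec (CommRingCat.of R)).fromSpecResidueField x)
    rw [← map_natCast φ.hom]
    exact (hm.map φ.hom).ne_zero
  have hη : η[N].left ≫ N.hom = (𝟙_ (Over (Spec (CommRingCat.of R)))).hom := Over.w _
  haveI : IsIso (𝟙_ (Over (Spec (CommRingCat.of R)))).hom := inferInstanceAs (IsIso (𝟙 _))
  haveI : IsClosedImmersion η[N].left := by
    haveI : IsClosedImmersion (η[N].left ≫ N.hom) := by rw [hη]; infer_instance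
    exact IsClosedImmersion.of_comp η[N].left N.hom
  let Zs := pullback p.left η[N].left
  let fst' : Zs ⟶ N.left := pullback.fst _ _
  haveI : IsClosedImmersion fst' := inferInstanceAs (IsClosedImmersion (pullback.fst _ _))
  haveI : Etale (pullback.snd p.left η[N].left) := MorphismProperty.pullback_snd _ _ inferInstance
  let g : Zs ⟶ Spec (CommRingCat.of R) := fst' ≫ N.hom
  have hg : g = pullback.snd p.left η[N].left ≫ (𝟙_ (Over (Spec (CommRingCat.of R)))).hom := by
    show pullback.fst _ _ ≫ N.hom = _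
    rw [← Over.w p, pullback.condition_assoc, hη]
  haveI : Etale g := by rw [hg]; infer_instance
  haveI : LocallyQuasiFinite g := inferInstance
  haveI : IsSeparated g := inferInstance
  haveI : QuasiCompact g := inferInstance
  let a₀ := y.left ≫ pullback.fst N.hom e
  let a : Spec (CommRingCat.of Ω) ⟶ Zs :=
    pullback.lift a₀ (toUnit U).left (congrArg CommaMorphism.left hGp)
  have ha : a ≫ fst' = a₀ := pullback.lift_fst _ _ _
  have hag : a ≫ g = Spec.map (CommRingCat.ofHom (algebraMap W Ω)) ≫ Spec.map (CommRingCat.ofHom ρ) := by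
    show a ≫ fst' ≫ N.hom = _
    rw [reassoc_of% ha, ← Spec.map_comp]
    exact (Over.w (G y)).trans (Spec.map_comp _ _).symm
  obtain ⟨z', rfl⟩ : z ∈ Set.range fst' := by
    refine hs.mem_closed fst'.isClosedEmbedding.isClosed_range ⟨a (IsLocalRing.closedPoint Ω), ?_⟩
    show (a ≫ fst') _ = _
    rw [ha]
    rfl
  have hs' : a (IsLocalRing.closedPoint Ω) ⤳ z' := by
    refine fst'.isClosedEmbedding.isInducing.specializes_iff.1 ?_
    show (a ≫ fst') _ ⤳ _
    rw [ha]
    exact hs
  haveI : IsFractionRing W Ω := inferInstance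
  obtain ⟨l, hl₁, hl₂⟩ := exists_lift_of_specializes ρ g a hag z' hz hs'
  refine Groth.L26.Unramified.galAct_eq_of_lift W hW N hm σ hσ y hy (l ≫ fst') ?_ ?_
  · rw [← Category.assoc]
    exact (congrArg (· ≫ fst') hl₁).trans ha
  · rw [Category.assoc]
    exact hl₂

omit [HenselianLocalRing R] [IsDiscreteValuationRing R] in
/-- A point defined over the fraction field of a local étale algebra specialises into the special fibre of a Néron
model. -/
theorem exists_special_point [IsLocalRing R] (N : Over (Spec (CommRingCat.of R))) (hN : SGA7.IsNeron R K N)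
    (P F : Type u) [CommRing P] [IsLocalRing P] [Algebra R P] [Algebra.Etale R P] [Field F] [Algebra K F]
    [Algebra R F] [IsScalarTower R K F] [Algebra P F] [IsScalarTower R P F]
    [IsLocalization (R⁰.map (algebraMap R P)) F]
    (hcl : (IsLocalRing.maximalIdeal P).comap (algebraMap R P) = IsLocalRing.maximalIdeal R)
    (xF : Spec (CommRingCat.of F) ⟶ ((SGA7.genFib R K).obj N).left)
    (hxF : xF ≫ ((SGA7.genFib R K).obj N).hom = Spec.map (CommRingCat.ofHom (algebraMap K F))) :
    ∃ z ∈ SGA7.specialFibreSet R N, ∀ q : Spec (CommRingCat.of Ω) ⟶ Spec (CommRingCat.of F),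
      ((q ≫ xF) ≫ pullback.fst N.hom (Spec.map (CommRingCat.ofHom (algebraMap R K)))).base
        (IsLocalRing.closedPoint Ω) ⤳ z := by
  have hpo := isPullback_SpecMap_of_isPushout _ _ _ _ (CommRingCat.isPushout_of_isLocalization
    (algebraMap R P) (algebraMap K F) (by
      rw [← IsScalarTower.algebraMap_eq, ← IsScalarTower.algebraMap_eq]) R⁰ (Rₘ := K) (Sₘ := F))
  let Y : Over (Spec (CommRingCat.of R)) := Over.mk (Spec.map (CommRingCat.ofHom (algebraMap R P)))
  haveI : Etale Y.hom := by
    show Etale (Spec.map _)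
    rw [HasRingHomProperty.Spec_iff (P := @Etale), CommRingCat.hom_ofHom, RingHom.etale_algebraMap]
    infer_instance
  let e := Spec.map (CommRingCat.ofHom (algebraMap R K))
  let yK : (SGA7.genFib R K).obj Y ⟶ (SGA7.genFib R K).obj N := Over.homMk (hpo.isoPullback.inv ≫ xF) (by
    show (hpo.isoPullback.inv ≫ xF) ≫ ((SGA7.genFib R K).obj N).hom = pullback.snd _ _
    rw [Category.assoc, hxF]
    exact hpo.isoPullback_inv_snd)
  obtain ⟨g, hg⟩ := (hN.2.2.2 Y inferInstance).2 yK
  have h1 : (hpo.isoPullback.inv ≫ xF) ≫ pullback.fst N.hom e = pullback.fst Y.hom e ≫ g.left :=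
    (congrArg (fun φ => CommaMorphism.left φ ≫ pullback.fst N.hom e) hg).symm.trans (pullback.lift_fst _ _ _)
  have h2 : xF ≫ pullback.fst N.hom e = Spec.map (CommRingCat.ofHom (algebraMap P F)) ≫ g.left := by
    rw [← cancel_epi hpo.isoPullback.inv, ← Category.assoc, h1]
    exact (congrArg (· ≫ g.left) hpo.isoPullback_inv_fst).symm.trans (Category.assoc _ _ _)
  refine ⟨g.left (IsLocalRing.closedPoint P), ?_, fun q => ?_⟩
  · show (g.left ≫ N.hom) (IsLocalRing.closedPoint P) = IsLocalRing.closedPoint R
    rw [Over.w g]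
    exact PrimeSpectrum.ext hcl
  · show ((q ≫ xF) ≫ pullback.fst N.hom e) _ ⤳ _
    rw [Category.assoc, h2, Scheme.Hom.comp_apply, Scheme.Hom.comp_apply]
    exact (IsLocalRing.specializes_closedPoint _).map g.left.continuous

omit [HenselianLocalRing R] [IsDiscreteValuationRing R] [IsDomain R] in
theorem comap_maximalIdeal_atPrime [IsLocalRing R] {B' B : Type u} [CommRing B'] [CommRing B] [Algebra R B']
    [Algebra R B] [Algebra B' B] [IsScalarTower R B' B] [Algebra.IsIntegral R B] (m : Ideal B) [m.IsMaximal]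
    [(m.comap (algebraMap B' B)).IsPrime] :
    (IsLocalRing.maximalIdeal (Localization.AtPrime (m.comap (algebraMap B' B)))).comap
      (algebraMap R (Localization.AtPrime (m.comap (algebraMap B' B)))) = IsLocalRing.maximalIdeal R := by
  rw [IsScalarTower.algebraMap_eq R B' (Localization.AtPrime (m.comap (algebraMap B' B))), ← Ideal.comap_comap,
    show (IsLocalRing.maximalIdeal (Localization.AtPrime (m.comap (algebraMap B' B)))).comap (algebraMap B' _) =
      m.comap (algebraMap B' B) from IsLocalization.AtPrime.under_maximalIdeal _ _,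
    Ideal.comap_comap, ← IsScalarTower.algebraMap_eq R B' B]
  exact IsLocalRing.eq_maximalIdeal (Ideal.isMaximal_comap_of_isIntegral_of_isMaximal (R := R) m)

variable [IsSepClosure K Ω]

set_option maxHeartbeats 1600000 in
/-- A point fixed by inertia specialises into the special fibre of the Néron model. -/
theorem specializes_of_fixed [Algebra R Ω] [IsScalarTower R K Ω] (W : ValuationSubring Ω)
    (hW : SGA7.LiesOver K R W) (N : Over (Spec (CommRingCat.of R))) (hN : SGA7.IsNeron R K N)
    (x : SGA7.Pts Ω ((SGA7.genFib R K).obj N))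
    (hx : ∀ σ : Ω ≃ₐ[K] Ω, SGA7.IsInertia W σ → SGA7.galAct σ x = x) :
    ∃ z ∈ SGA7.specialFibreSet R N,
      (x.left ≫ pullback.fst N.hom (Spec.map (CommRingCat.ofHom (algebraMap R K)))).base
        (IsLocalRing.closedPoint Ω) ⤳ z := by
  classical
  haveI : Algebra.IsSeparable K Ω := IsSepClosure.separable
  haveI : IsGalois K Ω := IsSepClosure.isGalois
  haveI : Smooth N.hom := hN.1
  haveI : LocallyOfFiniteType ((SGA7.genFib R K).obj N).hom :=
    inferInstanceAs (LocallyOfFiniteType (pullback.snd N.hom _))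
  obtain ⟨E, _, y, hyK, hyx, hstab⟩ := exists_field_def ((SGA7.genFib R K).obj N) x
  obtain ⟨L, _, _, hEL, hlev⟩ := exists_level W E fun σ hσ => hstab σ (hx σ hσ)
  let B := integralClosure R L
  haveI : IsLocalRing B := Groth.L27.Olivier.isLocalRing_integralClosure R L
  haveI : SMulCommClass (L ≃ₐ[K] L) R L := ⟨fun σ r l => by
    show σ (r • l) = r • σ l
    rw [Algebra.smul_def, Algebra.smul_def, map_mul, IsScalarTower.algebraMap_apply R K L, AlgEquiv.commutes]⟩
  have hact : ∀ (σ : L ≃ₐ[K] L) (b : B), algebraMap B L (σ • b) = σ (algebraMap B L b) := fun _ _ => rfl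
  let m : Ideal B := IsLocalRing.maximalIdeal B
  haveI : IsScalarTower R L Ω := IsScalarTower.of_algebraMap_eq fun _ => rfl
  have hBW : ∀ b : B, ((b : L) : Ω) ∈ W := fun b =>
    (mem_iff_isIntegral W hW _).2 (b.2.map (IsScalarTower.toAlgHom R L Ω))
  have hlt : ∀ b ∈ m, W.valuation ((b : L) : Ω) < 1 := fun b hb => by
    refine lt_of_le_of_ne ((W.valuation_le_one_iff _).2 (hBW b)) fun h1 => hb ?_
    have h0 : ((b : L) : Ω) ≠ 0 := fun h => by rw [h, map_zero] at h1; exact zero_ne_one h1
    have hinv : ((b : L) : Ω)⁻¹ ∈ W := (W.valuation_le_one_iff _).1 (by rw [map_inv₀, h1, inv_one])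
    have hint : IsIntegral R ((b : L)⁻¹) :=
      (isIntegral_algHom_iff (IsScalarTower.toAlgHom R L Ω) (algebraMap L Ω).injective).1 (by
        rw [map_inv₀]; exact (mem_iff_isIntegral W hW _).1 hinv)
    refine IsUnit.of_mul_eq_one ⟨_, hint⟩ (Subtype.ext ?_)
    exact mul_inv_cancel₀ fun h => h0 (by rw [h]; rfl)
  -- the fixed field of inertia contains the field of definition
  let Fx := IntermediateField.fixedField (m.inertia (L ≃ₐ[K] L))
  have hmem : ∀ c : E, (⟨c.1, hEL c.2⟩ : L) ∈ Fx := fun c => by
    rw [IntermediateField.mem_fixedField_iff]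
    intro τ hτ
    obtain ⟨σ, rfl⟩ := AlgEquiv.restrictNormalHom_surjective (F := K) (K₁ := L) Ω τ
    have hσ : σ ∈ E.fixingSubgroup := hlev σ fun a haW haL => by
      let b : B := ⟨⟨a, haL⟩, (isIntegral_algHom_iff (IsScalarTower.toAlgHom R L Ω)
        (algebraMap L Ω).injective).1 ((mem_iff_isIntegral W hW _).1 haW)⟩
      have h := hlt _ (hτ b)
      have e1 : ((((AlgEquiv.restrictNormalHom L) σ • b - b : B) : L) : Ω) = σ a - a := by
        show (((AlgEquiv.restrictNormalHom L) σ ⟨a, haL⟩ : L) : Ω) - a = σ a - a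
        congr 1
        exact AlgEquiv.restrictNormal_commutes σ L ⟨a, haL⟩
      rwa [e1] at h
    apply Subtype.ext
    exact (AlgEquiv.restrictNormal_commutes σ L ⟨c.1, hEL c.2⟩).trans
      ((IntermediateField.mem_fixingSubgroup_iff _ _).1 hσ c.1 c.2)
  let i : E →+* Fx :=
    { toFun := fun c => ⟨⟨c.1, hEL c.2⟩, hmem c⟩
      map_zero' := rfl
      map_one' := rfl
      map_add' := fun _ _ => rfl
      map_mul' := fun _ _ => rfl }
  -- the local ring of the integral closure in the fixed field
  let B' := integralClosure R Fx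
  haveI : IsScalarTower R Fx L := IsScalarTower.of_algebraMap_eq fun _ => rfl
  letI : Algebra B' B := ((IsScalarTower.toAlgHom R Fx L).mapIntegralClosure).toRingHom.toAlgebra
  letI algB'L : Algebra B' L := ((algebraMap B L).comp (algebraMap B' B)).toAlgebra
  haveI : @IsScalarTower B' B L Algebra.toSMul Algebra.toSMul algB'L.toSMul :=
    @IsScalarTower.of_algebraMap_eq B' B L _ _ _ _ _ algB'L fun _ => rfl
  haveI : IsScalarTower R B' B := IsScalarTower.of_algebraMap_eq fun r =>
    ((IsScalarTower.toAlgHom R Fx L).mapIntegralClosure.commutes r).symm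
  haveI : IsScalarTower B' Fx L := IsScalarTower.of_algebraMap_eq fun _ => rfl
  haveI hP : Algebra.Etale R (Localization.AtPrime (m.comap (algebraMap B' B))) :=
    Groth.L05.InertiaEtale.etale_atPrime hact m B'
  let m' := m.comap (algebraMap B' B)
  let P := Localization.AtPrime m'
  have hu : ∀ c : m'.primeCompl, IsUnit (algebraMap B' Fx c) := fun c => by
    refine Ne.isUnit fun h => c.2 ?_
    rw [show (c : B') = 0 from Subtype.ext h]
    exact m'.zero_mem
  let j : P →+* Fx := IsLocalization.lift hu
  letI : Algebra P Fx := j.toAlgebra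
  have hj : ∀ b : B', j (algebraMap B' P b) = b := IsLocalization.lift_eq hu
  have hjR : ∀ r : R, j (algebraMap R P r) = algebraMap R Fx r := fun r => by
    rw [IsScalarTower.algebraMap_apply R B' P, hj]
    rfl
  have hinj : Function.Injective j := (IsLocalization.lift_injective_iff hu).2 fun a b => by
    constructor
    · intro h; exact congrArg (algebraMap B' Fx) (IsLocalization.injective P m'.primeCompl_le_nonZeroDivisors h)
    · intro h; exact congrArg _ (Subtype.ext h)
  haveI : Algebra.IsAlgebraic K Fx := inferInstance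
  haveI : IsScalarTower R K Fx := IsScalarTower.of_algebraMap_eq fun r => Subtype.ext
    (IsScalarTower.algebraMap_apply R K L r)
  haveI hB'loc : IsLocalization (Algebra.algebraMapSubmonoid B' R⁰) Fx := IsIntegralClosure.isLocalization R K Fx B'
  haveI : IsLocalization (R⁰.map (algebraMap R P)) Fx := by
    refine (isLocalization_iff _ _).2 ⟨?_, fun f => ?_, fun {a b} h => ⟨1, by rw [hinj h]⟩⟩
    · rintro ⟨_, r, hr, rfl⟩
      show IsUnit (j (algebraMap R P r))
      rw [hjR, IsScalarTower.algebraMap_apply R K Fx]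
      exact ((IsFractionRing.to_map_ne_zero_of_mem_nonZeroDivisors hr).isUnit).map (algebraMap K Fx)
    · obtain ⟨⟨b, ⟨_, r, hr, rfl⟩⟩, hb⟩ := IsLocalization.surj (Algebra.algebraMapSubmonoid B' R⁰) f
      refine ⟨⟨algebraMap B' P b, ⟨_, r, hr, rfl⟩⟩, ?_⟩
      show f * j (algebraMap R P r) = j (algebraMap B' P b)
      rw [hjR, hj]
      exact hb
  haveI : IsScalarTower R P Fx := IsScalarTower.of_algebraMap_eq fun r => (hjR r).symm
  haveI : IsLocalRing P := inferInstance
  have hcl := comap_maximalIdeal_atPrime (R := R) (B' := B') (B := B) m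
  obtain ⟨z, hz, hs⟩ := exists_special_point (Ω := Ω) N hN P Fx hcl (Spec.map (CommRingCat.ofHom i) ≫ y) (by
    rw [Category.assoc, hyK, ← Spec.map_comp]
    rfl)
  refine ⟨z, hz, ?_⟩
  have h := hs (Spec.map (CommRingCat.ofHom ((algebraMap L Ω).comp (algebraMap Fx L))))
  have e0 : Spec.map (CommRingCat.ofHom ((algebraMap L Ω).comp (algebraMap Fx L))) ≫
      Spec.map (CommRingCat.ofHom i) ≫ y = x.left := by
    rw [← hyx, ← Spec.map_comp_assoc]
    rfl
  rwa [e0] at h

end Groth.L26.Specialise
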