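/-
Pseudo-torsors under a group with the mapping property have the mapping property.
-/
import Groth.Agent.L08.MulEtaleBC
import Mathlib.AlgebraicGeometry.Sites.Fpqc
import Mathlib.CategoryTheory.Monoidal.Cartesian.Over
import Groth.Prelude.Def_AlgGrp

set_option autoImplicit false
set_option linter.style.haveILetI false

universe u

open CategoryTheory CategoryTheory.Limits MonoidalCategory CartesianMonoidalCategory MonObj AlgebraicGeometry

namespace Groth.Agent.NeronL.Torsor

section
variable {S : Scheme.{u}} {S₀ : Scheme.{u}} (j : S₀ ⟶ S)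

theorem prod_hom_ext {A B : Over S} {W : Over S₀} (f g : W ⟶ (Over.pullback j).obj (A ⊗ B))
    (h₁ : f ≫ (Over.pullback j).map (fst A B) = g ≫ (Over.pullback j).map (fst A B))
    (h₂ : f ≫ (Over.pullback j).map (snd A B) = g ≫ (Over.pullback j).map (snd A B)) : f = g := by
  haveI := Over.mapPullbackAdj j |>.isRightAdjoint
  rw [← cancel_mono (CartesianMonoidalCategory.prodComparison (Over.pullback j) A B)]
  apply CartesianMonoidalCategory.hom_ext
  · simpa only [Category.assoc, CartesianMonoidalCategory.prodComparison_fst] using h₁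
  · simpa only [Category.assoc, CartesianMonoidalCategory.prodComparison_snd] using h₂

theorem exists_prod_lift {A B : Over S} {W : Over S₀} (p : W ⟶ (Over.pullback j).obj A)
    (q : W ⟶ (Over.pullback j).obj B) : ∃ l : W ⟶ (Over.pullback j).obj (A ⊗ B),
      l ≫ (Over.pullback j).map (fst A B) = p ∧ l ≫ (Over.pullback j).map (snd A B) = q := by
  haveI := Over.mapPullbackAdj j |>.isRightAdjoint
  refine ⟨lift p q ≫ inv (CartesianMonoidalCategory.prodComparison (Over.pullback j) A B), ?_, ?_⟩
  · rw [Category.assoc, CartesianMonoidalCategory.inv_prodComparison_map_fst, lift_fst]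
  · rw [Category.assoc, CartesianMonoidalCategory.inv_prodComparison_map_snd, lift_snd]

variable (N : Over S) [Smooth N.hom] [Surjective N.hom]

omit [Surjective N.hom] in
theorem smooth_fst (Z : Over S) : Smooth (fst Z N).left :=
  MorphismProperty.pullback_fst (P := @Smooth) Z.hom N.hom inferInstance

theorem surjective_fst (Z : Over S) : Surjective (fst Z N).left :=
  MorphismProperty.pullback_fst (P := @Surjective) Z.hom N.hom inferInstance

theorem epi_fst (Z : Over S) : Epi (fst Z N) := by
  haveI : Smooth (fst Z N).left := smooth_fst N Z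
  haveI : Surjective (fst Z N).left := surjective_fst N Z
  haveI : Epi (fst Z N).left := inferInstance
  exact Over.epi_of_epi_left _

theorem epi_map_fst (Z : Over S) : Epi ((Over.pullback j).map (fst Z N)) := by
  haveI : Smooth ((Over.pullback j).map (fst Z N)).left :=
    MorphismProperty.of_isPullback (P := @Smooth) (Groth.L08.MulEtale.isPullback_map j (fst Z N)).flip
      (smooth_fst N Z)
  haveI : Surjective ((Over.pullback j).map (fst Z N)).left :=
    MorphismProperty.of_isPullback (P := @Surjective) (Groth.L08.MulEtale.isPullback_map j (fst Z N)).flip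
      (surjective_fst N Z)
  haveI : Epi ((Over.pullback j).map (fst Z N)).left := inferInstance
  exact Over.epi_of_epi_left _

theorem exists_desc {Z Q : Over S} (f : Z ⊗ N ⟶ Q) (h : (Z ◁ fst N N) ≫ f = (Z ◁ snd N N) ≫ f) :
    ∃ g : Z ⟶ Q, fst Z N ≫ g = f := by
  haveI : Smooth (fst Z N).left := smooth_fst N Z
  haveI : Surjective (fst Z N).left := surjective_fst N Z
  let r : Z.left ⟶ Q.left := EffectiveEpi.desc (fst Z N).left f.left fun {W} g₁ g₂ hg => by
    let W' : Over S := Over.mk (g₁ ≫ (Z ⊗ N).hom)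
    have hw : g₂ ≫ (Z ⊗ N).hom = g₁ ≫ (Z ⊗ N).hom := by
      rw [← Over.w (fst Z N), ← Category.assoc, ← Category.assoc, hg]
    let m₁ : W' ⟶ Z ⊗ N := Over.homMk g₁ rfl
    let m₂ : W' ⟶ Z ⊗ N := Over.homMk g₂ hw
    have hm : m₁ ≫ fst Z N = m₂ ≫ fst Z N := Over.OverMorphism.ext hg
    let u : W' ⟶ Z ⊗ (N ⊗ N) := lift (m₁ ≫ fst Z N) (lift (m₁ ≫ snd Z N) (m₂ ≫ snd Z N))
    have u1 : u ≫ (Z ◁ fst N N) = m₁ := by
      apply CartesianMonoidalCategory.hom_ext <;> simp [u]
    have u2 : u ≫ (Z ◁ snd N N) = m₂ := by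
      apply CartesianMonoidalCategory.hom_ext <;> simp [u, hm]
    have h' : m₁ ≫ f = m₂ ≫ f := by rw [← u1, ← u2, Category.assoc, Category.assoc, h]
    exact congrArg CommaMorphism.left h'
  have hr : (fst Z N).left ≫ r = f.left := EffectiveEpi.fac _ _ _
  haveI : Epi (fst Z N).left := inferInstance
  exact ⟨Over.homMk r (by rw [← cancel_epi (fst Z N).left, reassoc_of% hr, Over.w f, Over.w]),
    Over.OverMorphism.ext hr⟩


theorem bijective_of_pseudoTorsor {G : Over S} [GrpObj G] [Smooth G.hom]
    (a : AlgGrp.Action G N) (ha : IsIso (lift a.act (snd G N)))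
    (hG : ∀ Z : Over S, Smooth Z.hom → Function.Bijective (fun g : Z ⟶ G => (Over.pullback j).map g))
    (Z : Over S) (hZ : Smooth Z.hom) :
    Function.Bijective (fun g : Z ⟶ N => (Over.pullback j).map g) := by
  let F := Over.pullback j
  let θ : G ⊗ N ⟶ N ⊗ N := lift a.act (snd G N)
  haveI : IsIso θ := ha
  have hs : ∀ {A B : Over S}, Smooth A.hom → Smooth B.hom → Smooth (A ⊗ B).hom := fun {A B} hA hB => by
    haveI := hA; haveI := hB
    exact inferInstanceAs (Smooth (pullback.fst A.hom B.hom ≫ A.hom))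
  have hθ1 : θ ≫ fst N N = a.act := lift_fst _ _
  have hθ2 : θ ≫ snd N N = snd G N := lift_snd _ _
  have hFθ2 : ∀ {W : Over S₀} (l : W ⟶ F.obj (N ⊗ N)),
      l ≫ inv (F.map θ) ≫ F.map (snd G N) = l ≫ F.map (snd N N) := fun l => by
    rw [← hθ2, F.map_comp, IsIso.inv_hom_id_assoc]
  have hinj : ∀ (W : Over S), Smooth W.hom → Function.Injective (fun g : W ⟶ N => F.map g) := by
    intro W hW f₁ f₂ h
    replace h : F.map f₁ = F.map f₂ := h
    have hl : F.map (lift f₁ f₂) = F.map (lift f₂ f₂) :=
      prod_hom_ext j _ _ (by rw [← F.map_comp, ← F.map_comp, lift_fst, lift_fst, h])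
        (by rw [← F.map_comp, ← F.map_comp, lift_snd, lift_snd])
    have e1 : lift f₁ f₂ ≫ inv θ ≫ fst G N = lift f₂ f₂ ≫ inv θ ≫ fst G N := by
      refine (hG W hW).1 ?_
      show F.map _ = F.map _
      rw [F.map_comp, hl, ← F.map_comp]
    have e2 : lift f₁ f₂ ≫ inv θ = lift f₂ f₂ ≫ inv θ := by
      apply CartesianMonoidalCategory.hom_ext
      · rw [Category.assoc, Category.assoc]; exact e1
      · rw [Category.assoc, Category.assoc, ← hθ2, IsIso.inv_hom_id_assoc, lift_snd, lift_snd]
    have e3 := congrArg (· ≫ fst N N) ((cancel_mono (inv θ)).1 e2)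
    simpa only [lift_fst] using e3
  refine ⟨hinj Z hZ, fun h => ?_⟩
  obtain ⟨L, hL1, hL2⟩ := exists_prod_lift j (F.map (fst Z N) ≫ h) (F.map (snd Z N))
  obtain ⟨r, hr⟩ := (hG (Z ⊗ N) (hs hZ inferInstance)).2 (L ≫ inv (F.map θ) ≫ F.map (fst G N))
  replace hr : F.map r = L ≫ inv (F.map θ) ≫ F.map (fst G N) := hr
  have hf : F.map (lift r (snd Z N) ≫ a.act) = F.map (fst Z N) ≫ h := by
    have e : F.map (lift r (snd Z N)) = L ≫ inv (F.map θ) :=
      prod_hom_ext j _ _ (by rw [← F.map_comp, lift_fst, hr, Category.assoc])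
        (by rw [← F.map_comp, lift_snd, Category.assoc, hFθ2, hL2])
    rw [← hθ1, F.map_comp, F.map_comp, e, Category.assoc, IsIso.inv_hom_id_assoc, hL1]
  obtain ⟨g, hg⟩ := exists_desc N (lift r (snd Z N) ≫ a.act) (hinj _ (hs hZ (hs inferInstance inferInstance)) (by
    show F.map _ = F.map _
    rw [F.map_comp (Z ◁ fst N N), F.map_comp (Z ◁ snd N N), hf, ← Category.assoc, ← Category.assoc, ← F.map_comp, ← F.map_comp,
      whiskerLeft_fst, whiskerLeft_fst]))
  haveI := epi_map_fst j N Z
  refine ⟨g, ?_⟩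
  show F.map g = h
  rw [← cancel_epi (F.map (fst Z N)), ← F.map_comp, hg, hf]

end

end Groth.Agent.NeronL.Torsor
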