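/-
Regularity of Weierstrass equations over a discrete valuation ring.
-/
import Groth.Agent.L06.DerLift
import Groth.Agent.L01.Regular
import Mathlib.AlgebraicGeometry.EllipticCurve.Affine.Point
import Mathlib.RingTheory.RegularLocalRing.Polynomial
import Mathlib.RingTheory.DiscreteValuationRing.Basic
import Mathlib.RingTheory.DedekindDomain.Dvr

universe u

open Polynomial IsLocalRing
open scoped Polynomial.Bivariate

namespace Groth.Agent.NeronL.Weier

/-- A hypersurface in a regular ring is regular where its equation has order one. -/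
theorem regular_quot {S A : Type u} [CommRing S] [IsRegularRing S] [CommRing A] (π : S →+* A)
    (hπ : Function.Surjective π) (F : S) (hker : RingHom.ker π = Ideal.span {F}) (P : Ideal A) [P.IsPrime]
    (h : ∀ [(P.comap π).IsPrime], algebraMap S (Localization.AtPrime (P.comap π)) F ∉
      maximalIdeal (Localization.AtPrime (P.comap π)) ^ 2) :
    IsRegularLocalRing (Localization.AtPrime P) := by
  let e : (S ⧸ Ideal.span {F}) ≃+* A := (Ideal.quotEquivOfEq hker.symm).trans (RingHom.quotientKerEquivOfSurjective hπ)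
  have he : ∀ s, e (Ideal.Quotient.mk _ s) = π s := fun s => by simp [e]
  let P' := P.comap (e : (S ⧸ Ideal.span {F}) →+* A)
  have : P'.IsPrime := Ideal.IsPrime.comap _
  have hp : P'.comap (Ideal.Quotient.mk (Ideal.span {F})) = P.comap π := by
    ext s; simp [P', he]
  have : (P.comap π).IsPrime := Ideal.IsPrime.comap _
  have hm : F ∈ P'.comap (Ideal.Quotient.mk (Ideal.span {F})) := by
    show Ideal.Quotient.mk _ F ∈ P'
    rw [Ideal.Quotient.eq_zero_iff_mem.mpr (Ideal.mem_span_singleton_self _)]
    exact P'.zero_mem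
  have key : ∀ (p : Ideal S) [p.IsPrime], p = P.comap π →
      IsRegularLocalRing (Localization.AtPrime p ⧸ Ideal.span {algebraMap S (Localization.AtPrime p) F}) := by
    intro p _ hp'
    subst hp'
    exact (Groth.L01.regular_quotient_of_notMem_sq
      (by rw [← Localization.AtPrime.map_eq_maximalIdeal]; exact Ideal.mem_map_of_mem _ (hp ▸ hm)) h).1
  have hreg : IsRegularLocalRing (Localization.AtPrime P') :=
    Groth.L06.DerLift.regularLocal_quotient_span F P' (key _ hp)
  have hmap : P'.primeCompl.map e.toMonoidHom = P.primeCompl := by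
    ext a
    exact ⟨by rintro ⟨x, hx, rfl⟩; exact hx, fun ha => ⟨e.symm a, by simpa [P', Ideal.primeCompl] using ha, by simp⟩⟩
  exact IsRegularLocalRing.of_ringEquiv
    (IsLocalization.ringEquivOfRingEquiv (Localization.AtPrime P') (Localization.AtPrime P) e hmap)

variable {R : Type u} [CommRing R] [IsDomain R] [IsDiscreteValuationRing R] (W : WeierstrassCurve.Affine R)

theorem regular_of_notMem_sq (P : Ideal W.CoordinateRing) [P.IsPrime]
    (h : ∀ [(P.comap (WeierstrassCurve.Affine.CoordinateRing.mk W)).IsPrime],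
      algebraMap R[X][Y] (Localization.AtPrime (P.comap (WeierstrassCurve.Affine.CoordinateRing.mk W))) W.polynomial ∉
        maximalIdeal (Localization.AtPrime (P.comap (WeierstrassCurve.Affine.CoordinateRing.mk W))) ^ 2) :
    IsRegularLocalRing (Localization.AtPrime P) :=
  regular_quot (S := R[X][Y]) _ AdjoinRoot.mk_surjective W.polynomial (Ideal.ext fun g => by
    rw [RingHom.mem_ker, AdjoinRoot.mk_eq_zero, Ideal.mem_span_singleton]) P h

/-- at the point `π = x = y = 0` -/
theorem regular_at_origin (h6' : W.a₆ ∉ maximalIdeal R ^ 2) (P : Ideal W.CoordinateRing) [P.IsPrime]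
    (hP : ∀ r ∈ maximalIdeal R, algebraMap R W.CoordinateRing r ∈ P)
    (hx : WeierstrassCurve.Affine.CoordinateRing.mk W (C X) ∈ P)
    (hy : WeierstrassCurve.Affine.CoordinateRing.mk W X ∈ P) : IsRegularLocalRing (Localization.AtPrime P) := by
  refine regular_of_notMem_sq W P ?_
  intro _ hm
  set p := P.comap (WeierstrassCurve.Affine.CoordinateRing.mk W) with hp
  have hpr : ∀ r ∈ maximalIdeal R, C (C r) ∈ p := fun r hr => hP r hr
  have hpx : C X ∈ p := hx
  have hpy : (Y : R[X][Y]) ∈ p := hy
  let ε : R[X][Y] →+* R := (evalRingHom 0).comp (evalRingHom 0)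
  have hrepr : ∀ g : R[X][Y], g - C (C (ε g)) ∈ p := by
    intro g
    have h1 : g - C (g.eval 0) ∈ p := by
      obtain ⟨c, hc⟩ := X_sub_C_dvd_sub_C_eval (a := (0 : R[X])) (p := g)
      rw [hc, map_zero, sub_zero]; exact Ideal.mul_mem_right _ _ hpy
    have h2 : C (g.eval 0) - C (C (ε g)) ∈ p := by
      obtain ⟨c, hc⟩ := X_sub_C_dvd_sub_C_eval (a := (0 : R)) (p := g.eval 0)
      show C (g.eval 0) - C (C ((g.eval 0).eval 0)) ∈ p
      rw [← map_sub, hc, map_zero, sub_zero, map_mul]; exact Ideal.mul_mem_right _ _ hpx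
    simpa using add_mem h1 h2
  have hε : ∀ g ∈ p, ε g ∈ maximalIdeal R := by
    intro g hg
    by_contra hne
    rw [mem_maximalIdeal, mem_nonunits_iff, not_not] at hne
    exact Ideal.IsPrime.ne_top ‹p.IsPrime› (Ideal.eq_top_of_isUnit_mem _
      (show C (C (ε g)) ∈ p by simpa using sub_mem hg (hrepr g)) ((hne.map C).map C))
  rw [← Localization.AtPrime.map_eq_maximalIdeal, ← Ideal.map_pow,
    IsLocalization.algebraMap_mem_map_algebraMap_iff p.primeCompl] at hm
  obtain ⟨s, hs, hsF⟩ := hm
  have h2 : ∀ g ∈ p ^ 2, ε g ∈ maximalIdeal R ^ 2 := fun g hg => by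
    have := Ideal.mem_map_of_mem ε hg
    rw [Ideal.map_pow] at this
    exact Ideal.pow_right_mono (Ideal.map_le_iff_le_comap.2 hε) 2 this
  have hsu : IsUnit (ε s) := by
    by_contra hne
    refine hs ?_
    simpa using add_mem (hrepr s) (hpr _ ((mem_maximalIdeal _).2 hne))
  have hsF' := h2 _ hsF
  rw [map_mul, Ideal.unit_mul_mem_iff_mem _ hsu] at hsF'
  refine h6' ?_
  have : ε W.polynomial = -W.a₆ := by
    simp [ε, WeierstrassCurve.Affine.polynomial]
  rw [this] at hsF'
  exact neg_mem_iff.1 hsF'

theorem regular (hΔ : W.Δ ≠ 0) (h3 : W.a₃ ∈ maximalIdeal R) (h4 : W.a₄ ∈ maximalIdeal R)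
    (h6 : W.a₆ ∈ maximalIdeal R) (h6' : W.a₆ ∉ maximalIdeal R ^ 2) (P : Ideal W.CoordinateRing) [hPp : P.IsPrime] :
    IsRegularLocalRing (Localization.AtPrime P) := by
  set p := P.comap (WeierstrassCurve.Affine.CoordinateRing.mk W) with hp
  have hppr : p.IsPrime := Ideal.IsPrime.comap _
  have hF : W.polynomial ∈ p := by
    show WeierstrassCurve.Affine.CoordinateRing.mk W W.polynomial ∈ P
    rw [AdjoinRoot.mk_self]
    exact P.zero_mem
  by_cases hY : W.polynomialY ∈ p
  swap
  · refine regular_of_notMem_sq W P ?_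
    intro _
    refine Groth.L06.DerLift.notMem_sq_of_der _ ((derivative' (R := R[X])).restrictScalars ℤ) hF ?_
    convert hY using 2
    show derivative W.polynomial = _
    simp only [WeierstrassCurve.Affine.polynomial, WeierstrassCurve.Affine.polynomialY, derivative_sub, derivative_add,
      derivative_mul, derivative_C, derivative_X, derivative_pow, map_add, map_ofNat]
    simp [← map_ofNat C]
  by_cases hX : W.polynomialX ∈ p
  swap
  · obtain ⟨D, hDY, hDC⟩ := Groth.L06.DerLift.exists_polynomial_der R[X]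
      (D := (derivative' (R := R)).restrictScalars ℤ)
    have hDC' : ∀ r : R[X], D (C r) = C (derivative r) := hDC
    refine regular_of_notMem_sq W P ?_
    intro _
    refine Groth.L06.DerLift.notMem_sq_of_der _ D hF ?_
    convert hX using 2
    show D (Y ^ 2 + C (C W.a₁ * X + C W.a₃) * Y - C (X ^ 3 + C W.a₂ * X ^ 2 + C W.a₄ * X + C W.a₆)) = _
    rw [map_sub, map_add, D.leibniz, D.leibniz_pow, hDY, hDC', hDC', WeierstrassCurve.Affine.polynomialX]
    simp [derivative_pow]
    ring
  let q : R[X][Y] →+* p.ResidueField := algebraMap _ _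
  have hq : ∀ g, q g = 0 ↔ g ∈ p := fun g => Ideal.algebraMap_residueField_eq_zero
  have e1 := (hq _).2 hF
  have e2 := (hq _).2 hY
  have e3 := (hq _).2 hX
  simp only [WeierstrassCurve.Affine.polynomial, WeierstrassCurve.Affine.polynomialY,
    WeierstrassCurve.Affine.polynomialX, map_sub, map_add, map_mul, map_pow] at e1 e2 e3
  set φ : R →+* p.ResidueField := q.comp (C.comp C) with hφ
  have hφa : ∀ r, q (C (C r)) = φ r := fun r => rfl
  simp only [hφa] at e1 e2 e3
  set x := q (C X)
  set y := q Y
  by_cases hm : maximalIdeal R ≤ RingHom.ker φ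
  · rw [hm h3, hm h4, hm h6] at e1
    rw [hm h3] at e2
    rw [hm h4] at e3
    rw [map_ofNat, map_ofNat] at e3
    rw [map_ofNat] at e2
    have hx3 : x ^ 3 = 0 := by linear_combination 2 * e1 - x * e3 - y * e2
    have hx0 : x = 0 := pow_eq_zero_iff three_ne_zero |>.1 hx3
    have hy0 : y = 0 := by
      rw [hx0] at e1
      exact pow_eq_zero_iff two_ne_zero |>.1 (by linear_combination e1)
    exact regular_at_origin W h6' P (fun r hr => (hq _).1 (hm hr)) ((hq _).1 hx0) ((hq _).1 hy0)
  · exfalso
    have hinj : Function.Injective φ := by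
      rw [RingHom.injective_iff_ker_eq_bot]
      by_contra hne
      have hprime : (RingHom.ker φ).IsPrime := RingHom.ker_isPrime φ
      exact hm (eq_maximalIdeal (hprime.isMaximal hne)).ge
    have hns := ((WeierstrassCurve.map W φ).toAffine.equation_iff_nonsingular_of_Δ_ne_zero (x := x) (y := y)
      (by rw [WeierstrassCurve.map_Δ]; exact (map_ne_zero_iff _ hinj).2 hΔ)).1
    rw [WeierstrassCurve.Affine.equation_iff', WeierstrassCurve.Affine.nonsingular_iff',
      WeierstrassCurve.Affine.equation_iff'] at hns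
    simp only [WeierstrassCurve.map_a₁, WeierstrassCurve.map_a₂, WeierstrassCurve.map_a₃,
      WeierstrassCurve.map_a₄, WeierstrassCurve.map_a₆] at hns
    rw [map_ofNat, map_ofNat] at e3
    rw [map_ofNat] at e2
    rcases (hns (by linear_combination e1)).2 with h | h
    · exact h (by linear_combination e3)
    · exact h (by linear_combination e2)

end Groth.Agent.NeronL.Weier
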